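import Mathlib
import Cfsg.Prelude.Def_OddOrderLocal
import Cfsg.Agent.Lib.Helper22.Signalizer
import Cfsg.Agent.Lib.Helper24.InvHall
import Cfsg.Agent.Lib.Helper24.SylowInv
import Cfsg.Agent.Lib.Helper24.CoprimeAbelian
import Cfsg.Agent.Lib.Helper24.Omega1
import Cfsg.Agent.Lib.Helper32.Transitivity
import Cfsg.Agent.Lib.Helper32.PGroupCenter
import Cfsg.Agent.Lib.Helper1.SZB
import Cfsg.Agent.Lib.Helper47.Asym3
import Cfsg.Agent.Lib.Helper47.PCoreOf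
import Cfsg.Agent.Lib.Helper64.BG9

set_option autoImplicit false

universe u

namespace Cfsg.Agent.Lib.Helper50

open Subgroup Cfsg

variable {G : Type u} [Group G]

/-- A `t`-group `N` normalizing a nontrivial `t`-group `X` has a nontrivial fixed point on it. -/
theorem exists_fixed_of_pgroup_normalizer [Finite G] {t : ℕ} [Fact t.Prime] (N X : Subgroup G)
    (hN : IsPGroup t N) (hX : IsPGroup t X) (hNX : N ≤ normalizer (X : Set G)) (hX1 : X ≠ ⊥) :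
    ∃ x ∈ X, x ≠ 1 ∧ x ∈ centralizer (N : Set G) := by
  have hQ : IsPGroup t ↥(N ⊔ X) := IsPGroup.to_sup_of_normal_right' hN hX hNX
  have hXQ : X ≤ N ⊔ X := le_sup_right
  have hQn : N ⊔ X ≤ normalizer (X : Set G) := sup_le hNX le_normalizer
  have hn : (X.subgroupOf (N ⊔ X)).Normal := (normal_subgroupOf_iff_le_normalizer hXQ).mpr hQn
  have hne : X.subgroupOf (N ⊔ X) ≠ ⊥ := by
    obtain ⟨a, ha⟩ := Subgroup.ne_bot_iff_exists_ne_one.mp hX1
    intro h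
    apply ha
    have hmem : (⟨(a : G), hXQ a.2⟩ : ↥(N ⊔ X)) ∈ X.subgroupOf (N ⊔ X) := by
      rw [mem_subgroupOf]
      exact a.2
    rw [h, mem_bot] at hmem
    apply Subtype.ext
    have := congrArg Subtype.val hmem
    simpa using this
  obtain ⟨x, hxX, hxc, hx1⟩ :=
    Cfsg.Agent.Lib.Helper32.exists_ne_one_mem_normal_inf_center hQ (X.subgroupOf (N ⊔ X)) hne
  refine ⟨(x : G), ?_, ?_, ?_⟩
  · simpa [mem_subgroupOf] using hxX
  · intro h
    apply hx1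
    apply Subtype.ext
    simpa using h
  · rw [mem_centralizer_iff]
    intro n hn
    have hnQ : n ∈ N ⊔ X := (le_sup_left : N ≤ N ⊔ X) hn
    have := Subgroup.mem_center_iff.mp hxc ⟨n, hnQ⟩
    have h2 := congrArg Subtype.val this
    simpa using h2

/-- A cyclic group of exponent `t` has order dividing `t`. -/
theorem card_dvd_of_isCyclic_of_exp [Finite G] {t : ℕ} (B : Subgroup G)
    (hexp : ∀ b ∈ B, b ^ t = 1) (hc : IsCyclic B) : Nat.card B ∣ t := by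
  have h1 : Monoid.exponent B = Nat.card B := IsCyclic.exponent_eq_card
  rw [← h1]
  apply Monoid.exponent_dvd_of_forall_pow_eq_one
  intro g
  apply Subtype.ext
  simpa using hexp g.1 g.2

/-- two nontrivial elements of `B` lying in subgroups meeting trivially: `B` of exponent `t` is
not cyclic -/
theorem not_isCyclic_of_two [Finite G] {t : ℕ} [ht : Fact t.Prime] (B X₁ X₂ : Subgroup G)
    (hexp : ∀ b ∈ B, b ^ t = 1) (hdisj : X₁ ⊓ X₂ = ⊥) (x₁ x₂ : G)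
    (h1 : x₁ ∈ B) (h1' : x₁ ∈ X₁) (h1n : x₁ ≠ 1) (h2 : x₂ ∈ B) (h2' : x₂ ∈ X₂) (h2n : x₂ ≠ 1) :
    ¬ IsCyclic B := by
  intro hc
  have hdvd := card_dvd_of_isCyclic_of_exp B hexp hc
  have hcard : Nat.card B = t := by
    rcases (Nat.dvd_prime ht.out).mp hdvd with h | h
    · exfalso
      have hB : B = ⊥ := Subgroup.card_eq_one.mp h
      rw [hB, mem_bot] at h1
      exact h1n h1
    · exact h
  have hg : (⟨x₁, h1⟩ : B) ≠ 1 := by
    intro h
    apply h1n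
    have := congrArg Subtype.val h
    simpa using this
  have htop := zpowers_eq_top_of_prime_card hcard hg
  have hmem : (⟨x₂, h2⟩ : B) ∈ zpowers (⟨x₁, h1⟩ : B) := by rw [htop]; trivial
  obtain ⟨k, hk⟩ := Subgroup.mem_zpowers_iff.mp hmem
  have hk' : x₁ ^ k = x₂ := by
    have := congrArg Subtype.val hk
    simpa using this
  have hx2 : x₂ ∈ X₁ ⊓ X₂ := ⟨hk' ▸ X₁.zpow_mem h1' k, h2'⟩
  rw [hdisj, mem_bot] at hx2
  exact h2n hx2

/-- Frattini: a `t`-group `Z` not inside `M` is not inside `(Z ∩ M) Z'`. -/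
theorem not_le_inf_sup_commutator [Finite G] {t : ℕ} [Fact t.Prime] (Z M : Subgroup G)
    (hZ : IsPGroup t Z) (h : ¬ Z ≤ M) : ¬ Z ≤ (Z ⊓ M) ⊔ ⁅Z, Z⁆ := by
  intro hle
  apply h
  have hcomm : ⁅Z, Z⁆ ≤ Z := Subgroup.commutator_le.2 (fun a ha b hb =>
    Z.mul_mem (Z.mul_mem (Z.mul_mem ha hb) (Z.inv_mem ha)) (Z.inv_mem hb))
  have h1 : ((Z ⊓ M) ⊔ ⁅Z, Z⁆).subgroupOf Z = ⊤ := by
    rw [eq_top_iff]
    intro z _
    rw [mem_subgroupOf]
    exact hle z.2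
  rw [subgroupOf_sup inf_le_left hcomm] at h1
  have h2 : (⁅Z, Z⁆ : Subgroup G).subgroupOf Z = commutator ↥Z := by
    rw [_root_.commutator_def]
    have : (⁅Z, Z⁆ : Subgroup G) = Subgroup.map Z.subtype (⁅(⊤ : Subgroup ↥Z), (⊤ : Subgroup ↥Z)⁆) := by
      rw [map_commutator, ← MonoidHom.range_eq_map, Z.range_subtype]
    rw [this]
    ext z
    rw [mem_subgroupOf]
    constructor
    · rintro ⟨w, hw, hwz⟩
      have : w = z := Subtype.ext (by simpa using hwz)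
      rw [← this]; exact hw
    · intro hz
      exact ⟨z, hz, rfl⟩
  rw [h2] at h1
  have h3 : (Z ⊓ M).subgroupOf Z ⊔ frattini ↥Z = ⊤ := by
    rw [eq_top_iff, ← h1]
    exact sup_le_sup_left (Cfsg.Agent.Lib.Helper24.commutator_le_frattini_of_isPGroup hZ) _
  have h4 := frattini_nongenerating h3
  intro z hz
  have : (⟨z, hz⟩ : Z) ∈ (Z ⊓ M).subgroupOf Z := by rw [h4]; trivial
  rw [mem_subgroupOf] at this
  exact this.2

/-- two hyperplanes of an elementary abelian group of rank at least 3 meet nontrivially -/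
theorem exists_ne_one_mem_inf_of_index_le [Finite G] {p : ℕ} [hp : Fact p.Prime]
    (E B₁ B₂ : Subgroup G) (hE3 : p ^ 3 ≤ Nat.card E) (hB₁ : B₁ ≤ E) (hB₂ : B₂ ≤ E)
    (h₁ : Nat.card E ≤ Nat.card B₁ * p) (h₂ : Nat.card E ≤ Nat.card B₂ * p) :
    ∃ c ∈ B₁ ⊓ B₂, c ≠ 1 := by
  by_contra hno
  have hbot : B₁ ⊓ B₂ = ⊥ := by
    rw [eq_bot_iff]
    intro c hc
    rw [mem_bot]
    by_contra hc1
    exact hno ⟨c, hc, hc1⟩
  have hrel : ∀ B : Subgroup G, B ≤ E → Nat.card E ≤ Nat.card B * p → B.relIndex E ≤ p := by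
    intro B hB hcard
    have h1 : Nat.card B * B.relIndex E = Nat.card E := by
      have := Subgroup.card_mul_index (B.subgroupOf E)
      rw [Nat.card_congr (Subgroup.subgroupOfEquivOfLe hB).toEquiv] at this
      exact this
    have hpos : 0 < Nat.card B := Nat.card_pos
    rw [← h1] at hcard
    exact Nat.le_of_mul_le_mul_left hcard hpos
  have h3 : (B₁ ⊓ B₂).relIndex E ≤ B₁.relIndex E * B₂.relIndex E := relIndex_inf_le
  rw [hbot, relIndex_bot_left] at h3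
  have h4 : Nat.card E ≤ p * p := h3.trans (Nat.mul_le_mul (hrel B₁ hB₁ h₁) (hrel B₂ hB₂ h₂))
  have h5 : p * p < p ^ 3 := by
    have := hp.out.one_lt
    calc p * p = p ^ 2 := (sq p).symm
      _ < p ^ 3 := Nat.pow_lt_pow_right this (by norm_num)
  omega

/-- an element normalizing `H` and `K` normalizes `H ⊓ K` -/
theorem mem_normalizer_inf {H K : Subgroup G} {g : G} (hH : g ∈ normalizer (H : Set G))
    (hK : g ∈ normalizer (K : Set G)) : g ∈ normalizer ((H ⊓ K : Subgroup G) : Set G) := by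
  rw [← Cfsg.Agent.Lib.Helper33.cj_eq_self_iff] at hH hK ⊢
  rw [Cfsg.Agent.Lib.Helper33.cj_inf, hH, hK]

/-- an element normalizing `H` and `K` normalizes `⁅H, K⁆` -/
theorem mem_normalizer_commutator {H K : Subgroup G} {g : G} (hH : g ∈ normalizer (H : Set G))
    (hK : g ∈ normalizer (K : Set G)) : g ∈ normalizer ((⁅H, K⁆ : Subgroup G) : Set G) := by
  rw [← Cfsg.Agent.Lib.Helper33.cj_eq_self_iff] at hH hK ⊢
  rw [Cfsg.Agent.Lib.Helper33.cj_def] at hH hK ⊢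
  rw [map_commutator, hH, hK]

theorem centralizer_zpowers_eq (c : G) :
    centralizer ((zpowers c : Subgroup G) : Set G) = centralizer ({c} : Set G) := by
  apply le_antisymm
  · apply centralizer_le
    intro x hx
    rw [Set.mem_singleton_iff] at hx
    rw [hx]
    exact mem_zpowers c
  · intro g hg
    rw [mem_centralizer_iff] at hg ⊢
    intro x hx
    obtain ⟨k, rfl⟩ := mem_zpowers_iff.mp hx
    have h1 : c * g = g * c := hg c rfl
    have h2 : Commute c g := h1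
    exact (h2.zpow_left k).eq

/-- core of the linking lemma: the normalizer of a nontrivial `t`-subgroup `N ≤ M ∩ C(c)` lies in
`M`. -/
theorem linking_core [Finite G] (hG : IsMinSimpleOddOrder G) {p t : ℕ} [hp : Fact p.Prime]
    [ht : Fact t.Prime] (hpt : p ≠ t) (M Z : Subgroup G) (c : G) (hc1 : c ≠ 1) (hcp : c ^ p = 1)
    (hcM : c ∈ M) (hZn : M ≤ normalizer (Z : Set G)) (hZt : IsPGroup t Z)
    (hZexp : ∀ x ∈ Z, x ^ t = 1) (hnc : ¬ IsCyclic Z)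
    (hU : ∀ B H : Subgroup G, B ≤ Z → ¬ IsCyclic B → B ≤ H → H ≠ ⊤ → H ≤ M)
    (hcent : ¬ centralizer ({c} : Set G) ≤ M)
    (L : Subgroup G) (hL1 : L ≠ ⊥) (hLZ : L ≤ Z) (hLc : L ≤ centralizer ({c} : Set G))
    (hLd : ¬ L ≤ ⁅Z, Z⁆)
    (N : Subgroup G) (hN : IsPGroup t N) (hN1 : N ≠ ⊥) (hNM : N ≤ M)
    (hNc : N ≤ centralizer ({c} : Set G)) :
    normalizer (N : Set G) ≤ M := by
  have hsimple : IsSimpleGroup G := hG.2.1
  have hCne : centralizer ({c} : Set G) ≠ ⊤ :=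
    Cfsg.Agent.Lib.Helper64.BG9.centralizer_singleton_ne_top hG hc1
  -- `X₁ = C_Z(c)` is cyclic of order `t`
  set X₁ : Subgroup G := Z ⊓ centralizer ({c} : Set G) with hX₁
  have hX₁exp : ∀ b ∈ X₁, b ^ t = 1 := fun b hb => hZexp b hb.1
  have hX₁c : IsCyclic X₁ := by
    by_contra hnc'
    exact hcent (hU X₁ _ inf_le_left hnc' inf_le_right hCne)
  have hLX₁ : L ≤ X₁ := le_inf hLZ hLc
  have hX₁1 : X₁ ≠ ⊥ := fun h => hL1 (le_bot_iff.mp (h ▸ hLX₁))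
  have hX₁card : Nat.card X₁ = t := by
    rcases (Nat.dvd_prime ht.out).mp (card_dvd_of_isCyclic_of_exp X₁ hX₁exp hX₁c) with h | h
    · exact absurd (Subgroup.card_eq_one.mp h) hX₁1
    · exact h
  have hX₁Z' : X₁ ⊓ ⁅Z, Z⁆ = ⊥ := by
    by_contra hne
    have h1 : Nat.card ↥(X₁ ⊓ ⁅Z, Z⁆) ∣ t := hX₁card ▸ Subgroup.card_dvd_of_le inf_le_left
    rcases (Nat.dvd_prime ht.out).mp h1 with h | h
    · exact hne (Subgroup.card_eq_one.mp h)
    · have h2 : X₁ ⊓ ⁅Z, Z⁆ = X₁ :=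
        Subgroup.eq_of_le_of_card_ge inf_le_left (by rw [h, hX₁card])
      apply hLd
      exact hLX₁.trans (h2 ▸ inf_le_right)
  -- normalizing facts
  have hNZ : N ≤ normalizer (Z : Set G) := hNM.trans hZn
  have hNcc : N ≤ normalizer ((centralizer ({c} : Set G) : Subgroup G) : Set G) :=
    hNc.trans le_normalizer
  have hNX₁ : N ≤ normalizer (X₁ : Set G) := fun n hn =>
    mem_normalizer_inf (hNZ hn) (hNcc hn)
  have hX₁t : IsPGroup t X₁ := hZt.to_le inf_le_left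
  -- the second piece
  obtain ⟨X₂, hX₂Z, hX₂1, hNX₂, hdisj⟩ : ∃ X₂ : Subgroup G, X₂ ≤ Z ∧ X₂ ≠ ⊥ ∧
      N ≤ normalizer (X₂ : Set G) ∧ X₁ ⊓ X₂ = ⊥ := by
    by_cases hab : ⁅Z, Z⁆ = ⊥
    · -- abelian case
      have hZc : IsMulCommutative Z := by
        have h1 : Z ≤ centralizer (Z : Set G) := commutator_eq_bot_iff_le_centralizer.mp hab
        refine ⟨⟨fun a b => ?_⟩⟩
        apply Subtype.ext
        have := mem_centralizer_iff.mp (h1 a.2) b b.2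
        simpa using this.symm
      have hCZ : zpowers c ≤ normalizer (Z : Set G) := by
        rw [zpowers_le]
        exact hZn hcM
      have hcardC : Nat.card (zpowers c) = p := by
        rw [Nat.card_zpowers]
        exact orderOf_eq_prime hcp hc1
      obtain ⟨k, hk⟩ := IsPGroup.exists_card_eq hZt
      have hcop : (Nat.card (zpowers c)).Coprime (Nat.card Z) := by
        rw [hcardC, hk]
        exact Nat.Coprime.pow_right k ((Nat.coprime_primes hp.out ht.out).mpr hpt)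
      have h0 := Cfsg.Agent.Lib.Helper24.commutator_inf_centralizer_eq_bot_of_abelian
        Z (zpowers c) hCZ hcop
      rw [centralizer_zpowers_eq] at h0
      refine ⟨⁅Z, zpowers c⁆, Cfsg.Agent.Lib.Helper24.commutator_le_of_le_normalizer Z _ hCZ,
        ?_, ?_, ?_⟩
      · intro h
        have h1 : Z ≤ centralizer ((zpowers c : Subgroup G) : Set G) :=
          commutator_eq_bot_iff_le_centralizer.mp h
        rw [centralizer_zpowers_eq] at h1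
        exact hcent (hU Z _ le_rfl hnc h1 hCne)
      · intro n hn
        apply mem_normalizer_commutator (hNZ hn)
        have hnc' : n ∈ centralizer ((zpowers c : Subgroup G) : Set G) := by
          rw [centralizer_zpowers_eq]; exact hNc hn
        exact centralizer_le_normalizer _ hnc'
      · rw [eq_bot_iff]
        intro x hx
        rw [← h0]
        exact ⟨hx.2, hx.1.2⟩
    · -- nonabelian case
      refine ⟨⁅Z, Z⁆, ?_, hab, ?_, hX₁Z'⟩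
      · exact Subgroup.commutator_le.2 (fun a ha b hb =>
          Z.mul_mem (Z.mul_mem (Z.mul_mem ha hb) (Z.inv_mem ha)) (Z.inv_mem hb))
      · intro n hn
        exact mem_normalizer_commutator (hNZ hn) (hNZ hn)
  have hX₂t : IsPGroup t X₂ := hZt.to_le hX₂Z
  obtain ⟨x₁, hx₁X, hx₁1, hx₁N⟩ := exists_fixed_of_pgroup_normalizer N X₁ hN hX₁t hNX₁ hX₁1
  obtain ⟨x₂, hx₂X, hx₂1, hx₂N⟩ := exists_fixed_of_pgroup_normalizer N X₂ hN hX₂t hNX₂ hX₂1
  set B : Subgroup G := Z ⊓ centralizer (N : Set G) with hB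
  have hBnc : ¬ IsCyclic B :=
    not_isCyclic_of_two B X₁ X₂ (fun b hb => hZexp b hb.1) hdisj x₁ x₂
      ⟨hx₁X.1, hx₁N⟩ hx₁X hx₁1 ⟨hX₂Z hx₂X, hx₂N⟩ hx₂X hx₂1
  have hNtop : N ≠ ⊤ := fun h => hCne (top_le_iff.mp (h ▸ hNc))
  have hNNtop : normalizer (N : Set G) ≠ ⊤ :=
    Cfsg.Agent.Lib.Helper32.normalizer_ne_top_of_simple hN1 hNtop
  exact hU B _ inf_le_left hBnc (inf_le_right.trans (centralizer_le_normalizer _)) hNNtop

/-- a `t`-group is a `π(A)'`-group when `A` is a nontrivial `p`-group, `p ≠ t` -/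
theorem isPi_of_isPGroup [Finite G] {p t : ℕ} [Fact p.Prime] [ht : Fact t.Prime] (hpt : p ≠ t)
    {A L : Subgroup G} (hAp : IsPGroup p A) (hA : A ≠ ⊥) (hL : IsPGroup t L) :
    Cfsg.Agent.Lib.Helper62.IsPi (primesNotDvd (Nat.card A)) L := by
  intro r hr hrd
  obtain ⟨k, hk⟩ := hL.exists_card_eq
  rw [hk] at hrd
  have h1 := hr.dvd_of_dvd_pow hrd
  have h2 : r = t := (Nat.prime_dvd_prime_iff_eq hr ht.out).mp h1
  rw [h2, Cfsg.Agent.Lib.Helper32.mem_primesNotDvd_card_iff hAp hA]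
  exact ⟨ht.out, hpt.symm⟩

/-- one side of the set-up of the linking lemma -/
theorem linking_side [Finite G] {p t : ℕ} [hp : Fact p.Prime] [ht : Fact t.Prime] (hpt : p ≠ t)
    (A E : Subgroup G) (hAc : IsMulCommutative A) (hEA : E ≤ A) (hE : IsElementaryAbelian p E)
    (M M' Z : Subgroup G) (hC : centralizer (A : Set G) ≤ M) (hZn : M ≤ normalizer (Z : Set G))
    (hZt : IsPGroup t Z) (h : ¬ Z ≤ M') :
    ∃ B L : Subgroup G, B ≤ E ∧ Nat.card E ≤ Nat.card B * p ∧ L ≤ Z ∧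
      L ≤ centralizer (B : Set G) ∧ L ≠ ⊥ ∧ ¬ L ≤ M' ∧ ¬ L ≤ ⁅Z, Z⁆ ∧
      centralizer (A : Set G) ≤ normalizer (L : Set G) := by
  have hAcent : A ≤ centralizer (A : Set G) := by
    intro a ha
    rw [mem_centralizer_iff]
    intro b hb
    have := hAc.is_comm.comm (⟨b, hb⟩ : A) ⟨a, ha⟩
    exact congrArg Subtype.val this
  have hpZ : ¬ p ∣ Nat.card Z := by
    obtain ⟨k, hk⟩ := hZt.exists_card_eq
    rw [hk]
    intro hd
    have := hp.out.dvd_of_dvd_pow hd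
    exact hpt ((Nat.prime_dvd_prime_iff_eq hp.out ht.out).mp this)
  have hEZ : E ≤ normalizer (Z : Set G) := (hEA.trans hAcent).trans (hC.trans hZn)
  obtain ⟨B, hBE, hBc, hL⟩ := Cfsg.Agent.Lib.Helper22.exists_hyperplane_centralizer_not_le p E hE Z
    ((Z ⊓ M') ⊔ ⁅Z, Z⁆) hpZ hEZ (not_le_inf_sup_commutator Z M' hZt h)
  refine ⟨B, Z ⊓ centralizer (B : Set G), hBE, hBc, inf_le_left, inf_le_right, ?_, ?_, ?_, ?_⟩
  · intro h0
    apply hL
    rw [h0]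
    exact bot_le
  · intro h0
    apply hL
    exact (le_inf inf_le_left h0).trans le_sup_left
  · intro h0
    apply hL
    exact h0.trans le_sup_right
  · intro k hk
    apply mem_normalizer_inf (hZn (hC hk))
    have hkB : k ∈ centralizer (B : Set G) := centralizer_le (hBE.trans hEA) hk
    exact le_normalizer hkB

theorem exists_two_prime_part (N t₁ t₂ : ℕ) (hN : N ≠ 0) (ht₁ : t₁.Prime) (ht₂ : t₂.Prime) :
    ∃ a b n : ℕ, N = t₁ ^ a * t₂ ^ b * n ∧ ¬ t₁ ∣ n ∧ ¬ t₂ ∣ n := by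
  obtain ⟨a, N₁, h1, h2⟩ := Nat.exists_eq_pow_mul_and_not_dvd hN t₁ ht₁.ne_one
  have hN₁ : N₁ ≠ 0 := by
    intro h0
    rw [h0] at h1
    exact h1 (dvd_zero _)
  obtain ⟨b, n, h3, h4⟩ := Nat.exists_eq_pow_mul_and_not_dvd hN₁ t₂ ht₂.ne_one
  refine ⟨a, b, n, ?_, ?_, h3⟩
  · rw [h2, h4, mul_assoc]
  · intro hd
    apply h1
    rw [h4]
    exact hd.mul_left _

/-- **Linking lemma** (for Bender–Glauberman 9.5).  Two subgroups `M₁`, `M₂` containing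
`C_G(A)`, each with a noncyclic normal `tᵢ`-subgroup `Zᵢ` of exponent `tᵢ` (`t₁ ≠ t₂`) such that
`Mᵢ` contains every proper subgroup containing a noncyclic subgroup of `Zᵢ`, and such that every
`A`-invariant `tᵢ`-subgroup of `G` lies in `Mᵢ`, satisfy `Z₁ ≤ M₂` or `Z₂ ≤ M₁`. -/
theorem linking [Finite G] (hG : IsMinSimpleOddOrder G)
    {p t₁ t₂ : ℕ} [hp : Fact p.Prime] [ht₁ : Fact t₁.Prime] [ht₂ : Fact t₂.Prime]
    (hpt₁ : p ≠ t₁) (hpt₂ : p ≠ t₂) (ht : t₁ ≠ t₂)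
    (A E : Subgroup G) (hAp : IsPGroup p A) (hAc : IsMulCommutative A)
    (hTH : TransitivityHypothesis A)
    (hEA : E ≤ A) (hE : IsElementaryAbelian p E) (hE3 : p ^ 3 ≤ Nat.card E)
    (M₁ M₂ Z₁ Z₂ : Subgroup G)
    (hC₁ : centralizer (A : Set G) ≤ M₁) (hC₂ : centralizer (A : Set G) ≤ M₂)
    (hZn₁ : M₁ ≤ normalizer (Z₁ : Set G)) (hZt₁ : IsPGroup t₁ Z₁)
    (hZe₁ : ∀ x ∈ Z₁, x ^ t₁ = 1) (hnc₁ : ¬ IsCyclic Z₁)
    (hU₁ : ∀ B H : Subgroup G, B ≤ Z₁ → ¬ IsCyclic B → B ≤ H → H ≠ ⊤ → H ≤ M₁)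
    (hI₁ : ∀ N : Subgroup G, IsPGroup t₁ N → A ≤ normalizer (N : Set G) → N ≤ M₁)
    (hZn₂ : M₂ ≤ normalizer (Z₂ : Set G)) (hZt₂ : IsPGroup t₂ Z₂)
    (hZe₂ : ∀ x ∈ Z₂, x ^ t₂ = 1) (hnc₂ : ¬ IsCyclic Z₂)
    (hU₂ : ∀ B H : Subgroup G, B ≤ Z₂ → ¬ IsCyclic B → B ≤ H → H ≠ ⊤ → H ≤ M₂)
    (hI₂ : ∀ N : Subgroup G, IsPGroup t₂ N → A ≤ normalizer (N : Set G) → N ≤ M₂) :
    Z₁ ≤ M₂ ∨ Z₂ ≤ M₁ := by
  by_contra hcon
  rw [not_or] at hcon
  obtain ⟨h12, h21⟩ := hcon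
  have hA1 : A ≠ ⊥ := hTH.1
  have hAcent : A ≤ centralizer (A : Set G) := by
    intro a ha
    rw [mem_centralizer_iff]
    intro b hb
    have := hAc.is_comm.comm (⟨b, hb⟩ : A) ⟨a, ha⟩
    exact congrArg Subtype.val this
  obtain ⟨B₁, L₁, hB₁E, hB₁c, hL₁Z, hL₁B, hL₁1, hL₁M, hL₁d, hL₁n⟩ :=
    linking_side hpt₁ A E hAc hEA hE M₁ M₂ Z₁ hC₁ hZn₁ hZt₁ h12
  obtain ⟨B₂, L₂, hB₂E, hB₂c, hL₂Z, hL₂B, hL₂1, hL₂M, hL₂d, hL₂n⟩ :=
    linking_side hpt₂ A E hAc hEA hE M₂ M₁ Z₂ hC₂ hZn₂ hZt₂ h21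
  obtain ⟨c, hcB, hc1⟩ := exists_ne_one_mem_inf_of_index_le E B₁ B₂ hE3 hB₁E hB₂E hB₁c hB₂c
  have hcE : c ∈ E := hB₁E hcB.1
  have hcA : c ∈ A := hEA hcE
  have hcp : c ^ p = 1 := hE.2 c hcE
  set X : Subgroup G := centralizer ({c} : Set G) with hX
  have hXtop : X ≠ ⊤ := Cfsg.Agent.Lib.Helper64.BG9.centralizer_singleton_ne_top hG hc1
  have hAX : A ≤ X := hAcent.trans (centralizer_le (Set.singleton_subset_iff.mpr hcA))
  have hL₁X : L₁ ≤ X := hL₁B.trans (centralizer_le (Set.singleton_subset_iff.mpr hcB.1))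
  have hL₂X : L₂ ≤ X := hL₂B.trans (centralizer_le (Set.singleton_subset_iff.mpr hcB.2))
  have hL₁t : IsPGroup t₁ L₁ := hZt₁.to_le hL₁Z
  have hL₂t : IsPGroup t₂ L₂ := hZt₂.to_le hL₂Z
  have hAL₁ : A ≤ normalizer (L₁ : Set G) := hAcent.trans hL₁n
  have hAL₂ : A ≤ normalizer (L₂ : Set G) := hAcent.trans hL₂n
  -- θ = O_{p'}(C(c))
  set π : Set ℕ := primesNotDvd (Nat.card A) with hπ
  set θ : Subgroup G := piCoreOf π X with hθ
  have hθX : θ ≤ X := Cfsg.Agent.Lib.Helper32.piCoreOf_le π X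
  have hθπ : Cfsg.Agent.Lib.Helper62.IsPi π θ := Cfsg.Agent.Lib.Helper32.isPi_piCoreOf π X
  have hAθ : A ≤ normalizer (θ : Set G) :=
    hAX.trans (Cfsg.Agent.Lib.Helper32.le_normalizer_piCoreOf π X)
  have hcopθ : (Nat.card A).Coprime (Nat.card θ) := Cfsg.Agent.Lib.Helper32.coprime_of_isPi hθπ
  have hsolvX : Group.IsSolvable X := hG.2.2.2 X hXtop
  have hsolvθ : Group.IsSolvable θ :=
    Group.isSolvable_of_isSolvable_injective (Subgroup.inclusion_injective hθX)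
  have hL₁θ : L₁ ≤ θ := Cfsg.Agent.Lib.Helper32.transHyp_le_piCoreOf hTH hXtop hAX hL₁X
    (isPi_of_isPGroup hpt₁ hAp hA1 hL₁t) hAL₁
  have hL₂θ : L₂ ≤ θ := Cfsg.Agent.Lib.Helper32.transHyp_le_piCoreOf hTH hXtop hAX hL₂X
    (isPi_of_isPGroup hpt₂ hAp hA1 hL₂t) hAL₂
  -- the Hall subgroup
  obtain ⟨a, b, n, hNθ, hn₁, hn₂⟩ := exists_two_prime_part (Nat.card θ) t₁ t₂
    Nat.card_pos.ne' ht₁.out ht₂.out
  have hco₁ : ∀ k : ℕ, (t₁ ^ k).Coprime n := fun k =>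
    Nat.Coprime.pow_left k ((Nat.Prime.coprime_iff_not_dvd ht₁.out).mpr hn₁)
  have hco₂ : ∀ k : ℕ, (t₂ ^ k).Coprime n := fun k =>
    Nat.Coprime.pow_left k ((Nat.Prime.coprime_iff_not_dvd ht₂.out).mpr hn₂)
  have hco : (t₁ ^ a * t₂ ^ b).Coprime n := Nat.Coprime.mul_left (hco₁ a) (hco₂ b)
  have hL₁n' : (Nat.card L₁).Coprime n := by
    obtain ⟨k, hk⟩ := hL₁t.exists_card_eq
    rw [hk]
    exact hco₁ k
  obtain ⟨Y, hYθ, hYcard, hAY, hL₁Y⟩ := Cfsg.Agent.Lib.Helper24.exists_invariant_hall_ge θ A L₁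
    hAθ hsolvθ hcopθ (t₁ ^ a * t₂ ^ b) n hNθ hco hL₁θ hAL₁ hL₁n'
  have hsolvY : Group.IsSolvable Y :=
    Group.isSolvable_of_isSolvable_injective (Subgroup.inclusion_injective hYθ)
  have hcopY : (Nat.card A).Coprime (Nat.card Y) :=
    Nat.Coprime.coprime_dvd_right (Subgroup.card_dvd_of_le hYθ) hcopθ
  -- `L₂ ≤ Y`
  have hL₂Y : L₂ ≤ Y := by
    obtain ⟨P, hP⟩ := Cfsg.Agent.Lib.Helper24.exists_invariant_sylow (p := t₂) A Y hAY hcopY
      (Or.inr hsolvY)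
    obtain ⟨hS₂Y, hS₂p, hS₂i⟩ := Cfsg.Agent.Lib.Helper24.sylow_map_facts Y P
    have hYrel : Y.relIndex θ = n := by
      have h1 : Nat.card Y * Y.relIndex θ = Nat.card θ := by
        have := Subgroup.card_mul_index (Y.subgroupOf θ)
        rw [Nat.card_congr (Subgroup.subgroupOfEquivOfLe hYθ).toEquiv] at this
        exact this
      rw [hYcard, hNθ] at h1
      have hpos : 0 < t₁ ^ a * t₂ ^ b :=
        Nat.mul_pos (pow_pos ht₁.out.pos a) (pow_pos ht₂.out.pos b)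
      exact Nat.eq_of_mul_eq_mul_left hpos h1
    have hidx : ¬ t₂ ∣ ((P : Subgroup Y).map Y.subtype).relIndex θ := by
      rw [← relIndex_mul_relIndex _ Y θ hS₂Y hYθ, hYrel]
      intro hd
      rcases (Nat.Prime.dvd_mul ht₂.out).mp hd with h | h
      · exact hS₂i h
      · exact hn₂ h
    obtain ⟨Q, hQ⟩ := Cfsg.Agent.Lib.Helper24.exists_sylow_map_eq θ _ (hS₂Y.trans hYθ) hS₂p hidx
    obtain ⟨Q', hL₂Q', hAQ'⟩ := Cfsg.Agent.Lib.Helper24.invariant_pSubgroup_le_sylow A θ hAθ hcopθ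
      (Or.inr hsolvθ) L₂ hL₂θ hL₂t hAL₂
    obtain ⟨k, hk, hkQ⟩ := Cfsg.Agent.Lib.Helper24.invariant_sylow_conj A θ hAθ hcopθ
      (Or.inr hsolvθ) Q' Q hAQ' (by rw [hQ]; exact hP)
    have hkL₂ : Cfsg.Agent.Lib.Helper33.cj k L₂ = L₂ :=
      Cfsg.Agent.Lib.Helper33.cj_eq_self_iff.mpr (hL₂n hk.2)
    have h1 : Cfsg.Agent.Lib.Helper33.cj k L₂ ≤
        Cfsg.Agent.Lib.Helper33.cj k ((Q' : Subgroup θ).map θ.subtype) :=
      Cfsg.Agent.Lib.Helper33.cj_mono hL₂Q'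
    rw [hkL₂, hkQ, hQ] at h1
    exact h1.trans hS₂Y
  -- a nontrivial normal `t`-subgroup of `Y`
  have hY1 : Y ≠ ⊥ := fun h => hL₁1 (le_bot_iff.mp (h ▸ hL₁Y))
  obtain ⟨t, P', htp, hP'Y, hP'1, hP't, hYP'⟩ :=
    Cfsg.Agent.Lib.Helper1.exists_normalized_pgroup Y hsolvY hY1
  have htt : t = t₁ ∨ t = t₂ := by
    have : Fact t.Prime := ⟨htp⟩
    obtain ⟨k, hk⟩ := hP't.exists_card_eq
    have hk0 : k ≠ 0 := by
      intro h0
      rw [h0, pow_zero] at hk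
      exact hP'1 (Subgroup.card_eq_one.mp hk)
    have h1 : t ∣ Nat.card P' := by
      rw [hk]
      exact dvd_pow_self t hk0
    have h2 : t ∣ t₁ ^ a * t₂ ^ b := hYcard ▸ h1.trans (Subgroup.card_dvd_of_le hP'Y)
    rcases (Nat.Prime.dvd_mul htp).mp h2 with h | h
    · exact Or.inl ((Nat.prime_dvd_prime_iff_eq htp ht₁.out).mp (htp.dvd_of_dvd_pow h))
    · exact Or.inr ((Nat.prime_dvd_prime_iff_eq htp ht₂.out).mp (htp.dvd_of_dvd_pow h))
  have hinv : ∀ (r : ℕ) [Fact r.Prime], A ≤ normalizer ((pCoreOf r Y : Subgroup G) : Set G) := by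
    intro r _ x hx
    rw [← Cfsg.Agent.Lib.Helper33.cj_eq_self_iff, Cfsg.Agent.Lib.Helper33.cj_def,
      ← Cfsg.Agent.Lib.Helper47.pCoreOf_map_conj]
    have hxY : Cfsg.Agent.Lib.Helper33.cj x Y = Y :=
      Cfsg.Agent.Lib.Helper33.cj_eq_self_iff.mpr (hAY hx)
    rw [Cfsg.Agent.Lib.Helper33.cj_def] at hxY
    rw [hxY]
  have hcM₁ : c ∈ M₁ := hC₁ (hAcent hcA)
  have hcM₂ : c ∈ M₂ := hC₂ (hAcent hcA)
  rcases htt with rfl | rfl
  · set N : Subgroup G := pCoreOf t Y with hNdef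
    have hNY : N ≤ Y := Cfsg.Agent.Lib.Helper47.pCoreOf_le t Y
    have hNt : IsPGroup t N := Cfsg.Agent.Lib.Helper47.pCoreOf_isPGroup t Y
    have hYN : Y ≤ normalizer (N : Set G) := Cfsg.Agent.Lib.Helper47.le_normalizer_pCoreOf t Y
    have hN1 : N ≠ ⊥ := fun h =>
      hP'1 (le_bot_iff.mp (h ▸ Cfsg.Agent.Lib.Helper47.le_pCoreOf hP'Y hYP' hP't))
    have hNM : N ≤ M₁ := hI₁ N hNt (hinv t)
    have hNc : N ≤ X := hNY.trans (hYθ.trans hθX)
    have hfin := linking_core hG hpt₁ M₁ Z₁ c hc1 hcp hcM₁ hZn₁ hZt₁ hZe₁ hnc₁ hU₁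
      (fun h => hL₂M (hL₂X.trans h)) L₁ hL₁1 hL₁Z hL₁X hL₁d N hNt hN1 hNM hNc
    exact hL₂M ((hL₂Y.trans hYN).trans hfin)
  · set N : Subgroup G := pCoreOf t Y with hNdef
    have hNY : N ≤ Y := Cfsg.Agent.Lib.Helper47.pCoreOf_le t Y
    have hNt : IsPGroup t N := Cfsg.Agent.Lib.Helper47.pCoreOf_isPGroup t Y
    have hYN : Y ≤ normalizer (N : Set G) := Cfsg.Agent.Lib.Helper47.le_normalizer_pCoreOf t Y
    have hN1 : N ≠ ⊥ := fun h =>
      hP'1 (le_bot_iff.mp (h ▸ Cfsg.Agent.Lib.Helper47.le_pCoreOf hP'Y hYP' hP't))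
    have hNM : N ≤ M₂ := hI₂ N hNt (hinv t)
    have hNc : N ≤ X := hNY.trans (hYθ.trans hθX)
    have hfin := linking_core hG hpt₂ M₂ Z₂ c hc1 hcp hcM₂ hZn₂ hZt₂ hZe₂ hnc₂ hU₂
      (fun h => hL₁M (hL₁X.trans h)) L₂ hL₂1 hL₂Z hL₂X hL₂d N hNt hN1 hNM hNc
    exact hL₁M ((hL₁Y.trans hYN).trans hfin)

end Cfsg.Agent.Lib.Helper50
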