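import Cfsg.Agent.Lib.Helper50.BG117T3
import Cfsg.Agent.Lib.Helper47.BG11a
import Cfsg.Agent.Lib.Helper21.Rank
import Cfsg.Agent.Lib.Helper24.PxQ
import Cfsg.Agent.Lib.Helper24.SylowInv

set_option autoImplicit false

/-!
# Bender–Glauberman 11.7: the ending (steps (a7), (a8))

`P` an abelian-type Sylow `p`-subgroup of the maximal subgroup `M` with `Ω₁(P) = A` of order
`p²`, `C_G(A) ≤ M`, `X ≤ A` of order `p` with `N_G(P) ≤ N_G(X)`; `B₀` an `A`-invariant
`q`-subgroup of `C_G(X)` not centralized by `A`, with `p`, `q` non-ideal primes: contradiction.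
-/

namespace Cfsg.Agent.Lib.Helper50.BG117

open Subgroup Cfsg

universe u

variable {G : Type u} [Group G] [Finite G]

/-- A `p`-subgroup `Q` of `M` containing a Sylow `p`-subgroup `P` of `M` is contained in `P`. -/
theorem le_of_sylow_le {p : ℕ} [hp : Fact p.Prime] {M P Q : Subgroup G} (hPQ : P ≤ Q)
    (hQM : Q ≤ M) (hQ : IsPGroup p Q) (hPi : ¬ p ∣ P.relIndex M) : Q ≤ P := by
  have h := Subgroup.relIndex_mul_relIndex P Q M hPQ hQM
  obtain ⟨k, hk⟩ := hQ.exists_card_eq
  have hd : P.relIndex Q ∣ p ^ k := hk ▸ Subgroup.relIndex_dvd_card P Q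
  obtain ⟨j, -, hj⟩ := (Nat.dvd_prime_pow hp.out).1 hd
  rcases Nat.eq_zero_or_pos j with h0 | hpos
  · rw [h0, pow_zero] at hj
    exact Subgroup.relIndex_eq_one.1 hj
  · exfalso
    apply hPi
    rw [← h, hj]
    exact Dvd.dvd.mul_right (dvd_pow_self p hpos.ne') _

/-- An element of a `p`-group `S` normalizing a subgroup `X ≤ S` of order `p` centralizes it. -/
theorem commute_of_normalizes_prime {p : ℕ} [hp : Fact p.Prime] {S X : Subgroup G}
    (hS : IsPGroup p S) (hXS : X ≤ S) (hX : Nat.card X = p) {u : G} (hu : u ∈ S)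
    (huX : u ∈ normalizer (X : Set G)) : ∀ x ∈ X, u * x = x * u := by
  have hP : IsPGroup p (zpowers u) := hS.to_le (by rwa [zpowers_le])
  have hXp : IsPGroup p X := hS.to_le hXS
  have hPX : zpowers u ≤ normalizer (X : Set G) := by rwa [zpowers_le]
  have hX1 : X ≠ ⊥ := by
    intro h
    rw [h, Subgroup.card_bot] at hX
    exact hp.out.one_lt.ne hX
  have hlt := Cfsg.Agent.Lib.Helper24.commutator_lt_of_pGroups (zpowers u) X hP hXp hPX hX1
  have hcard : Nat.card (⁅X, zpowers u⁆ : Subgroup G) = 1 := by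
    have hd : Nat.card (⁅X, zpowers u⁆ : Subgroup G) ∣ p := hX ▸ Subgroup.card_dvd_of_le hlt.le
    rcases (Nat.dvd_prime hp.out).1 hd with h | h
    · exact h
    · exfalso
      have := Subgroup.eq_of_le_of_card_ge hlt.le (by rw [h, hX])
      exact hlt.ne this
  have hbot : (⁅X, zpowers u⁆ : Subgroup G) = ⊥ := Subgroup.card_eq_one.1 hcard
  rw [Subgroup.commutator_eq_bot_iff_le_centralizer] at hbot
  intro x hx
  have := hbot hx
  rw [Subgroup.mem_centralizer_iff] at this
  exact this u (mem_zpowers u)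

/-- **BG 11.7, ending.** -/
theorem bg117_end (hG : IsMinSimpleOddOrder G)
    (h14 : ∀ H : Subgroup G, IsCoatom H →
      ∃ Hn : Subgroup G, IsPiHallOf {q | q.Prime ∧ q ∉ beta H} Hn (sigmaCore H) ∧
        Group.IsNilpotent ↥Hn)
    (hσ : ∀ H : Subgroup G, IsCoatom H → Cfsg.Agent.Lib.Helper47.BG11.SigmaHallIn H)
    {M : Subgroup G} {p q : ℕ} [hp : Fact p.Prime] [hq : Fact q.Prime]
    (hpq : p ≠ q) (hpi : ¬ IsIdealPrime p G) (hqi : ¬ IsIdealPrime q G)
    {P A X B0 : Subgroup G} (hPM : P ≤ M) (hPp : IsPGroup p P) (hPsyl : ¬ p ∣ P.relIndex M)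
    (hAP : A ≤ P) (hAcard : Nat.card A = p ^ 2) (hAΩ : ∀ x ∈ P, x ^ p = 1 → x ∈ A)
    (hCA : centralizer (A : Set G) ≤ M)
    (hXA : X ≤ A) (hXcard : Nat.card X = p)
    (hNP : normalizer (P : Set G) ≤ normalizer (X : Set G))
    (hB0q : IsPGroup q B0) (hAB0 : A ≤ normalizer (B0 : Set G))
    (hXB0 : B0 ≤ centralizer (X : Set G)) (hnc : ¬ A ≤ centralizer (B0 : Set G)) : False := by
  classical
  -- a Sylow `p`-subgroup `S` of `G` over `P`
  obtain ⟨S, hPS⟩ := hPp.exists_le_sylow
  have hSp : IsPGroup p (S : Subgroup G) := S.2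
  have hXS : X ≤ (S : Subgroup G) := hXA.trans (hAP.trans hPS)
  have hX1 : X ≠ ⊥ := by
    intro h
    rw [h, Subgroup.card_bot] at hXcard
    exact hp.out.one_lt.ne hXcard
  -- `S ∩ M = P`
  have hSM : ∀ s ∈ (S : Subgroup G), s ∈ M → s ∈ P := by
    intro s hsS hsM
    have hQ : IsPGroup p ((S : Subgroup G) ⊓ M : Subgroup G) := hSp.to_le inf_le_left
    exact le_of_sylow_le (le_inf hPS hPM) inf_le_right hQ hPsyl ⟨hsS, hsM⟩
  -- the key claim: central elements of order dividing `p` of `S` lie in `X`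
  have hkey : (P : Subgroup G) ≠ S → ∀ z ∈ (S : Subgroup G), (∀ s ∈ (S : Subgroup G), z * s = s * z) →
      z ^ p = 1 → z ∈ X := by
    intro hne z hzS hzc hzp
    -- `u ∈ N_S(P) \ P`
    obtain ⟨u, huS, huN, huP⟩ :=
      Cfsg.Agent.Lib.Helper21.exists_normalizer_not_mem hSp (lt_of_le_of_ne hPS hne)
    have huM : u ∉ M := fun h => huP (hSM u huS h)
    have huX : u ∈ normalizer (X : Set G) := hNP huN
    have hucX := commute_of_normalizes_prime hSp hXS hXcard huS huX
    -- `z ∈ A`
    have hzCA : z ∈ centralizer (A : Set G) := by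
      rw [Subgroup.mem_centralizer_iff]
      intro a ha
      exact (hzc a (hPS (hAP ha))).symm
    have hzP : z ∈ P := hSM z hzS (hCA hzCA)
    have hzA : z ∈ A := hAΩ z hzP hzp
    by_contra hzX
    -- then `A = X ⊔ ⟨z⟩` is centralized by `u`
    have hlt : X < X ⊔ zpowers z := by
      refine lt_of_le_of_ne le_sup_left ?_
      intro h
      apply hzX
      rw [h]
      exact (le_sup_right : zpowers z ≤ X ⊔ zpowers z) (mem_zpowers z)
    have hle : X ⊔ zpowers z ≤ A := sup_le hXA (by rwa [zpowers_le])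
    have hcard : Nat.card (X ⊔ zpowers z : Subgroup G) = p ^ 2 := by
      have hd : Nat.card (X ⊔ zpowers z : Subgroup G) ∣ p ^ 2 :=
        hAcard ▸ Subgroup.card_dvd_of_le hle
      obtain ⟨j, hj2, hj⟩ := (Nat.dvd_prime_pow hp.out).1 hd
      have hXd : p ∣ Nat.card (X ⊔ zpowers z : Subgroup G) :=
        hXcard ▸ Subgroup.card_dvd_of_le (le_sup_left : X ≤ X ⊔ zpowers z)
      have hgt : p < Nat.card (X ⊔ zpowers z : Subgroup G) := by
        have h1 : Nat.card X < Nat.card (X ⊔ zpowers z : Subgroup G) := by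
          by_contra hge
          push Not at hge
          exact hlt.ne (Subgroup.eq_of_le_of_card_ge le_sup_left hge)
        rwa [hXcard] at h1
      rw [hj] at hgt ⊢
      have hj1 : 1 < j := by
        by_contra h
        push Not at h
        have : p ^ j ≤ p ^ 1 := Nat.pow_le_pow_right hp.out.pos h
        rw [pow_one] at this
        omega
      have : j = 2 := by omega
      rw [this]
    have hAeq : X ⊔ zpowers z = A :=
      Subgroup.eq_of_le_of_card_ge hle (by rw [hcard, hAcard])
    have huCA : u ∈ centralizer (A : Set G) := by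
      rw [Subgroup.mem_centralizer_iff]
      intro a ha
      rw [← hAeq] at ha
      refine Subgroup.closure_induction (p := fun a _ => a * u = u * a) ?_ ?_ ?_ ?_
        (by rw [Subgroup.sup_eq_closure] at ha; exact ha)
      · intro x hx
        rcases hx with hx | hx
        · exact (hucX x hx).symm
        · obtain ⟨n, rfl⟩ := Subgroup.mem_zpowers_iff.1 hx
          have hcz : Commute z u := hzc u huS
          exact (hcz.zpow_left n).eq
      · simp
      · intro x y _ _ hx hy
        rw [mul_assoc, hy, ← mul_assoc, hx, mul_assoc]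
      · intro x _ hx
        have : Commute x u := hx
        exact this.inv_left.eq
    exact huM (hCA huCA)
  -- `N_G(S) ≤ N_G(X)`
  have hNS : normalizer ((S : Subgroup G) : Set G) ≤ normalizer (X : Set G) := by
    by_cases hne : (P : Subgroup G) = S
    · rw [← hne]; exact hNP
    · -- a central element of order `p`
      have hSnt : Nontrivial ↥(S : Subgroup G) := by
        rw [Subgroup.nontrivial_iff_ne_bot]
        intro h
        apply hX1
        rw [eq_bot_iff, ← h]
        exact hXS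
      have hcnt : Nontrivial (Subgroup.center ↥(S : Subgroup G)) := hSp.center_nontrivial
      have hcp : IsPGroup p (Subgroup.center ↥(S : Subgroup G)) := hSp.to_subgroup _
      have hdvd : p ∣ Nat.card (Subgroup.center ↥(S : Subgroup G)) := by
        obtain ⟨n, hn0, hn⟩ := hcp.nontrivial_iff_card.mp hcnt
        rw [hn]
        exact dvd_pow_self _ hn0.ne'
      obtain ⟨z0, hz0⟩ := exists_prime_orderOf_dvd_card' (G := Subgroup.center ↥(S : Subgroup G)) p hdvd
      set z : G := ((z0 : ↥(S : Subgroup G)) : G) with hz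
      have hzS : z ∈ (S : Subgroup G) := (z0 : ↥(S : Subgroup G)).2
      have hzc : ∀ s ∈ (S : Subgroup G), z * s = s * z := by
        intro s hs
        have := Subgroup.mem_center_iff.1 z0.2 ⟨s, hs⟩
        exact (congrArg Subtype.val this).symm
      have hzo : orderOf z = p := by
        rw [hz, Subgroup.orderOf_coe, Subgroup.orderOf_coe, hz0]
      have hzp : z ^ p = 1 := by rw [← hzo]; exact pow_orderOf_eq_one z
      have hzX : z ∈ X := hkey hne z hzS hzc hzp
      have hXz : zpowers z = X := by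
        refine Subgroup.eq_of_le_of_card_ge (by rwa [zpowers_le]) ?_
        rw [Nat.card_zpowers, hzo, hXcard]
      intro n hn
      apply Cfsg.Agent.Lib.Helper21.mem_normalizer_of_conj_le
      intro x hx
      rw [← hXz] at hx ⊢
      obtain ⟨k, rfl⟩ := Subgroup.mem_zpowers_iff.1 hx
      have hconj : n * z * n⁻¹ ∈ X := by
        have hnS : ∀ s, s ∈ (S : Subgroup G) ↔ n * s * n⁻¹ ∈ (S : Subgroup G) :=
          fun s => Subgroup.mem_normalizer_iff.1 hn s
        have hnS' : ∀ s, s ∈ (S : Subgroup G) → n⁻¹ * s * n ∈ (S : Subgroup G) := by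
          intro s hs
          rw [hnS]
          simpa [mul_assoc] using hs
        refine hkey hne _ ((hnS z).1 hzS) ?_ ?_
        · intro s hs
          have h1 := hzc _ (hnS' s hs)
          calc n * z * n⁻¹ * s = n * (z * (n⁻¹ * s * n)) * n⁻¹ := by group
            _ = n * ((n⁻¹ * s * n) * z) * n⁻¹ := by rw [h1]
            _ = s * (n * z * n⁻¹) := by group
        · rw [conj_pow, hzp]; simp
      have : n * z ^ k * n⁻¹ = (n * z * n⁻¹) ^ k := (conj_zpow).symm
      rw [this, hXz]
      exact X.zpow_mem hconj k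
  -- a maximal subgroup `H` over `N_G(X)`
  have hNXtop : normalizer (X : Set G) ≠ ⊤ := by
    intro h
    have hn : X.Normal := Subgroup.normalizer_eq_top_iff.1 h
    have hsimple : IsSimpleGroup G := hG.2.1
    rcases hn.eq_bot_or_eq_top with h1 | h1
    · exact hX1 h1
    · -- `A ≤ X` has order `p²`, but `|X| = p`
      have hle : Nat.card A ≤ Nat.card X := Nat.le_of_dvd Nat.card_pos
        (Subgroup.card_dvd_of_le (h1 ▸ le_top))
      rw [hAcard, hXcard] at hle
      have h2 : p ^ 2 = p * p := by ring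
      rw [h2] at hle
      have := hp.out.one_lt
      nlinarith
  obtain ⟨H, hH, hNH⟩ := (eq_top_or_exists_le_coatom (normalizer (X : Set G))).resolve_left hNXtop
  have hSH : (S : Subgroup G) ≤ H := (le_normalizer.trans hNS).trans hNH
  have hNSH : normalizer ((S : Subgroup G) : Set G) ≤ H := hNS.trans hNH
  -- `p ∈ σ(H)`
  have hSi : ¬ p ∣ (S : Subgroup G).relIndex H := by
    intro h
    exact S.not_dvd_index (h.trans (Subgroup.relIndex_dvd_index_of_le hSH))
  obtain ⟨SH, hSHeq⟩ := Cfsg.Agent.Lib.Helper24.exists_sylow_map_eq H (S : Subgroup G) hSH hSp hSi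
  have hpH : p ∈ sigma H := by
    refine ⟨hp.out, ?_, SH, ?_⟩
    · have h1 : Nat.card X ∣ Nat.card H := Subgroup.card_dvd_of_le (hXS.trans hSH)
      rwa [hXcard] at h1
    · rw [hSHeq]; exact hNSH
  have hAH : A ≤ H := (hAP.trans hPS).trans hSH
  have hAσ : A ≤ sigmaCore H :=
    Cfsg.Agent.Lib.Helper47.BG11.le_sigmaCore_of_sigma (hσ H hH) hpH hAH (hPp.to_le hAP)
  have hB0H : B0 ≤ H := by
    intro b hb
    apply hNH
    exact Subgroup.centralizer_le_normalizer _ (hXB0 hb)
  have hHtop : H ≠ ⊤ := hH.1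
  have hsolvH : Group.IsSolvable ↥H := hG.2.2.2 H hHtop
  have hsolv : Group.IsSolvable ↥(sigmaCore H) :=
    Group.isSolvable_of_isSolvable_injective
      (Subgroup.inclusion_injective (Cfsg.Agent.Lib.Helper47.BG11.sigmaCore_le H))
  have hpβ : p ∉ beta H := fun h => hpi h.2
  have hqβ : q ∉ beta H := fun h => hqi h.2
  exact hnc (t3 hsolv (h14 H hH) hpq hpβ hqβ (hPp.to_le hAP) hAσ hB0q hB0H hAB0)

end Cfsg.Agent.Lib.Helper50.BG117
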