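import Cfsg.Agent.S1350
import Cfsg.Agent.S1403
import Cfsg.Agent.S1415
import Cfsg.Agent.Lib.Helper63.BG13a
import Cfsg.Agent.Lib.Helper68.BG1215c
import Cfsg.Agent.Lib.Helper24.CoprimeAbelian
import Cfsg.Agent.Lib.Helper96.BG103
import Cfsg.Agent.Lib.Helper47.BG1217
import Cfsg.Agent.Lib.Helper68.BG134D
import Cfsg.Agent.S1405
import Cfsg.Agent.Lib.Helper62.BG13K2
import Cfsg.Agent.Lib.Helper48.CoprimeGen
import Cfsg.Agent.Lib.Helper24.SylowInv

set_option autoImplicit false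
set_option linter.style.haveILetI false
set_option linter.unusedSectionVars false
set_option linter.unusedVariables false

/-!
# Bender–Glauberman Theorem 13.4, pieces of the last case

* `rank_one_cyclic`: a `q`-subgroup of a maximal subgroup `H` of `q`-rank one is cyclic;
* `exists_coatom_ne` (N): for `q ∉ σ(H)` of rank one in `H`, the normalizer of a nontrivial
  `q`-subgroup of `H` lies in a maximal subgroup different from `H`;
* `caseA_setup` (S): the set-up of Case A;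
* `caseA1`, `caseB`: the contradictions obtained from B&G 12.17(a).
-/

namespace Cfsg.Agent.Lib.Helper50.BG134

open Subgroup Cfsg Cfsg.Agent.Lib.Helper33 Cfsg.Agent.Lib.Helper23 Cfsg.Agent.Lib.Helper63
open Cfsg.Agent.Lib.Helper47.BG11

universe u

variable {G : Type u} [Group G] [Finite G]

/-- the uniqueness statement from S1403 -/
theorem uniqStmt (hG : IsMinSimpleOddOrder G) : BG10.UniqStmt G :=
  fun K hK h1 h2 => Cfsg.Agent.S1403.result hG K hK h1 h2

/-- a nontrivial `q`-group has order divisible by `q` -/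
theorem dvd_card_of_isPGroup_ne_bot {q : ℕ} [hq : Fact q.Prime] {Q : Subgroup G}
    (hQ : IsPGroup q Q) (hQ1 : Q ≠ ⊥) : q ∣ Nat.card Q := by
  obtain ⟨k, hk⟩ := IsPGroup.iff_card.mp hQ
  have hk0 : k ≠ 0 := by
    rintro rfl
    rw [pow_zero] at hk
    exact hQ1 (Subgroup.card_eq_one.mp hk)
  rw [hk]; exact dvd_pow_self q hk0

/-- a `q`-subgroup of a subgroup `H` of `q`-rank one (odd order) is cyclic -/
theorem rank_one_cyclic (hG : IsMinSimpleOddOrder G) {H : Subgroup G} {q : ℕ} [hq : Fact q.Prime]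
    (hrk : PRankLE q 1 ↥H) {Q : Subgroup G} (hQH : Q ≤ H) (hQq : IsPGroup q Q) (hQ1 : Q ≠ ⊥) :
    IsCyclic ↥Q := by
  have hqd : q ∣ Nat.card Q := dvd_card_of_isPGroup_ne_bot hQq hQ1
  have hq2 : q ≠ 2 := ne_two_of_dvd_card_subgroup hG hqd
  have hrS : PRankLE q 1 ↥Q := BG10.pRankLE_of_injective (Subgroup.inclusion hQH)
    (Subgroup.inclusion_injective hQH) hrk
  apply Cfsg.Agent.Lib.Helper49.isCyclic_of_isPGroup_rankLEOne hq2 hQq
  intro A hA hAe
  have := hrS A hA hAe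
  rwa [pow_one] at this

/-- a subgroup of a cyclic subgroup `S` is normalized by everything normalizing `S` -/
theorem normalizer_le_of_le_isCyclic {S X : Subgroup G} (hS : IsCyclic ↥S) (hXS : X ≤ S) :
    normalizer (S : Set G) ≤ normalizer (X : Set G) := by
  intro g hg
  have h1 : cj g X ≤ S := by
    have := cj_mono (g := g) hXS
    rwa [cj_eq_self_iff.mpr hg] at this
  have h2 : cj g X = X :=
    Cfsg.Agent.Lib.Helper67.eq_of_le_isCyclic_of_card_eq S _ _ h1 hXS (card_cj g X)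
  exact cj_eq_self_iff.mp h2

/-- **(N)** non-uniqueness: for `q ∉ σ(H)` with `H` of `q`-rank one, the normalizer of a nontrivial
`q`-subgroup `Q` of `H` lies in a maximal subgroup different from `H`. -/
theorem exists_coatom_ne (hG : IsMinSimpleOddOrder G) {H : Subgroup G} (hH : IsCoatom H)
    {q : ℕ} [hq : Fact q.Prime] (hqσ : q ∉ sigma H) (hrk : PRankLE q 1 ↥H)
    {Q : Subgroup G} (hQH : Q ≤ H) (hQq : IsPGroup q Q) (hQ1 : Q ≠ ⊥) :
    ∃ L : Subgroup G, IsCoatom L ∧ L ≠ H ∧ normalizer (Q : Set G) ≤ L := by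
  have hNtop : normalizer (Q : Set G) ≠ ⊤ :=
    BG10.normalizer_ne_top hG hQ1 (fun h => hH.1 (top_le_iff.mp (h ▸ hQH)))
  obtain ⟨L, hL, hNL⟩ := (eq_top_or_exists_le_coatom _).resolve_left hNtop
  refine ⟨L, hL, ?_, hNL⟩
  rintro rfl
  -- a Sylow `q`-subgroup `S` of `L` over `Q`
  have hQq' : IsPGroup q ↥(Q.subgroupOf L) := hQq.comap_subtype
  obtain ⟨P, hP⟩ := hQq'.exists_le_sylow
  set S : Subgroup G := (P : Subgroup L).map L.subtype with hSdef
  have hSL : S ≤ L := by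
    rw [hSdef]; exact Subgroup.map_subtype_le _
  have hQS : Q ≤ S := by
    intro x hx
    exact ⟨⟨x, hQH hx⟩, hP (by simpa [Subgroup.mem_subgroupOf] using hx), rfl⟩
  have hSq : IsPGroup q S := by
    rw [hSdef]; exact P.2.map _
  have hS1 : S ≠ ⊥ := fun h => hQ1 (le_bot_iff.mp (h ▸ hQS))
  have hSc : IsCyclic ↥S := rank_one_cyclic hG hrk hSL hSq hS1
  have hqd : q ∣ Nat.card L :=
    (dvd_card_of_isPGroup_ne_bot hQq hQ1).trans (Subgroup.card_dvd_of_le hQH)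
  exact hqσ ⟨hq.out, hqd, P, (normalizer_le_of_le_isCyclic hSc hQS).trans hNL⟩

/-- **(S)** the set-up of Case A: `H` maximal, `R ≤ H` of prime order `r ∈ τ₁(H)`, `Q ≤ H` a
nontrivial `q`-subgroup normalized by `R` with `Q = [Q, R]`, `q ∉ σ(H)`, `q ∉ τ₂(H)`.  Then
`q ∈ τ₃(H)`, `Q` is cyclic, `R` acts regularly on `Q`, and `Q R` lies in a complement `E` of `H_σ`
in `H` which normalizes `Q`. -/
theorem caseA_setup (hG : IsMinSimpleOddOrder G) {H : Subgroup G} (hH : IsCoatom H)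
    {q r : ℕ} [hq : Fact q.Prime] [hr : Fact r.Prime] {Q R : Subgroup G}
    (hQH : Q ≤ H) (hRH : R ≤ H) (hQq : IsPGroup q Q) (hRc : Nat.card R = r)
    (hRQ : R ≤ normalizer (Q : Set G)) (hcomm : Q ≤ ⁅Q, R⁆) (hQ1 : Q ≠ ⊥)
    (hqσ : q ∉ sigma H) (hr1 : r ∈ tau1 H) (hq2 : q ∉ tau2 H) :
    q ∈ tau3 H ∧ q ≠ r ∧ IsCyclic ↥Q ∧ Q ⊓ centralizer (R : Set G) = ⊥ ∧
      ∃ E : Subgroup G, IsComplIn E (sigmaCore H) H ∧ Q ≤ E ∧ R ≤ E ∧
        E ≤ normalizer (Q : Set G) := by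
  have hU := uniqStmt hG
  have hσH : SigmaHallIn H := (Cfsg.Agent.S1350.result hG H hH).1
  have hqdQ : q ∣ Nat.card Q := dvd_card_of_isPGroup_ne_bot hQq hQ1
  -- `q` divides `|H'|`
  have hQH' : Q ≤ ⁅H, H⁆ := hcomm.trans (Subgroup.commutator_mono hQH hRH)
  have hqH' : q ∣ Nat.card ↥⁅H, H⁆ := hqdQ.trans (Subgroup.card_dvd_of_le hQH')
  have hqr : q ≠ r := by
    rintro rfl
    exact hr1.2.2.2.1 hqH'
  -- the rank
  have hr2 : PRankLE q 2 ↥H := by
    by_contra h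
    exact hqσ (alpha_subset_sigma hG hU hH ⟨hq.out, h⟩)
  have hrk : PRankLE q 1 ↥H := by
    by_contra h
    exact hq2 ⟨hq.out, hqσ, hr2, h⟩
  have hτ3 : q ∈ tau3 H := ⟨hq.out, hqσ, hqH', hrk⟩
  have hQc : IsCyclic ↥Q := rank_one_cyclic hG hrk hQH hQq hQ1
  -- regular action
  have hcop : (Nat.card R).Coprime (Nat.card Q) := by
    rw [hRc]
    obtain ⟨k, hk⟩ := IsPGroup.iff_card.mp hQq
    rw [hk]
    exact Nat.Coprime.pow_right _ ((Nat.coprime_primes hr.out hq.out).mpr (Ne.symm hqr))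
  have hreg : Q ⊓ centralizer (R : Set G) = ⊥ := by
    haveI : IsMulCommutative ↥Q := ⟨⟨fun a b => by
      obtain ⟨g, hg⟩ := hQc.exists_generator
      obtain ⟨m, rfl⟩ := Subgroup.mem_zpowers_iff.mp (hg a)
      obtain ⟨n, rfl⟩ := Subgroup.mem_zpowers_iff.mp (hg b)
      exact (Commute.zpow_zpow_self g m n).eq⟩⟩
    have h := Cfsg.Agent.Lib.Helper24.commutator_inf_centralizer_eq_bot_of_abelian Q R hRQ hcop
    exact le_bot_iff.mp (h ▸ inf_le_inf_right _ hcomm)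
  refine ⟨hτ3, hqr, hQc, hreg, ?_⟩
  -- the complement
  have hHtop : H ≠ ⊤ := hH.1
  have hTH : Q ⊔ R ≤ H := sup_le hQH hRH
  have hcopT : (Nat.card ↥(Q ⊔ R)).Coprime (Nat.card (sigmaCore H)) := by
    apply Nat.coprime_of_dvd
    intro k hk hkT hkσ
    have hkσ' : k ∈ sigma H := hσH.2.1 k hk hkσ
    have hdvd : k ∣ Nat.card Q * Nat.card R :=
      hkT.trans (by
        rw [sup_comm, mul_comm]
        exact card_sup_dvd_of_le_normalizer R Q hRQ)
    rcases (Nat.Prime.dvd_mul hk).mp hdvd with h | h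
    · obtain ⟨j, hj⟩ := IsPGroup.iff_card.mp hQq
      rw [hj] at h
      have := (Nat.prime_dvd_prime_iff_eq hk hq.out).mp (hk.dvd_of_dvd_pow h)
      exact hqσ (this ▸ hkσ')
    · rw [hRc] at h
      have := (Nat.prime_dvd_prime_iff_eq hk hr.out).mp h
      exact hr1.2.1 (this ▸ hkσ')
  obtain ⟨E, hE, hTE⟩ := BG13.exists_compl_ge hG hHtop hσH hTH hcopT
  have hQE : Q ≤ E := le_sup_left.trans hTE
  have hRE : R ≤ E := le_sup_right.trans hTE
  refine ⟨E, hE, hQE, hRE, ?_⟩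
  -- `Q ≤ E'`, which is nilpotent
  obtain ⟨hnil, -, -⟩ := Cfsg.Agent.S1415.result hG H hH E hE
  have hQE' : Q ≤ ⁅E, E⁆ := hcomm.trans (Subgroup.commutator_mono hQE hRE)
  have hQq' : IsPGroup q ↥(Q.subgroupOf ⁅E, E⁆) := hQq.comap_subtype
  obtain ⟨P, hP⟩ := hQq'.exists_le_sylow
  set T : Subgroup G := (P : Subgroup ↥⁅E, E⁆).map (⁅E, E⁆ : Subgroup G).subtype with hTdef
  have hTE' : T ≤ ⁅E, E⁆ := by
    rw [hTdef]; exact Subgroup.map_subtype_le _
  have hQT : Q ≤ T := by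
    intro x hx
    exact ⟨⟨x, hQE' hx⟩, hP (by simpa [Subgroup.mem_subgroupOf] using hx), rfl⟩
  have hTq : IsPGroup q T := by
    rw [hTdef]; exact P.2.map _
  have hT1 : T ≠ ⊥ := fun h => hQ1 (le_bot_iff.mp (h ▸ hQT))
  have hTH' : T ≤ H := hTE'.trans ((Subgroup.commutator_le.mpr (fun a ha b hb =>
    E.mul_mem (E.mul_mem (E.mul_mem ha hb) (E.inv_mem ha)) (E.inv_mem hb))).trans hE.1)
  have hTc : IsCyclic ↥T := rank_one_cyclic hG hrk hTH' hTq hT1
  have hEn : E ≤ normalizer ((⁅E, E⁆ : Subgroup G) : Set G) :=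
    Cfsg.Agent.Lib.Helper24.le_normalizer_commutator_left E E
  have hET : E ≤ normalizer (T : Set G) := BG13.le_normalizer_sylow_of_nilpotent hEn hnil P
  exact hET.trans (normalizer_le_of_le_isCyclic hTc hQT)

/-! ### The contradictions from B&G 12.17(a) -/

/-- a subgroup centralizing `Q` and `R` centralizes `Q ⊔ R` -/
theorem le_centralizer_sup {P Q R : Subgroup G} (hPQ : P ≤ centralizer (Q : Set G))
    (hPR : P ≤ centralizer (R : Set G)) : P ≤ centralizer ((Q ⊔ R : Subgroup G) : Set G) := by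
  rw [Subgroup.le_centralizer_iff]
  exact sup_le (Subgroup.le_centralizer_iff.mp hPQ) (Subgroup.le_centralizer_iff.mp hPR)

/-- **(A1)**: in Case A (`q ∈ τ₃(H)`), a nontrivial subgroup `P` of `H_α` cannot centralize
`Q R`. -/
theorem caseA1 (hG : IsMinSimpleOddOrder G) {H : Subgroup G}
    (hH : IsCoatom H) {q r : ℕ} [hq : Fact q.Prime] [hr : Fact r.Prime] {Q R P : Subgroup G}
    (hQH : Q ≤ H) (hRH : R ≤ H) (hQq : IsPGroup q Q) (hRc : Nat.card R = r)
    (hRQ : R ≤ normalizer (Q : Set G)) (hQ1 : Q ≠ ⊥)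
    (hreg : Q ⊓ centralizer (R : Set G) = ⊥) (hr1 : r ∈ tau1 H) (hq3 : q ∈ tau3 H)
    (hPα : P ≤ alphaCore H) (hP1 : P ≠ ⊥) (hPQ : P ≤ centralizer (Q : Set G))
    (hPR : P ≤ centralizer (R : Set G)) : False := by
  have hU := uniqStmt hG
  have hqα : q ∉ alpha H := fun h => hq3.2.1 (alpha_subset_sigma hG hU hH h)
  obtain ⟨L, hL, hLH, hNL⟩ := exists_coatom_ne hG hH hq3.2.1 hq3.2.2.2 hQH hQq hQ1
  have hnu : ∃ L' : Subgroup G, IsCoatom L' ∧ L' ≠ H ∧ H ⊓ centralizer (Q : Set G) ≤ L' :=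
    ⟨L, hL, hLH, inf_le_right.trans ((Subgroup.centralizer_le_normalizer _).trans hNL)⟩
  have h := Cfsg.Agent.Lib.Helper47.BG12.bg_12_17_a hG hH hr1.2.1 hr1.2.2.2.2 hRH hRc hQH hQq hqα
    hRQ hreg hnu
  exact hP1 (le_bot_iff.mp (h ▸ le_inf hPα (le_centralizer_sup hPQ hPR)))

/-- **(B)** Case B (`q ∈ σ(M) ∩ σ(H)`): the mechanism.  `hc1`, `hc2` are the two `α`-claims
`C_{M_α}(P) ≤ C(R)` and `C_{M_α}(R) ≤ C(P)`. -/
theorem caseB (hG : IsMinSimpleOddOrder G)
    {M H : Subgroup G} (hM : IsCoatom M) (hH : IsCoatom H) (hMH : M ≠ H)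
    {q r : ℕ} [hq : Fact q.Prime] [hr : Fact r.Prime] {Q R P : Subgroup G}
    (hQM : Q ≤ M) (hQH : Q ≤ H) (hRM : R ≤ M) (hRH : R ≤ H) (hQq : IsPGroup q Q)
    (hRc : Nat.card R = r) (hRQ : R ≤ normalizer (Q : Set G)) (hcomm : Q ≤ ⁅Q, R⁆) (hQ1 : Q ≠ ⊥)
    (hreg : Q ⊓ centralizer (R : Set G) = ⊥) (hrH : r ∈ tau1 H) (hrM : r ∈ tau1 M)
    (hqαM : q ∉ alpha M) (hqαH : q ∉ alpha H)
    (hPα : P ≤ alphaCore H) (hP1 : P ≠ ⊥) (hPQ : P ≤ centralizer (Q : Set G))
    (hPR : P ≤ centralizer (R : Set G)) (hαM : alphaCore M ≠ ⊥)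
    (hc1 : alphaCore M ⊓ centralizer (P : Set G) ≤ centralizer (R : Set G))
    (hc2 : alphaCore M ⊓ centralizer (R : Set G) ≤ centralizer (P : Set G)) : False := by
  by_cases hnu : ∃ L' : Subgroup G, IsCoatom L' ∧ L' ≠ H ∧ H ⊓ centralizer (Q : Set G) ≤ L'
  · -- B(i)
    have h := Cfsg.Agent.Lib.Helper47.BG12.bg_12_17_a hG hH hrH.2.1 hrH.2.2.2.2 hRH hRc hQH hQq hqαH
      hRQ hreg hnu
    exact hP1 (le_bot_iff.mp (h ▸ le_inf hPα (le_centralizer_sup hPQ hPR)))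
  · -- B(ii): `N_G(Q) ≤ H`
    have hQtop : Q ≠ ⊤ := fun h => hH.1 (top_le_iff.mp (h ▸ hQH))
    obtain ⟨L, hL, hNL⟩ :=
      (eq_top_or_exists_le_coatom _).resolve_left (BG10.normalizer_ne_top hG hQ1 hQtop)
    have hLH : L = H := by
      by_contra hne
      exact hnu ⟨L, hL, hne,
        inf_le_right.trans ((Subgroup.centralizer_le_normalizer _).trans hNL)⟩
    subst hLH
    have hnuM : ∃ L' : Subgroup G, IsCoatom L' ∧ L' ≠ M ∧ M ⊓ centralizer (Q : Set G) ≤ L' :=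
      ⟨L, hL, Ne.symm hMH, inf_le_right.trans ((Subgroup.centralizer_le_normalizer _).trans hNL)⟩
    have h1 := Cfsg.Agent.Lib.Helper47.BG12.bg_12_17_a hG hM hrM.2.1 hrM.2.2.2.2 hRM hRc hQM hQq hqαM
      hRQ hreg hnuM
    have h2 := Cfsg.Agent.Lib.Helper47.BG12.bg_12_17_a_ne hG hM hRM hRc hQM hQq hqαM
      (Cfsg.Agent.Lib.Helper47.BG12.t_not_alpha hrM.2.2.2.2) hRQ hreg hnuM hαM
    set V := alphaCore M ⊓ centralizer (R : Set G) with hV
    have hVP : V ≤ centralizer (P : Set G) := hc2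
    -- `Q` normalizes `V`
    have hMα : M ≤ normalizer ((alphaCore M : Subgroup G) : Set G) :=
      Cfsg.Agent.Lib.Helper96.BG103.le_normalizer_alphaCore M
    have hQV : Q ≤ normalizer (V : Set G) := by
      have hVeq : V = alphaCore M ⊓ centralizer (P : Set G) :=
        le_antisymm (le_inf inf_le_left hc2) (le_inf inf_le_left hc1)
      rw [hVeq]
      intro g hg
      have hgα := hMα (hQM hg)
      have hgP : g ∈ centralizer (P : Set G) := (Subgroup.le_centralizer_iff.mp hPQ) hg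
      rw [mem_normalizer_iff]
      intro x
      constructor
      · rintro ⟨hxα, hxP⟩
        refine ⟨(mem_normalizer_iff.mp hgα x).mp hxα, ?_⟩
        exact Subgroup.mul_mem _ (Subgroup.mul_mem _ hgP hxP) (Subgroup.inv_mem _ hgP)
      · rintro ⟨hxα, hxP⟩
        refine ⟨(mem_normalizer_iff.mp hgα x).mpr hxα, ?_⟩
        have : x = g⁻¹ * (g * x * g⁻¹) * g := by group
        rw [this]
        exact Subgroup.mul_mem _ (Subgroup.mul_mem _ (Subgroup.inv_mem _ hgP) hxP) hgP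
    have hRV : ⁅R, V⁆ = ⊥ := by
      rw [Subgroup.commutator_eq_bot_iff_le_centralizer, Subgroup.le_centralizer_iff]
      exact inf_le_right
    have hVR : ⁅V, R⁆ = ⊥ := by rw [Subgroup.commutator_comm]; exact hRV
    have h3 : ⁅⁅Q, R⁆, V⁆ = ⊥ := by
      apply Subgroup.commutator_commutator_eq_bot_of_rotate
      · rw [hRV]; exact Subgroup.commutator_bot_left _
      · have : ⁅V, Q⁆ ≤ V := Cfsg.Agent.Lib.Helper24.commutator_le_of_le_normalizer V Q hQV
        exact le_bot_iff.mp (hVR ▸ Subgroup.commutator_mono this le_rfl)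
    have hQVc : ⁅Q, V⁆ = ⊥ := le_bot_iff.mp (h3 ▸ Subgroup.commutator_mono hcomm le_rfl)
    have hVQ : V ≤ centralizer (Q : Set G) := by
      rw [Subgroup.le_centralizer_iff]
      exact Subgroup.commutator_eq_bot_iff_le_centralizer.mp hQVc
    exact h2 (le_bot_iff.mp (h1 ▸ le_inf inf_le_left (le_centralizer_sup hVQ inf_le_right)))

/-! ### Bad Sylow subgroups for a coprime action -/

/-- Coprime action: if `A` does not centralize `K`, there are a prime `q` and a nontrivial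
`A`-invariant `q`-subgroup `Q = [Q, A]` of `K`. -/
theorem exists_bad_sylow {A K : Subgroup G} (hAK : A ≤ normalizer (K : Set G))
    (hcop : (Nat.card A).Coprime (Nat.card K))
    (hsolv : Group.IsSolvable A ∨ Group.IsSolvable K) (hne : ¬ K ≤ centralizer (A : Set G)) :
    ∃ (q : ℕ) (_ : Fact q.Prime) (Q : Subgroup G), Q ≤ K ∧ IsPGroup q Q ∧
      A ≤ normalizer (Q : Set G) ∧ Q ≤ ⁅Q, A⁆ ∧ Q ≠ ⊥ := by
  by_contra hcon
  apply hne
  have key : K ≤ K ⊓ centralizer (A : Set G) := by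
    apply Cfsg.Agent.Lib.Helper48.le_of_forall_sylow_le K _ inf_le_left
    intro q hq
    obtain ⟨S, hS⟩ := Cfsg.Agent.Lib.Helper24.exists_invariant_sylow (p := q) A K hAK hcop hsolv
    refine ⟨S, le_inf (Subgroup.map_subtype_le _) ?_⟩
    by_contra hSc
    set S' : Subgroup G := (S : Subgroup K).map K.subtype with hS'
    have hS'K : S' ≤ K := Subgroup.map_subtype_le _
    have hS'q : IsPGroup q S' := S.2.map _
    have hcopS : (Nat.card A).Coprime (Nat.card S') :=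
      Nat.Coprime.coprime_dvd_right (Subgroup.card_dvd_of_le hS'K) hcop
    have hsolvS : Group.IsSolvable A ∨ Group.IsSolvable S' := by
      right
      haveI := hS'q.isNilpotent
      infer_instance
    apply hcon
    refine ⟨q, hq, ⁅S', A⁆, ?_, ?_, ?_, ?_, ?_⟩
    · exact (Cfsg.Agent.Lib.Helper24.commutator_le_of_le_normalizer S' A hS).trans hS'K
    · exact hS'q.to_le (Cfsg.Agent.Lib.Helper24.commutator_le_of_le_normalizer S' A hS)
    · exact Cfsg.Agent.Lib.Helper24.le_normalizer_commutator_right S' A hS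
    · exact (Cfsg.Agent.Lib.Helper24.commutator_commutator_eq A S' hS hcopS hsolvS).ge
    · intro hbot
      exact hSc (Subgroup.commutator_eq_bot_iff_le_centralizer.mp hbot)
  exact key.trans inf_le_right

/-! ### Case A, total -/

/-- **Case A** of B&G 13.4 (`q ∈ τ₃(H)`) is impossible. -/
theorem caseA (hG : IsMinSimpleOddOrder G) {M : Subgroup G} (hM : IsCoatom M)
    {E : Subgroup G} (hE : IsComplIn E (sigmaCore M) M) {p : ℕ} (hp : p ∈ tau1 M)
    {P : Subgroup G} (hPE : P ≤ E) (hP : Nat.card P = p) {R : Subgroup G}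
    (hRE : R ≤ E ⊓ centralizer (P : Set G)) (hR : (Nat.card R).Prime)
    (hrp : Nat.card R ≠ p) {H : Subgroup G} (hH : IsCoatom H)
    (hCH : sigmaCore M ⊓ centralizer (P : Set G) ≤ H) (hPH : P ≤ H) (hRH : R ≤ H)
    (hpH : p ∈ sigma H) (hrH : Nat.card R ∈ tau1 H) {q : ℕ} [hqf : Fact q.Prime]
    (hqH : q ∈ tau3 H)
    {Q₀ : Subgroup G} (hQq : IsPGroup q Q₀)
    (hQC : Q₀ ≤ sigmaCore M ⊓ centralizer (P : Set G))
    (hRQ : R ≤ normalizer (Q₀ : Set G)) (hnot : ¬ Q₀ ≤ centralizer (R : Set G)) : False := by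
  haveI hpf : Fact p.Prime := ⟨hp.1⟩
  obtain ⟨r, hrdef⟩ : ∃ r, r = Nat.card R := ⟨_, rfl⟩
  rw [← hrdef] at hR hrH
  haveI hrf : Fact r.Prime := ⟨hR⟩
  have hU := uniqStmt hG
  have hσM : SigmaHallIn M := (Cfsg.Agent.S1350.result hG M hM).1
  have hqr : q ≠ r := by
    rintro rfl
    exact hrH.2.2.2.1 hqH.2.2.1
  have hpq : p ≠ q := by
    rintro rfl
    exact hqH.2.1 hpH
  have hcop : (Nat.card R).Coprime (Nat.card Q₀) := by
    rw [← hrdef]
    obtain ⟨k, hk⟩ := IsPGroup.iff_card.mp hQq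
    rw [hk]
    exact Nat.Coprime.pow_right _ ((Nat.coprime_primes hR hqf.out).mpr (Ne.symm hqr))
  have hsolv : Group.IsSolvable R ∨ Group.IsSolvable Q₀ := by
    right
    haveI := hQq.isNilpotent
    infer_instance
  -- `Q := [Q₀, R]`
  obtain ⟨Q, hQdef⟩ : ∃ Q : Subgroup G, Q = ⁅Q₀, R⁆ := ⟨_, rfl⟩
  have hQQ₀ : Q ≤ Q₀ := by
    rw [hQdef]; exact Cfsg.Agent.Lib.Helper24.commutator_le_of_le_normalizer Q₀ R hRQ
  have hQ1 : Q ≠ ⊥ := by
    intro hbot
    rw [hQdef] at hbot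
    exact hnot (Subgroup.commutator_eq_bot_iff_le_centralizer.mp hbot)
  have hRQ' : R ≤ normalizer (Q : Set G) := by
    rw [hQdef]; exact Cfsg.Agent.Lib.Helper24.le_normalizer_commutator_right Q₀ R hRQ
  have hcomm : Q ≤ ⁅Q, R⁆ := by
    rw [hQdef]
    exact (Cfsg.Agent.Lib.Helper24.commutator_commutator_eq R Q₀ hRQ hcop hsolv).ge
  have hQq' : IsPGroup q Q := hQq.to_le hQQ₀
  have hQC' : Q ≤ sigmaCore M ⊓ centralizer (P : Set G) := hQQ₀.trans hQC
  have hQH : Q ≤ H := hQC'.trans hCH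
  have hQM : Q ≤ M := (hQC'.trans inf_le_left).trans hσM.1
  have hPQ : P ≤ centralizer (Q : Set G) :=
    Subgroup.le_centralizer_iff.mp (hQC'.trans inf_le_right)
  have hPR : P ≤ centralizer (R : Set G) := Subgroup.le_centralizer_iff.mp (hRE.trans inf_le_right)
  have hPM : P ≤ M := hPE.trans hE.1
  have hPp : IsPGroup p P := IsPGroup.of_card (n := 1) (by rw [hP, pow_one])
  have hP1 : P ≠ ⊥ := by
    intro h
    rw [h, Subgroup.card_bot] at hP
    exact hpf.out.one_lt.ne hP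
  have hqM : q ∈ sigma M := by
    apply hσM.2.1 q hqf.out
    exact (dvd_card_of_isPGroup_ne_bot hQq' hQ1).trans
      (Subgroup.card_dvd_of_le (hQC'.trans inf_le_left))
  -- the set-up
  obtain ⟨-, -, -, hreg, EH, hEH, hQE, hRE', hEQ⟩ :=
    caseA_setup hG hH hQH hRH hQq' hrdef.symm hRQ' hcomm hQ1 hqH.2.1 hrH
      (fun h => h.2.2.2 hqH.2.2.2)
  by_cases hpα : p ∈ alpha H
  · -- A1
    have h5 := (Cfsg.Agent.S1405.result hG H hH).1
    have hPα : P ≤ alphaCore H :=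
      Cfsg.Agent.Lib.Helper68.BG1215.le_of_isPGroup_of_not_dvd h5.1
        (Cfsg.Agent.Lib.Helper96.BG103.le_normalizer_alphaCore H) hPH hPp
        (h5.2.2 p hpf.out hpα)
    exact caseA1 hG hH hQH hRH hQq' hrdef.symm hRQ' hQ1 hreg hrH hqH hPα hP1 hPQ hPR
  · -- A2
    obtain ⟨S, hSp, hS1, hSi, hSH, hES, hSE, hE'S⟩ :=
      Cfsg.Agent.Lib.Helper62.BG13K.lemmaK hG hH hpH hpα hEH
    have hSQ : S ≤ centralizer (Q : Set G) := by
      rw [Subgroup.le_centralizer_iff]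
      exact (hcomm.trans (Subgroup.commutator_mono hQE hRE')).trans hE'S
    have hr2 : PRankLE p 2 G := by
      have hH2 : PRankLE p 2 ↥H := by
        by_contra h
        exact hpα ⟨hpf.out, h⟩
      have hS2 : PRankLE p 2 ↥S := BG10.pRankLE_of_injective (Subgroup.inclusion hSH)
        (Subgroup.inclusion_injective hSH) hH2
      exact BG10.pRankLE_of_sylow p (hSp.toSylow hSi) hS2
    exact Cfsg.Agent.Lib.Helper68.BG134.caseA2 hG hM hpq hp hqM hqH.2.2.2 hP hPM hCH hQq' hQ1 hQM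
      hPQ hSp hS1 hSQ hEQ hSE hr2

end Cfsg.Agent.Lib.Helper50.BG134
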