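import Cfsg.Agent.Lib.Helper50.BG138A
import Cfsg.Agent.Lib.Helper48.TIStep
import Cfsg.Agent.Lib.Helper63.BG13a
import Cfsg.Agent.Lib.Helper23.AlphaB
import Cfsg.Agent.Lib.Helper80.BG138

set_option autoImplicit false
set_option linter.style.haveILetI false
set_option linter.unusedSectionVars false
set_option linter.unusedVariables false

/-!
# Bender–Glauberman Lemma 13.8 (asymmetry): the assembly

`asym_of_core`: the statement of B&G 13.8 from the core argument (steps (3)–(6), helper80's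
`asym_core`, taken here as the hypothesis `AsymCore`).
-/

namespace Cfsg.Agent.Lib.Helper50.BG138

open Subgroup Cfsg Cfsg.Agent.Lib.Helper33

universe u

variable {G : Type u} [Group G] [Finite G]

/-- the statement of helper80's `asym_core` (steps (3)–(6) of B&G 13.8) -/
def AsymCore (G : Type u) [Group G] : Prop :=
  ∀ {M L : Subgroup G} {p : ℕ} [Fact p.Prime] {P : Subgroup G}, Nat.card P = p → P ≤ M ⊓ L →
    IsPiHallOf (alpha M) (alphaCore M) M → IsPiHallOf (alpha L) (alphaCore L) L →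
    p ∉ alpha M → p ∉ alpha L → (∀ u : ℕ, u ∈ alpha M → u ∈ alpha L → False) →
    (∀ k ∈ alphaCore M, k ≠ 1 → ∀ g : G, g * k * g⁻¹ ∈ M → g ∈ M) →
    (∀ k ∈ alphaCore L, k ≠ 1 → ∀ g : G, g * k * g⁻¹ ∈ L → g ∈ L) →
    (∀ m ∈ M, ∃ a ∈ alphaCore M, ∃ b ∈ M ⊓ L, m = a * b) →
    (∀ m ∈ L, ∃ a ∈ alphaCore L, ∃ b ∈ M ⊓ L, m = a * b) →
    alphaCore M ⊓ centralizer (P : Set G) ≠ ⊥ → alphaCore L ⊓ centralizer (P : Set G) ≠ ⊥ →
    (alphaCore M ⊓ L) ⊓ centralizer (P : Set G) = ⊥ →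
    (alphaCore L ⊓ M) ⊓ centralizer (P : Set G) = ⊥ → False

/-- the "pin" property of `M_α` when `α(M) ⊆ β(M)` -/
theorem pin_alphaCore (hG : IsMinSimpleOddOrder G) {M : Subgroup G} (hM : IsCoatom M)
    (hαβ : ∀ s : ℕ, s ∈ alpha M → s ∈ beta M) :
    ∀ k ∈ alphaCore M, k ≠ 1 → ∀ g : G, g * k * g⁻¹ ∈ M → g ∈ M := by
  obtain ⟨⟨hle, hαMπ, -⟩, -, -, -, -⟩ := Cfsg.Agent.S1405.result hG M hM
  intro k hk hk1 g hg
  refine Cfsg.Agent.Lib.Helper48.TIStep.mem_of_conj_beta hG hM (hle hk) hk1 ?_ hg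
  intro s hs hsd
  apply hαβ
  apply hαMπ s hs
  have h1 : orderOf k ∣ Nat.card (alphaCore M) := by
    have := orderOf_dvd_natCard (⟨k, hk⟩ : ↥(alphaCore M))
    rwa [Subgroup.orderOf_mk] at this
  exact hsd.trans h1

/-- **B&G Lemma 13.8 (asymmetry)**, from the core argument. -/
theorem asym_of_core (hG : IsMinSimpleOddOrder G) (hcore : AsymCore G) {M L : Subgroup G}
    (hM : IsCoatom M) (hL : IsCoatom L) (hnc : ∀ g : G, L ≠ cj g M)
    {p q r : ℕ} [hp : Fact p.Prime] [hq : Fact q.Prime] [hr : Fact r.Prime]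
    (hpM : p ∈ tau1 M) (hpL : p ∈ tau1 L) {P Q R : Subgroup G} (hP : Nat.card P = p)
    (hPB : P ≤ M ⊓ L) (hQB : Q ≤ M ⊓ L) (hQq : IsPGroup q Q)
    (hQs : ¬ q ∣ Q.relIndex (M ⊓ L)) (hRB : R ≤ M ⊓ L) (hRr : IsPGroup r R)
    (hRs : ¬ r ∣ R.relIndex (M ⊓ L)) (hPQ : P ≤ normalizer (Q : Set G))
    (hPR : P ≤ normalizer (R : Set G)) (hregQ : Q ⊓ centralizer (P : Set G) = ⊥)
    (hregR : R ⊓ centralizer (P : Set G) = ⊥) (hNQ : normalizer (Q : Set G) ≤ L)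
    (hNR : normalizer (R : Set G) ≤ M) : False := by
  have hU : Cfsg.Agent.Lib.Helper63.BG10.UniqStmt G := fun K hK h1 h2 => Cfsg.Agent.S1403.result hG K hK h1 h2
  have hne : M ≠ L := by
    intro h
    exact hnc 1 (by rw [cj_one]; exact h.symm)
  have hcomm : L ⊓ M = M ⊓ L := inf_comm _ _
  obtain ⟨-, -, commQ, qαM, αβM, KM, reg2M, decM⟩ :=
    asym_side hG hM hL hne hpM hP hPB hQB hQq hQs hPQ hregQ hNQ
  obtain ⟨-, -, commR, rαL, αβL, KL, reg2L, decL⟩ :=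
    asym_side hG hL hM (Ne.symm hne) hpL hP (hcomm ▸ hPB) (hcomm ▸ hRB) hRr (hcomm ▸ hRs) hPR
      hregR hNR
  have hdisj : ∀ u : ℕ, u ∈ alpha M → u ∈ alpha L → False := by
    intro u huM huL
    obtain ⟨g, hg⟩ := Cfsg.Agent.Lib.Helper63.BG13.conj_of_sigma_alpha hU hL hM
      (Cfsg.Agent.Lib.Helper23.alpha_subset_sigma hG hU hM huM) huL
    exact hnc g hg
  have hregM := asym_reg hG hM hL hdisj (hPB.trans inf_le_right) (hQB.trans inf_le_right)
    (hQB.trans inf_le_left) hQq commQ qαM reg2M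
  have hregL := asym_reg hG hL hM (fun u h1 h2 => hdisj u h2 h1) (hPB.trans inf_le_left)
    (hRB.trans inf_le_left) (hRB.trans inf_le_right) hRr commR rαL reg2L
  have hHM := (Cfsg.Agent.S1405.result hG M hM).1
  have hHL := (Cfsg.Agent.S1405.result hG L hL).1
  exact hcore hP hPB hHM hHL (Cfsg.Agent.Lib.Helper47.BG12.t_not_alpha hpM.2.2.2.2)
    (Cfsg.Agent.Lib.Helper47.BG12.t_not_alpha hpL.2.2.2.2) hdisj
    (pin_alphaCore hG hM αβM) (pin_alphaCore hG hL αβL) decM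
    (fun m hm => by
      obtain ⟨a, ha, b, hb, hab⟩ := decL m hm
      exact ⟨a, ha, b, hcomm ▸ hb, hab⟩)
    KM KL hregM hregL

/-- `asym_of_core` in the shape of helper23's `StmtAsym` (`Lib/Helper23/BG1310`). -/
theorem stmtAsym_of_core (hG : IsMinSimpleOddOrder G) (hcore : AsymCore G) :
    ∀ M L : Subgroup G, IsCoatom M → IsCoatom L →
      (∀ g : G, L ≠ M.map (MulAut.conj g).toMonoidHom) → ∀ p q r : ℕ, p.Prime → q.Prime →
      r.Prime → p ∈ tau1 M → p ∈ tau1 L → ∀ P Q R : Subgroup G, Nat.card P = p → P ≤ M ⊓ L →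
      Q ≤ M ⊓ L → IsPGroup q Q → ¬ q ∣ Q.relIndex (M ⊓ L) → R ≤ M ⊓ L → IsPGroup r R →
      ¬ r ∣ R.relIndex (M ⊓ L) → P ≤ normalizer (Q : Set G) → P ≤ normalizer (R : Set G) →
      Q ⊓ centralizer (P : Set G) = ⊥ → R ⊓ centralizer (P : Set G) = ⊥ →
      normalizer (Q : Set G) ≤ L → normalizer (R : Set G) ≤ M → False := by
  intro M L hM hL hnc p q r hp hq hr hpM hpL P Q R hP hPB hQB hQq hQs hRB hRr hRs hPQ hPR
    hregQ hregR hNQ hNR
  haveI : Fact p.Prime := ⟨hp⟩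
  haveI : Fact q.Prime := ⟨hq⟩
  haveI : Fact r.Prime := ⟨hr⟩
  exact asym_of_core hG hcore hM hL (fun g => hnc g) hpM hpL hP hPB hQB hQq hQs hRB hRr hRs
    hPQ hPR hregQ hregR hNQ hNR

/-- helper80's `asym_core` discharges the interface `AsymCore`. -/
theorem asymCore_holds (hG : IsMinSimpleOddOrder G) : AsymCore G := by
  intro M L p _ P hP hPB hHM hHL hpM hpL hdisj pinM pinL hdecM hdecL hKM hKL hregM hregL
  exact Cfsg.Agent.Lib.Helper80.BG138.asym_core hG hP hPB hHM hHL hpM hpL hdisj pinM pinL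
    hdecM hdecL hKM hKL hregM hregL

/-- **Bender–Glauberman Lemma 13.8** (the asymmetry lemma), unconditional. -/
theorem bg_13_8 (hG : IsMinSimpleOddOrder G) {M L : Subgroup G}
    (hM : IsCoatom M) (hL : IsCoatom L) (hnc : ∀ g : G, L ≠ cj g M)
    {p q r : ℕ} [hp : Fact p.Prime] [hq : Fact q.Prime] [hr : Fact r.Prime]
    (hpM : p ∈ tau1 M) (hpL : p ∈ tau1 L) {P Q R : Subgroup G} (hP : Nat.card P = p)
    (hPB : P ≤ M ⊓ L) (hQB : Q ≤ M ⊓ L) (hQq : IsPGroup q Q)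
    (hQs : ¬ q ∣ Q.relIndex (M ⊓ L)) (hRB : R ≤ M ⊓ L) (hRr : IsPGroup r R)
    (hRs : ¬ r ∣ R.relIndex (M ⊓ L)) (hPQ : P ≤ normalizer (Q : Set G))
    (hPR : P ≤ normalizer (R : Set G)) (hregQ : Q ⊓ centralizer (P : Set G) = ⊥)
    (hregR : R ⊓ centralizer (P : Set G) = ⊥) (hNQ : normalizer (Q : Set G) ≤ L)
    (hNR : normalizer (R : Set G) ≤ M) : False :=
  asym_of_core hG (asymCore_holds hG) hM hL hnc hpM hpL hP hPB hQB hQq hQs hRB hRr hRs
    hPQ hPR hregQ hregR hNQ hNR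

/-- B&G 13.8, unconditional, in the shape of helper23's `StmtAsym`. -/
theorem stmtAsym (hG : IsMinSimpleOddOrder G) :
    ∀ M L : Subgroup G, IsCoatom M → IsCoatom L →
      (∀ g : G, L ≠ M.map (MulAut.conj g).toMonoidHom) → ∀ p q r : ℕ, p.Prime → q.Prime →
      r.Prime → p ∈ tau1 M → p ∈ tau1 L → ∀ P Q R : Subgroup G, Nat.card P = p → P ≤ M ⊓ L →
      Q ≤ M ⊓ L → IsPGroup q Q → ¬ q ∣ Q.relIndex (M ⊓ L) → R ≤ M ⊓ L → IsPGroup r R →
      ¬ r ∣ R.relIndex (M ⊓ L) → P ≤ normalizer (Q : Set G) → P ≤ normalizer (R : Set G) →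
      Q ⊓ centralizer (P : Set G) = ⊥ → R ⊓ centralizer (P : Set G) = ⊥ →
      normalizer (Q : Set G) ≤ L → normalizer (R : Set G) ≤ M → False :=
  stmtAsym_of_core hG (asymCore_holds hG)

end Cfsg.Agent.Lib.Helper50.BG138
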