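import Cfsg.Agent.Lib.Helper50.Basic
import Cfsg.Agent.Lib.Helper48.CoprimeGen

set_option autoImplicit false

universe u

namespace Cfsg.Agent.Lib.Helper50

open Subgroup Cfsg.Agent.Lib.Helper48

variable {G : Type u} [Group G]

/-- a `p`-group and a `p'`-group meet trivially -/
theorem inf_eq_bot_of_isPGroup_of_coprime {p : ℕ} [Fact p.Prime] {Q R : Subgroup G}
    (hQ : IsPGroup p Q) (hR : (Nat.card R).Coprime p) : Q ⊓ R = ⊥ := by
  rw [eq_bot_iff]
  intro y hy
  rw [Subgroup.mem_bot]
  obtain ⟨k, hk⟩ := hQ ⟨y, hy.1⟩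
  have h1 : y ^ p ^ k = 1 := by
    have := congrArg Subtype.val hk
    simpa using this
  have h2 : orderOf y ∣ p ^ k := orderOf_dvd_of_pow_eq_one h1
  have h3 : orderOf y ∣ Nat.card R := Subgroup.orderOf_dvd_natCard R hy.2
  have h4 : Nat.Coprime (p ^ k) (Nat.card R) := (Nat.Coprime.pow_right k hR).symm
  have h5 : orderOf y = 1 := Nat.eq_one_of_dvd_coprimes h4 h2 h3
  exact orderOf_eq_one_iff.1 h5

/-- coprime generation, element version, for a subgroup normalized by `a` and `b` -/
theorem exists_mem_genSet_centralizer_ne_bot [Finite G] {p : ℕ} [Fact p.Prime]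
    (R : Subgroup G) (hR : ¬ p ∣ Nat.card R) (hR1 : R ≠ ⊥) (a b : G)
    (ha : a ∈ normalizer (R : Set G)) (hb : b ∈ normalizer (R : Set G))
    (hap : a ^ p = 1) (hbp : b ^ p = 1) (hab : a * b = b * a) :
    ∃ c ∈ genSet a b, R ⊓ centralizer {c} ≠ ⊥ := by
  by_contra hno
  apply hR1
  have hRX : R ≤ normalizer (R : Set G) := le_normalizer
  have hn : (R.subgroupOf (normalizer (R : Set G))).Normal :=
    Subgroup.normal_subgroupOf_of_le_normalizer le_rfl
  have hcard : Nat.card (R.subgroupOf (normalizer (R : Set G))) = Nat.card R :=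
    Nat.card_congr (Subgroup.subgroupOfEquivOfLe hRX).toEquiv
  have h1 := coprime_gen (p := p) (R.subgroupOf (normalizer (R : Set G)))
    (⟨a, ha⟩ : normalizer (R : Set G)) ⟨b, hb⟩
    (by apply Subtype.ext; simpa using hap) (by apply Subtype.ext; simpa using hbp)
    (by apply Subtype.ext; simpa using hab) (by rw [hcard]; exact hR)
  have h2 := genSub_transfer_subgroup (normalizer (R : Set G)) R a b ha hb hRX h1
  rw [eq_bot_iff]
  refine h2.trans ?_
  unfold genSub
  apply iSup₂_le
  intro c hc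
  by_contra hc'
  apply hno
  refine ⟨c, hc, ?_⟩
  intro h
  exact hc' (h ▸ le_rfl)

/-- Induction form: an elementary abelian `p`-group `U` acting coprimely on `R ≠ 1`, with `D ≤ U`
centralizing `R`: some `U₀` between `D` and `U`, equal to `U` or a hyperplane of `U`, has
nontrivial fixed points on `R`. -/
theorem exists_hyperplane_aux [Finite G] {p : ℕ} [Fact p.Prime] (U : Subgroup G)
    (hcomm : ∀ x ∈ U, ∀ y ∈ U, x * y = y * x) (hexp : ∀ a ∈ U, a ^ p = 1) (n : ℕ) :
    ∀ D R : Subgroup G, D ≤ U → Nat.card U - Nat.card D ≤ n → ¬ p ∣ Nat.card R →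
      U ≤ normalizer (R : Set G) → R ≠ ⊥ → D ≤ centralizer (R : Set G) →
      ∃ U₀ : Subgroup G, D ≤ U₀ ∧ U₀ ≤ U ∧ (U₀ = U ∨ IsCoatom (U₀.subgroupOf U)) ∧
        R ⊓ centralizer (U₀ : Set G) ≠ ⊥ := by
  induction n with
  | zero =>
    intro D R hDU hn _ _ hR1 hDR
    have hDU' : D = U := Subgroup.eq_of_le_of_card_ge hDU (by omega)
    refine ⟨U, hDU, le_rfl, Or.inl rfl, ?_⟩
    have : R ≤ centralizer (U : Set G) := by
      rw [← hDU']
      exact Subgroup.le_centralizer_iff.1 hDR
    rw [inf_eq_left.2 this]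
    exact hR1
  | succ n ih =>
    intro D R hDU hn hRp hUR hR1 hDR
    have hRD : R ≤ centralizer (D : Set G) := Subgroup.le_centralizer_iff.1 hDR
    by_cases hDU' : D = U
    · refine ⟨D, le_rfl, hDU, Or.inl hDU', ?_⟩
      rw [inf_eq_left.2 hRD]
      exact hR1
    by_cases hco : IsCoatom (D.subgroupOf U)
    · refine ⟨D, le_rfl, hDU, Or.inr hco, ?_⟩
      rw [inf_eq_left.2 hRD]
      exact hR1
    -- an intermediate subgroup
    have hDtop : D.subgroupOf U ≠ ⊤ := by
      intro h
      exact hDU' (le_antisymm hDU (Subgroup.subgroupOf_eq_top.1 h))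
    have hex : ∃ E : Subgroup U, D.subgroupOf U < E ∧ E ≠ ⊤ := by
      by_contra hno
      apply hco
      refine ⟨hDtop, fun E hE => ?_⟩
      by_contra hE'
      exact hno ⟨E, hE, hE'⟩
    obtain ⟨E, hDE, hEtop⟩ := hex
    obtain ⟨b, hbE, hbD⟩ := SetLike.exists_of_lt hDE
    obtain ⟨a, -, haE⟩ := SetLike.exists_of_lt (lt_top_iff_ne_top.2 hEtop)
    have hbD' : (b : G) ∉ D := fun h => hbD h
    have habD : ∀ k : ℕ, (a : G) * (b : G) ^ k ∉ D := by
      intro k h
      apply haE
      have h1 : a * b ^ k ∈ D.subgroupOf U := by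
        rw [Subgroup.mem_subgroupOf]
        simpa using h
      have h2 : a * b ^ k ∈ E := hDE.le h1
      have h3 : b ^ k ∈ E := E.pow_mem hbE k
      have : a = a * b ^ k * (b ^ k)⁻¹ := by group
      rw [this]
      exact E.mul_mem h2 (E.inv_mem h3)
    obtain ⟨c, hc, hcR⟩ := exists_mem_genSet_centralizer_ne_bot (p := p) R hRp hR1 (a : G) (b : G)
      (hUR a.2) (hUR b.2) (hexp _ a.2) (hexp _ b.2) (hcomm _ a.2 _ b.2)
    have hcU : c ∈ U := by
      rcases hc with rfl | ⟨k, rfl⟩
      · exact b.2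
      · exact U.mul_mem a.2 (U.pow_mem b.2 k)
    have hcD : c ∉ D := by
      rcases hc with rfl | ⟨k, rfl⟩
      · exact hbD'
      · exact habD k
    -- the new pair
    have hD1U : D ⊔ zpowers c ≤ U := sup_le hDU ((zpowers_le).2 hcU)
    have hlt : Nat.card D < Nat.card (D ⊔ zpowers c : Subgroup G) := by
      by_contra hle
      have := Subgroup.eq_of_le_of_card_ge (le_sup_left : D ≤ D ⊔ zpowers c) (by omega)
      apply hcD
      rw [this]
      exact (le_sup_right : zpowers c ≤ D ⊔ zpowers c) (mem_zpowers c)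
    have hle2 : Nat.card (D ⊔ zpowers c : Subgroup G) ≤ Nat.card U := Subgroup.card_le_of_le hD1U
    have hR2p : ¬ p ∣ Nat.card (R ⊓ centralizer {c} : Subgroup G) := fun h =>
      hRp (h.trans (Subgroup.card_dvd_of_le inf_le_left))
    have hUR2 : U ≤ normalizer ((R ⊓ centralizer {c} : Subgroup G) : Set G) := by
      intro u hu
      apply mem_normalizer_of_conj_mem
      intro x hx
      refine ⟨((mem_normalizer_iff.1 (hUR hu)) x).1 hx.1, ?_⟩
      have h1 : x ∈ centralizer {c} := hx.2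
      rw [mem_centralizer_singleton_iff] at h1
      show u * x * u⁻¹ ∈ centralizer {c}
      rw [mem_centralizer_singleton_iff]
      have h2 : u * c = c * u := hcomm u hu c hcU
      have h3 : u⁻¹ * c = c * u⁻¹ := by
        rw [eq_mul_inv_iff_mul_eq, mul_assoc, ← h2, ← mul_assoc, inv_mul_cancel, one_mul]
      calc u * x * u⁻¹ * c = u * x * (u⁻¹ * c) := by group
        _ = u * x * (c * u⁻¹) := by rw [h3]
        _ = u * (x * c) * u⁻¹ := by group
        _ = u * (c * x) * u⁻¹ := by rw [h1]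
        _ = (u * c) * x * u⁻¹ := by group
        _ = (c * u) * x * u⁻¹ := by rw [h2]
        _ = c * (u * x * u⁻¹) := by group
    have hD1R2 : D ⊔ zpowers c ≤ centralizer ((R ⊓ centralizer {c} : Subgroup G) : Set G) := by
      apply sup_le
      · exact hDR.trans (Subgroup.centralizer_le (show ((R ⊓ centralizer {c} : Subgroup G) : Set G)
          ⊆ (R : Set G) from fun x hx => hx.1))
      · rw [zpowers_le, mem_centralizer_iff]
        intro x hx
        have h1 : x ∈ centralizer {c} := hx.2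
        rw [mem_centralizer_singleton_iff] at h1
        exact h1
    obtain ⟨U₀, h1, h2, h3, h4⟩ := ih (D ⊔ zpowers c) (R ⊓ centralizer {c}) hD1U (by omega) hR2p hUR2
      hcR hD1R2
    refine ⟨U₀, le_sup_left.trans h1, h2, h3, ?_⟩
    intro h
    apply h4
    rw [eq_bot_iff, ← h]
    exact inf_le_inf_right _ inf_le_left

/-- A noncyclic-or-not elementary abelian `p`-group `U ≠ 1` acting coprimely on `R ≠ 1` has a
hyperplane with nontrivial fixed points on `R`. -/
theorem exists_hyperplane_centralizer_ne_bot [Finite G] {p : ℕ} [Fact p.Prime] (U R : Subgroup G)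
    (hcomm : ∀ x ∈ U, ∀ y ∈ U, x * y = y * x) (hexp : ∀ a ∈ U, a ^ p = 1) (hU1 : U ≠ ⊥)
    (hRp : ¬ p ∣ Nat.card R) (hUR : U ≤ normalizer (R : Set G)) (hR1 : R ≠ ⊥) :
    ∃ U₀ : Subgroup G, U₀ ≤ U ∧ IsCoatom (U₀.subgroupOf U) ∧
      R ⊓ centralizer (U₀ : Set G) ≠ ⊥ := by
  obtain ⟨U₀, -, h2, h3, h4⟩ := exists_hyperplane_aux U hcomm hexp (Nat.card U) ⊥ R bot_le
    (Nat.sub_le _ _) hRp hUR hR1 (by simp)
  rcases h3 with h3 | h3
  · -- pick any coatom of U
    have hnt : Nontrivial U := (Subgroup.nontrivial_iff_ne_bot U).2 hU1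
    obtain ⟨M, hM⟩ : ∃ M : Subgroup U, IsCoatom M := by
      rcases eq_top_or_exists_le_coatom (⊥ : Subgroup U) with h | ⟨M, hM, _⟩
      · exact absurd h bot_ne_top
      · exact ⟨M, hM⟩
    refine ⟨M.map U.subtype, Subgroup.map_subtype_le M, ?_, ?_⟩
    · have : (M.map U.subtype).subgroupOf U = M := by
        rw [Subgroup.subgroupOf, Subgroup.comap_map_eq_self_of_injective U.subtype_injective]
      rw [this]
      exact hM
    · intro h
      apply h4
      rw [eq_bot_iff, ← h, h3]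
      exact inf_le_inf_left _ (Subgroup.centralizer_le (show ((M.map U.subtype : Subgroup G) : Set G)
        ⊆ (U : Set G) from Subgroup.map_subtype_le M))
  · exact ⟨U₀, h2, h3, h4⟩

end Cfsg.Agent.Lib.Helper50
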