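import Mathlib
import Cfsg.Prelude.Def_OddOrderLocal
import Cfsg.Agent.Lib.Helper33.Conj

set_option autoImplicit false
set_option linter.style.haveILetI false
set_option linter.unusedSectionVars false
set_option linter.unusedVariables false

/-!
# Conjugation plumbing for `supportR`, `tildeOf`, `fittingHallOf`, `sigmaCore`

All the Prelude constructions of the Bender–Glauberman vocabulary are invariant under conjugation.
This file provides the transport lemmas for `fittingHall`, `fittingHallOf`, `piCore`, `sigma`,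
`sigmaCore`, `supportR` and `tildeOf` (`cj = Helper33.cj`).
-/

namespace Cfsg.Agent.Lib.Helper50.Tilde

open Subgroup Cfsg Cfsg.Agent.Lib.Helper33

universe u

section equiv

variable {H H' : Type u} [Group H] [Group H']

/-- cardinality of the image under an isomorphism -/
theorem card_map_equiv (e : H ≃* H') (N : Subgroup H) :
    Nat.card (N.map e.toMonoidHom) = Nat.card N :=
  Nat.card_congr (e.subgroupMap N).toEquiv.symm

/-- index of the image under an isomorphism -/
theorem index_map_equiv' (e : H ≃* H') (N : Subgroup H) :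
    (N.map e.toMonoidHom).index = N.index :=
  Subgroup.index_map_equiv N e

theorem fittingHall_mem_map (e : H ≃* H') {N : Subgroup H}
    (hN : N.Normal ∧ Group.IsNilpotent N ∧ (Nat.card N).Coprime N.index) :
    (N.map e.toMonoidHom).Normal ∧ Group.IsNilpotent (N.map e.toMonoidHom) ∧
      (Nat.card (N.map e.toMonoidHom)).Coprime (N.map e.toMonoidHom).index := by
  obtain ⟨h1, h2, h3⟩ := hN
  refine ⟨h1.map _ e.surjective, ?_, ?_⟩
  · haveI := h2
    exact Group.nilpotent_of_mulEquiv (e.subgroupMap N)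
  · rw [card_map_equiv, index_map_equiv']
    exact h3

/-- `fittingHall` is transported by isomorphisms. -/
theorem fittingHall_map_equiv (e : H ≃* H') :
    fittingHall H' = (fittingHall H).map e.toMonoidHom := by
  apply le_antisymm
  · unfold fittingHall
    apply sSup_le
    intro N' hN'
    have h1 := fittingHall_mem_map e.symm hN'
    have h2 : N'.map e.symm.toMonoidHom ≤
        sSup {N : Subgroup H | N.Normal ∧ Group.IsNilpotent N ∧ (Nat.card N).Coprime N.index} :=
      le_sSup h1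
    have h3 := Subgroup.map_mono (f := e.toMonoidHom) h2
    have h4 : (N'.map e.symm.toMonoidHom).map e.toMonoidHom = N' := by
      ext x
      simp only [Subgroup.mem_map, MulEquiv.coe_toMonoidHom]
      constructor
      · rintro ⟨y, ⟨z, hz, rfl⟩, rfl⟩
        simpa using hz
      · intro hx
        exact ⟨e.symm x, ⟨x, hx, rfl⟩, by simp⟩
    rwa [h4] at h3
  · rw [Subgroup.map_le_iff_le_comap]
    unfold fittingHall
    apply sSup_le
    intro N hN
    rw [← Subgroup.map_le_iff_le_comap]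
    exact le_sSup (fittingHall_mem_map e hN)

theorem piCore_mem_map (π : Set ℕ) (e : H ≃* H') {N : Subgroup H}
    (hN : N.Normal ∧ ∀ p : ℕ, p.Prime → p ∣ Nat.card N → p ∈ π) :
    (N.map e.toMonoidHom).Normal ∧
      ∀ p : ℕ, p.Prime → p ∣ Nat.card (N.map e.toMonoidHom) → p ∈ π := by
  obtain ⟨h1, h2⟩ := hN
  refine ⟨h1.map _ e.surjective, ?_⟩
  intro p hp hd
  rw [card_map_equiv] at hd
  exact h2 p hp hd

/-- `piCore` is transported by isomorphisms. -/
theorem piCore_map_equiv (π : Set ℕ) (e : H ≃* H') :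
    piCore π H' = (piCore π H).map e.toMonoidHom := by
  apply le_antisymm
  · unfold piCore
    apply sSup_le
    intro N' hN'
    have h1 := piCore_mem_map π e.symm hN'
    have h2 : N'.map e.symm.toMonoidHom ≤
        sSup {N : Subgroup H | N.Normal ∧ ∀ p : ℕ, p.Prime → p ∣ Nat.card N → p ∈ π} :=
      le_sSup h1
    have h3 := Subgroup.map_mono (f := e.toMonoidHom) h2
    have h4 : (N'.map e.symm.toMonoidHom).map e.toMonoidHom = N' := by
      ext x
      simp only [Subgroup.mem_map, MulEquiv.coe_toMonoidHom]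
      constructor
      · rintro ⟨y, ⟨z, hz, rfl⟩, rfl⟩
        simpa using hz
      · intro hx
        exact ⟨e.symm x, ⟨x, hx, rfl⟩, by simp⟩
    rwa [h4] at h3
  · rw [Subgroup.map_le_iff_le_comap]
    unfold piCore
    apply sSup_le
    intro N hN
    rw [← Subgroup.map_le_iff_le_comap]
    exact le_sSup (piCore_mem_map π e hN)

end equiv

variable {G : Type u} [Group G]

/-- the composite `L ≃* cj c L → G` is conjugation after inclusion -/
theorem map_cjEquiv_subtype (c : G) (L : Subgroup G) (N : Subgroup L) :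
    ((N.map (cjEquiv c L).toMonoidHom).map (cj c L).subtype) = cj c (N.map L.subtype) := by
  ext x
  rw [mem_cj']
  constructor
  · intro hx
    obtain ⟨y, hy, hyx⟩ := Subgroup.mem_map.1 hx
    obtain ⟨z, hz, hzy⟩ := Subgroup.mem_map.1 hy
    refine ⟨(z : G), Subgroup.mem_map.2 ⟨z, hz, rfl⟩, ?_⟩
    rw [← hyx, ← hzy]
    exact (coe_cjEquiv c L z).symm
  · rintro ⟨h, hh, rfl⟩
    obtain ⟨z, hz, rfl⟩ := Subgroup.mem_map.1 hh
    refine Subgroup.mem_map.2 ⟨cjEquiv c L z, Subgroup.mem_map.2 ⟨z, hz, rfl⟩, ?_⟩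
    exact coe_cjEquiv c L z

/-- `M_F` commutes with conjugation. -/
theorem fittingHallOf_cj (c : G) (L : Subgroup G) :
    fittingHallOf (cj c L) = cj c (fittingHallOf L) := by
  unfold fittingHallOf
  rw [fittingHall_map_equiv (cjEquiv c L), map_cjEquiv_subtype]

/-- `O_π(L)` commutes with conjugation. -/
theorem piCoreOf_cj' (π : Set ℕ) (c : G) (L : Subgroup G) :
    (piCore π ↥(cj c L)).map (cj c L).subtype = cj c ((piCore π ↥L).map L.subtype) := by
  rw [piCore_map_equiv π (cjEquiv c L), map_cjEquiv_subtype]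

/-- `C_G(c a c⁻¹) = c C_G(a) c⁻¹`. -/
theorem centralizer_singleton_cj (c a : G) :
    centralizer ({c * a * c⁻¹} : Set G) = cj c (centralizer ({a} : Set G)) := by
  ext x
  rw [mem_cj, Subgroup.mem_centralizer_singleton_iff, Subgroup.mem_centralizer_singleton_iff]
  constructor
  · intro h
    calc c⁻¹ * x * c * a = c⁻¹ * (x * (c * a * c⁻¹)) * c := by group
      _ = c⁻¹ * ((c * a * c⁻¹) * x) * c := by rw [h]
      _ = a * (c⁻¹ * x * c) := by group
  · intro h
    calc x * (c * a * c⁻¹) = c * (c⁻¹ * x * c * a) * c⁻¹ := by group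
      _ = c * (a * (c⁻¹ * x * c)) * c⁻¹ := by rw [h]
      _ = c * a * c⁻¹ * x := by group

/-- conjugates of maximal subgroups are maximal -/
theorem isCoatom_cj {M : Subgroup G} (hM : IsCoatom M) (g : G) : IsCoatom (cj g M) := by
  constructor
  · intro h
    apply hM.1
    have := congrArg (cj g⁻¹) h
    rwa [cj_inv_cj, cj_top] at this
  · intro K hK
    have h1 : M < cj g⁻¹ K := by
      have := (cj_lt_cj_iff (g := g⁻¹)).2 hK
      rwa [cj_inv_cj] at this
    have h2 := hM.2 _ h1
    have := congrArg (cj g) h2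
    rwa [cj_cj_inv, cj_top] at this

theorem isCoatom_cj_iff {M : Subgroup G} (g : G) : IsCoatom (cj g M) ↔ IsCoatom M := by
  constructor
  · intro h
    have := isCoatom_cj h g⁻¹
    rwa [cj_inv_cj] at this
  · intro h
    exact isCoatom_cj h g

/-- `C_G(cac⁻¹) ≤ cLc⁻¹ ↔ C_G(a) ≤ L`. -/
theorem centralizer_cj_le_cj_iff (c a : G) (L : Subgroup G) :
    centralizer ({c * a * c⁻¹} : Set G) ≤ cj c L ↔ centralizer ({a} : Set G) ≤ L := by
  rw [centralizer_singleton_cj, cj_le_cj_iff]

/-! ### `supportR` -/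

/-- `R(x) = C_{L_F}(x)` when `C_G(x) ≰ M` and `L` is the unique maximal subgroup over `C_G(x)`. -/
theorem supportR_eq_of_unique {M L : Subgroup G} {x : G}
    (h1 : ¬ centralizer ({x} : Set G) ≤ M) (hL : IsCoatom L)
    (hxL : centralizer ({x} : Set G) ≤ L)
    (huniq : ∀ L' : Subgroup G, IsCoatom L' → centralizer ({x} : Set G) ≤ L' → L' = L) :
    supportR M x = fittingHallOf L ⊓ centralizer ({x} : Set G) := by
  have hex : ∃! L' : Subgroup G, IsCoatom L' ∧ centralizer ({x} : Set G) ≤ L' :=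
    ⟨L, ⟨hL, hxL⟩, fun L' h => huniq L' h.1 h.2⟩
  have h : ¬ centralizer ({x} : Set G) ≤ M ∧
      ∃! L' : Subgroup G, IsCoatom L' ∧ centralizer ({x} : Set G) ≤ L' := ⟨h1, hex⟩
  unfold supportR
  rw [dif_pos h]
  have hc := Classical.choose_spec h.2.exists
  rw [huniq _ hc.1 hc.2]

/-- `R(x) = 1` when `C_G(x) ≤ M`. -/
theorem supportR_eq_bot_of_le {M : Subgroup G} {x : G}
    (h : centralizer ({x} : Set G) ≤ M) : supportR M x = ⊥ := by
  unfold supportR
  rw [dif_neg]
  intro h'
  exact h'.1 h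

/-- `R(x) = 1` when `C_G(x)` does not lie in a unique maximal subgroup. -/
theorem supportR_eq_bot_of_not_unique {M : Subgroup G} {x : G}
    (h : ¬ ∃! L : Subgroup G, IsCoatom L ∧ centralizer ({x} : Set G) ≤ L) :
    supportR M x = ⊥ := by
  unfold supportR
  rw [dif_neg]
  intro h'
  exact h h'.2

/-- the defining case distinction of `supportR`, as a disjunction -/
theorem supportR_cases (M : Subgroup G) (x : G) :
    supportR M x = ⊥ ∨
      (¬ centralizer ({x} : Set G) ≤ M ∧ ∃ L : Subgroup G, IsCoatom L ∧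
        centralizer ({x} : Set G) ≤ L ∧
        (∀ L' : Subgroup G, IsCoatom L' → centralizer ({x} : Set G) ≤ L' → L' = L) ∧
        supportR M x = fittingHallOf L ⊓ centralizer ({x} : Set G)) := by
  by_cases h1 : centralizer ({x} : Set G) ≤ M
  · exact Or.inl (supportR_eq_bot_of_le h1)
  · by_cases h2 : ∃! L : Subgroup G, IsCoatom L ∧ centralizer ({x} : Set G) ≤ L
    · obtain ⟨L, ⟨hL, hxL⟩, hu⟩ := h2
      have huniq : ∀ L' : Subgroup G, IsCoatom L' → centralizer ({x} : Set G) ≤ L' → L' = L :=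
        fun L' h h' => hu L' ⟨h, h'⟩
      exact Or.inr ⟨h1, L, hL, hxL, huniq, supportR_eq_of_unique h1 hL hxL huniq⟩
    · exact Or.inl (supportR_eq_bot_of_not_unique h2)

/-- `R(x) ≤ C_G(x)`. -/
theorem supportR_le_centralizer (M : Subgroup G) (x : G) :
    supportR M x ≤ centralizer ({x} : Set G) := by
  rcases supportR_cases M x with h | ⟨-, L, -, -, -, h⟩
  · rw [h]; exact bot_le
  · rw [h]; exact inf_le_right

/-- `supportR` commutes with conjugation. -/
theorem supportR_cj (c : G) (M : Subgroup G) (a : G) :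
    supportR (cj c M) (c * a * c⁻¹) = cj c (supportR M a) := by
  by_cases h1 : centralizer ({a} : Set G) ≤ M
  · rw [supportR_eq_bot_of_le h1, cj_bot]
    apply supportR_eq_bot_of_le
    rwa [centralizer_cj_le_cj_iff]
  · have h1' : ¬ centralizer ({c * a * c⁻¹} : Set G) ≤ cj c M := by
      rwa [centralizer_cj_le_cj_iff]
    by_cases h2 : ∃! L : Subgroup G, IsCoatom L ∧ centralizer ({a} : Set G) ≤ L
    · obtain ⟨L, ⟨hL, hxL⟩, hu⟩ := h2
      have huniq : ∀ L' : Subgroup G, IsCoatom L' → centralizer ({a} : Set G) ≤ L' → L' = L :=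
        fun L' h h' => hu L' ⟨h, h'⟩
      rw [supportR_eq_of_unique h1 hL hxL huniq]
      have huniq' : ∀ L' : Subgroup G, IsCoatom L' →
          centralizer ({c * a * c⁻¹} : Set G) ≤ L' → L' = cj c L := by
        intro L' hL' hL'x
        have e1 : cj c (cj c⁻¹ L') = L' := cj_cj_inv c L'
        have h3 : centralizer ({a} : Set G) ≤ cj c⁻¹ L' := by
          rw [← centralizer_cj_le_cj_iff c a, e1]
          exact hL'x
        have h4 := huniq _ (isCoatom_cj hL' c⁻¹) h3
        rw [← e1, h4]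
      rw [supportR_eq_of_unique h1' (isCoatom_cj hL c)
        ((centralizer_cj_le_cj_iff c a L).2 hxL) huniq']
      rw [fittingHallOf_cj, centralizer_singleton_cj, cj_inf]
    · rw [supportR_eq_bot_of_not_unique h2, cj_bot]
      apply supportR_eq_bot_of_not_unique
      intro h3
      apply h2
      obtain ⟨L, ⟨hL, hxL⟩, hu⟩ := h3
      refine ⟨cj c⁻¹ L, ⟨isCoatom_cj hL c⁻¹, ?_⟩, ?_⟩
      · rw [← centralizer_cj_le_cj_iff c a, cj_cj_inv]
        exact hxL
      · rintro L' ⟨hL', hL'x⟩
        have := hu (cj c L') ⟨isCoatom_cj hL' c, (centralizer_cj_le_cj_iff c a L').2 hL'x⟩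
        rw [← this, cj_inv_cj]

/-- `supportR` does not depend on `M` among the subgroups not containing `C_G(x)`. -/
theorem supportR_congr {M M' : Subgroup G} {x : G}
    (h : ¬ centralizer ({x} : Set G) ≤ M) (h' : ¬ centralizer ({x} : Set G) ≤ M') :
    supportR M x = supportR M' x := by
  by_cases h2 : ∃! L : Subgroup G, IsCoatom L ∧ centralizer ({x} : Set G) ≤ L
  · obtain ⟨L, ⟨hL, hxL⟩, hu⟩ := h2
    have huniq : ∀ L' : Subgroup G, IsCoatom L' → centralizer ({x} : Set G) ≤ L' → L' = L :=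
      fun L' h h' => hu L' ⟨h, h'⟩
    rw [supportR_eq_of_unique h hL hxL huniq, supportR_eq_of_unique h' hL hxL huniq]
  · rw [supportR_eq_bot_of_not_unique h2, supportR_eq_bot_of_not_unique h2]

/-! ### `tildeOf` -/

theorem mem_tildeOf {M : Subgroup G} {A : Set G} {g : G} :
    g ∈ tildeOf M A ↔ ∃ a ∈ A, ∃ r ∈ supportR M a, ∃ y : G, g = y * (a * r) * y⁻¹ :=
  Iff.rfl

/-- `Ã` is a union of conjugacy classes. -/
theorem conj_mem_tildeOf {M : Subgroup G} {A : Set G} {g : G} (hg : g ∈ tildeOf M A) (z : G) :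
    z * g * z⁻¹ ∈ tildeOf M A := by
  obtain ⟨a, ha, r, hr, y, rfl⟩ := hg
  refine ⟨a, ha, r, hr, z * y, ?_⟩
  group

theorem conj_mem_tildeOf_iff {M : Subgroup G} {A : Set G} {g : G} (z : G) :
    z * g * z⁻¹ ∈ tildeOf M A ↔ g ∈ tildeOf M A := by
  constructor
  · intro h
    have := conj_mem_tildeOf h z⁻¹
    have e : z⁻¹ * (z * g * z⁻¹) * z⁻¹⁻¹ = g := by group
    rwa [e] at this
  · intro h
    exact conj_mem_tildeOf h z

/-- `A ⊆ Ã` (take `r = 1`). -/
theorem subset_tildeOf (M : Subgroup G) (A : Set G) : A ⊆ tildeOf M A := by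
  intro a ha
  exact ⟨a, ha, 1, Subgroup.one_mem _, 1, by group⟩

/-- every conjugate of an element of `A` lies in `Ã`. -/
theorem conj_mem_tildeOf_of_mem {M : Subgroup G} {A : Set G} {a : G} (ha : a ∈ A) (z : G) :
    z * a * z⁻¹ ∈ tildeOf M A :=
  conj_mem_tildeOf (subset_tildeOf M A ha) z

theorem tildeOf_mono {M : Subgroup G} {A B : Set G} (h : A ⊆ B) : tildeOf M A ⊆ tildeOf M B := by
  rintro g ⟨a, ha, r, hr, y, rfl⟩
  exact ⟨a, h ha, r, hr, y, rfl⟩

/-- `Ã` for the conjugate data `(cMc⁻¹, cAc⁻¹)` is the same set. -/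
theorem tildeOf_cj (c : G) (M : Subgroup G) (A : Set G) :
    tildeOf (cj c M) {b | ∃ a ∈ A, b = c * a * c⁻¹} = tildeOf M A := by
  ext g
  constructor
  · rintro ⟨b, ⟨a, ha, rfl⟩, r, hr, y, rfl⟩
    rw [supportR_cj, mem_cj] at hr
    refine ⟨a, ha, c⁻¹ * r * c, hr, y * c, ?_⟩
    group
  · rintro ⟨a, ha, r, hr, y, rfl⟩
    refine ⟨c * a * c⁻¹, ⟨a, ha, rfl⟩, c * r * c⁻¹, ?_, y * c⁻¹, ?_⟩
    · rw [supportR_cj]
      exact conj_mem_cj hr
    · group

/-- the set `c (S \ {1}) c⁻¹` for a subgroup `S` -/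
theorem conj_image_diff_one (c : G) (S : Subgroup G) :
    {b | ∃ a ∈ ((S : Set G) \ {1}), b = c * a * c⁻¹} = ((cj c S : Subgroup G) : Set G) \ {1} := by
  ext b
  constructor
  · rintro ⟨a, ⟨haS, ha1⟩, rfl⟩
    refine ⟨conj_mem_cj haS, ?_⟩
    intro h
    apply ha1
    have h' : c * a * c⁻¹ = 1 := h
    have : a = c⁻¹ * (c * a * c⁻¹) * c := by group
    rw [this, h']
    simp
  · rintro ⟨hb, hb1⟩
    rw [SetLike.mem_coe, mem_cj] at hb
    refine ⟨c⁻¹ * b * c, ⟨hb, ?_⟩, by group⟩
    intro h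
    apply hb1
    have h' : c⁻¹ * b * c = 1 := h
    have : b = c * (c⁻¹ * b * c) * c⁻¹ := by group
    rw [this, h']
    simp

/-! ### `sigma`, `sigmaCore` -/

/-- `σ(cMc⁻¹) = σ(M)`. -/
theorem sigma_cj_eq (c : G) (M : Subgroup G) : sigma (cj c M) = sigma M := by
  have key : ∀ (c : G) (M : Subgroup G), sigma M ⊆ sigma (cj c M) := by
    intro c M p hp
    obtain ⟨hpp, hd, P, hP⟩ := hp
    haveI : Fact p.Prime := ⟨hpp⟩
    refine ⟨hpp, by rwa [card_cj], ?_⟩
    -- transport the Sylow subgroup along `cjEquiv`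
    let e := cjEquiv c M
    let P' : Sylow p ↥(cj c M) := P.comapOfInjective e.symm.toMonoidHom e.symm.injective
      (by
        intro x _
        exact ⟨e x, by simp⟩)
    refine ⟨P', ?_⟩
    have hP' : ((P' : Subgroup ↥(cj c M)).map (cj c M).subtype) =
        cj c ((P : Subgroup M).map M.subtype) := by
      rw [← map_cjEquiv_subtype]
      congr 1
      ext x
      simp only [P', Sylow.coe_comapOfInjective, Subgroup.mem_comap, Subgroup.mem_map,
        MulEquiv.coe_toMonoidHom]
      constructor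
      · intro hx
        exact ⟨e.symm x, hx, by simp [e]⟩
      · rintro ⟨y, hy, rfl⟩
        simpa [e] using hy
    rw [hP', normalizer_cj, cj_le_cj_iff]
    exact hP
  apply Set.Subset.antisymm
  · have := key c⁻¹ (cj c M)
    rwa [cj_inv_cj] at this
  · exact key c M

/-- `M_σ` commutes with conjugation. -/
theorem sigmaCore_cj (c : G) (M : Subgroup G) : sigmaCore (cj c M) = cj c (sigmaCore M) := by
  unfold sigmaCore
  rw [sigma_cj_eq, piCoreOf_cj']

/-- `M̃_σ` for the conjugate subgroup: `tildeOf (cMc⁻¹) ((cMc⁻¹)_σ^#) = tildeOf M (M_σ^#)`. -/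
theorem tildeOf_sigmaCore_cj (c : G) (M : Subgroup G) :
    tildeOf (cj c M) ((sigmaCore (cj c M) : Set G) \ {1}) =
      tildeOf M ((sigmaCore M : Set G) \ {1}) := by
  rw [sigmaCore_cj, ← conj_image_diff_one, tildeOf_cj]

end Cfsg.Agent.Lib.Helper50.Tilde
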