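import Cfsg.Agent.Lib.Helper50.Basic
import Mathlib.GroupTheory.IndexNormal
import Mathlib.GroupTheory.PGroup

set_option autoImplicit false

namespace Cfsg.Agent.Lib.Helper50

open Subgroup

variable {G : Type*} [Group G]

/-- a subgroup of prime index is maximal -/
theorem isCoatom_of_index_prime {H : Subgroup G} (h : H.index.Prime) : IsCoatom H := by
  constructor
  · intro htop
    rw [htop, Subgroup.index_top] at h
    exact Nat.not_prime_one h
  · intro K hK
    have h1 : K.index ∣ H.index := Subgroup.index_dvd_of_le hK.le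
    rcases (Nat.dvd_prime h).1 h1 with h2 | h2
    · exact Subgroup.index_eq_one.1 h2
    · exfalso
      have h3 := Subgroup.relIndex_mul_index hK.le
      rw [h2] at h3
      have h4 : H.relIndex K = 1 := by
        have hpos : 0 < H.index := h.pos
        exact Nat.eq_of_mul_eq_mul_right hpos (by rw [h3, one_mul])
      exact (not_le_of_gt hK) (Subgroup.relIndex_eq_one.1 h4)

/-- conjugation-stability of a closure can be checked on generators -/
theorem conj_mem_closure_of_forall {S : Set G} {a : G}
    (h : ∀ x ∈ S, a * x * a⁻¹ ∈ Subgroup.closure S) :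
    ∀ r ∈ Subgroup.closure S, a * r * a⁻¹ ∈ Subgroup.closure S := by
  have hle : Subgroup.closure S ≤ (Subgroup.closure S).comap (MulAut.conj a).toMonoidHom := by
    rw [Subgroup.closure_le]
    intro x hx
    exact h x hx
  intro r hr
  exact hle hr

/-- a normal subgroup `H` of `M` of index `p` contains all elements of `M` of order prime to `p` -/
theorem mem_of_coprime_orderOf {H M : Subgroup G} [hn : (H.subgroupOf M).Normal]
    {x : G} (hx : x ∈ M) (hc : (H.relIndex M).Coprime (orderOf x)) : x ∈ H := by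
  have h1 : (⟨x, hx⟩ : M) ^ (H.subgroupOf M).index ∈ H.subgroupOf M :=
    Subgroup.pow_index_mem (H.subgroupOf M) ⟨x, hx⟩
  rw [Subgroup.mem_subgroupOf] at h1
  have h2 : x ^ H.relIndex M ∈ H := h1
  obtain ⟨m, hm⟩ := exists_pow_eq_self_of_coprime hc
  rw [← hm]
  exact H.pow_mem h2 m

/-- a finite group all of whose `p'`-elements are trivial is a `p`-group -/
theorem isPGroup_of_forall_coprime_eq_one [Finite G] {p : ℕ} (hp : p.Prime) (M : Subgroup G)
    (h : ∀ x ∈ M, (orderOf x).Coprime p → x = 1) : IsPGroup p M := by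
  intro x
  have hn : orderOf (x : G) ≠ 0 := (orderOf_pos (x : G)).ne'
  obtain ⟨k, m, hm, hkm⟩ := Nat.exists_eq_pow_mul_and_not_dvd hn p hp.ne_one
  refine ⟨k, ?_⟩
  apply Subtype.ext
  rw [Subgroup.coe_pow, Subgroup.coe_one]
  apply h _ (M.pow_mem x.2 _)
  have h1 : ((x : G) ^ p ^ k) ^ m = 1 := by
    rw [← pow_mul, ← hkm, pow_orderOf_eq_one]
  have h2 : orderOf ((x : G) ^ p ^ k) ∣ m := orderOf_dvd_of_pow_eq_one h1
  have h3 : Nat.Coprime m p := ((Nat.Prime.coprime_iff_not_dvd hp).2 hm).symm
  exact Nat.Coprime.coprime_dvd_left h2 h3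

end Cfsg.Agent.Lib.Helper50
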