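import Mathlib.GroupTheory.Sylow
import Mathlib.GroupTheory.Index

set_option autoImplicit false

namespace Cfsg.Agent.Lib.Helper50

variable {G : Type*} [Group G]

/-- In a finite group, `g` normalizes `H` as soon as `g H g⁻¹ ⊆ H`. -/
theorem mem_normalizer_of_conj_mem [Finite G] {H : Subgroup G} {g : G}
    (h : ∀ x ∈ H, g * x * g⁻¹ ∈ H) : g ∈ Subgroup.normalizer (H : Set G) := by
  classical
  let f : H → H := fun x => ⟨g * x * g⁻¹, h x x.2⟩
  have hinj : Function.Injective f := by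
    intro a b hab
    have : g * (a : G) * g⁻¹ = g * (b : G) * g⁻¹ := congrArg Subtype.val hab
    apply Subtype.ext
    simpa using this
  have hsurj : Function.Surjective f := Finite.injective_iff_surjective.mp hinj
  intro x
  constructor
  · intro hx
    exact h x hx
  · intro hx
    obtain ⟨y, hy⟩ := hsurj ⟨g * x * g⁻¹, hx⟩
    have : g * (y : G) * g⁻¹ = g * x * g⁻¹ := congrArg Subtype.val hy
    have hyx : (y : G) = x := by simpa using this
    rw [← hyx]
    exact y.2

theorem map_conj_le_iff {H K : Subgroup G} {g : G} :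
    H.map (MulAut.conj g).toMonoidHom ≤ K ↔ ∀ x ∈ H, g * x * g⁻¹ ∈ K := by
  constructor
  · intro h x hx
    exact h ⟨x, hx, rfl⟩
  · rintro h _ ⟨x, hx, rfl⟩
    exact h x hx

theorem mem_map_conj_iff {H : Subgroup G} {g y : G} :
    y ∈ H.map (MulAut.conj g).toMonoidHom ↔ g⁻¹ * y * g ∈ H := by
  constructor
  · rintro ⟨x, hx, rfl⟩
    simpa [mul_assoc] using hx
  · intro h
    exact ⟨g⁻¹ * y * g, h, by simp [mul_assoc]⟩

open scoped Pointwise in
/-- Sylow: every `p`-subgroup is conjugate into a given Sylow `p`-subgroup. -/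
theorem exists_conj_mem_sylow [Finite G] {p : ℕ} [Fact p.Prime] (P : Sylow p G)
    {B : Subgroup G} (hB : IsPGroup p B) : ∃ a : G, ∀ b ∈ B, a * b * a⁻¹ ∈ (P : Subgroup G) := by
  obtain ⟨Q, hQ⟩ := hB.exists_le_sylow
  obtain ⟨a, ha⟩ := MulAction.exists_smul_eq G Q P
  refine ⟨a, fun b hb => ?_⟩
  have h1 : b ∈ (Q : Subgroup G) := hQ hb
  have h2 : MulAut.conj a • b ∈ MulAut.conj a • (Q : Subgroup G) :=
    Subgroup.smul_mem_pointwise_smul b (MulAut.conj a) (Q : Subgroup G) h1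
  have h3 : ((a • Q : Sylow p G) : Subgroup G) = MulAut.conj a • (Q : Subgroup G) := rfl
  rw [← h3, ha] at h2
  simpa using h2

theorem exists_conj_mem_sylow_of_le [Finite G] {p : ℕ} [Fact p.Prime] (P : Sylow p G)
    {L B : Subgroup G} (hPL : (P : Subgroup G) ≤ L) (hBL : B ≤ L) (hB : IsPGroup p B) :
    ∃ a ∈ L, ∀ b ∈ B, a * b * a⁻¹ ∈ (P : Subgroup G) := by
  obtain ⟨a, ha⟩ := exists_conj_mem_sylow (P.subtype hPL) (hB.comap_subtype (K := L))
  refine ⟨a, a.2, fun b hb => ?_⟩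
  have := ha ⟨b, hBL hb⟩ (by
    show b ∈ B
    exact hb)
  rw [Sylow.coe_subtype, Subgroup.mem_subgroupOf] at this
  simpa using this

end Cfsg.Agent.Lib.Helper50
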