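import Mathlib.GroupTheory.Transfer
import Mathlib.GroupTheory.Nilpotent
import Cfsg.Prelude.Def_Solvable
import Cfsg.Agent.Lib.Helper50.Basic

set_option autoImplicit false

namespace Cfsg.Agent.Lib.Helper50

open Subgroup

/-- Burnside's normal `p`-complement theorem, phrased with the `p'`-core of the prelude:
if `N(P) ≤ C(P)` for a Sylow `p`-subgroup `P` then `O_{p'}(T)` is the kernel of the transfer,
a normal complement of `P`. -/
theorem pPrimeCore_eq_ker_transferSylow {T : Type*} [Group T] [Finite T] {p : ℕ} [Fact p.Prime]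
    (P : Sylow p T) (hP : normalizer (P : Set T) ≤ centralizer (P : Set T)) :
    Cfsg.pPrimeCore p T = (MonoidHom.transferSylow P hP).ker := by
  have hp : p.Prime := Fact.out
  apply le_antisymm
  · apply sSup_le
    rintro N ⟨hNn, hNc⟩
    intro n hn
    rw [MonoidHom.mem_ker]
    set t := MonoidHom.transferSylow P hP n with ht
    obtain ⟨k, hk⟩ := P.isPGroup' t
    have h1 : t ^ Nat.card N = 1 := by
      have : (⟨n, hn⟩ : N) ^ Nat.card N = 1 := pow_card_eq_one'
      have h2 : n ^ Nat.card N = 1 := by
        have h5 : ((⟨n, hn⟩ : N) ^ Nat.card N : N).1 = (1 : N).1 := congrArg Subtype.val this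
        rw [SubgroupClass.coe_pow] at h5
        exact h5
      rw [ht, ← map_pow, h2, map_one]
    have h3 : orderOf t ∣ Nat.gcd (p ^ k) (Nat.card N) :=
      Nat.dvd_gcd (orderOf_dvd_of_pow_eq_one hk) (orderOf_dvd_of_pow_eq_one h1)
    have h4 : Nat.gcd (p ^ k) (Nat.card N) = 1 := by
      apply Nat.Coprime.pow_left
      exact hNc.symm
    rw [h4, Nat.dvd_one, orderOf_eq_one_iff] at h3
    exact h3
  · apply le_sSup
    refine ⟨MonoidHom.normal_ker _, ?_⟩
    have := MonoidHom.not_dvd_card_ker_transferSylow P hP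
    exact ((Nat.Prime.coprime_iff_not_dvd hp).mpr this).symm

theorem pPrimeCore_isComplement' {T : Type*} [Group T] [Finite T] {p : ℕ} [Fact p.Prime]
    (P : Sylow p T) (hP : normalizer (P : Set T) ≤ centralizer (P : Set T)) :
    IsComplement' (Cfsg.pPrimeCore p T) (P : Subgroup T) := by
  rw [pPrimeCore_eq_ker_transferSylow P hP]
  exact MonoidHom.ker_transferSylow_isComplement' P hP

end Cfsg.Agent.Lib.Helper50
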