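import Mathlib
import Cfsg.Prelude.Def_OddOrderLocal
import Cfsg.Agent.Lib.Helper50.Basic
import Cfsg.Agent.Lib.Helper24.Omega1
import Cfsg.Agent.Lib.Helper24.BG121
import Cfsg.Agent.Lib.Helper10.BG145a
import Cfsg.Agent.Lib.Helper21.RelCompl
import Cfsg.Agent.Lib.Helper23.FitUniqueA

set_option autoImplicit false
set_option linter.style.haveILetI false
set_option linter.unusedSectionVars false
set_option linter.unusedVariables false

/-!
# B&G Corollary 15.6: `K* ≤ M_F` and `M_F` is not cyclic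

For a maximal subgroup `M` of type `𝒫` (`K ≠ 1`) with `K* = C_{M_σ}(K)`:
`K*` is cyclic and nontrivial, `K* ≤ M_F`, and `M_F` is not cyclic.

* nilpotent case `M_F = M_σ`: if `M_σ` were cyclic then `K` would centralize every Sylow subgroup
  of `M_σ` meeting `K*` (Ω₁-lemma), against B&G 14.2(e) (`S ≰ K*`);
* non-nilpotent case `M_F ≠ M_σ`: Theorem 15.2 gives the normal Sylow `q`-subgroup `Q ≤ M_F`
  (`q = |K*|`) with `|Q : C_Q(D)| = q ^ |K|` and `Q^q ≤ C_Q(D)`, impossible for cyclic `Q`.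

The inputs 14.2(e), 15.2 and the cyclicity of `K*` are hypotheses here (statement forms).
-/

namespace Cfsg.Agent.Lib.Helper50.BG156

open Subgroup Cfsg

universe u

variable {G : Type u} [Group G]

/-- a subgroup `K` all of whose elements map `H` into itself by conjugation normalizes `H` -/
theorem le_normalizer_of_conj [Finite G] {K H : Subgroup G}
    (h : ∀ k ∈ K, ∀ x ∈ H, k * x * k⁻¹ ∈ H) : K ≤ normalizer (H : Set G) :=
  fun k hk => Cfsg.Agent.Lib.Helper50.mem_normalizer_of_conj_mem (h k hk)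

/-- conjugation by an element normalizing a cyclic subgroup `W` acts on `W` as a power map -/
theorem exists_zpow_of_cyclic {W : Subgroup G} (hc : IsCyclic W) {k : G}
    (hk : ∀ y ∈ W, k * y * k⁻¹ ∈ W) : ∃ m : ℤ, ∀ y ∈ W, k * y * k⁻¹ = y ^ m := by
  obtain ⟨g, hg⟩ := (isCyclic_iff_exists_zpowers_eq_top (α := W)).1 hc
  have hgen : ∀ y ∈ W, ∃ i : ℤ, y = (g : G) ^ i := by
    intro y hy
    have : (⟨y, hy⟩ : W) ∈ zpowers g := by rw [hg]; exact mem_top _
    obtain ⟨i, hi⟩ := mem_zpowers_iff.1 this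
    refine ⟨i, ?_⟩
    have := congrArg (fun z : W => (z : G)) hi
    simpa using this.symm
  obtain ⟨m, hm⟩ := hgen _ (hk g g.2)
  refine ⟨m, fun y hy => ?_⟩
  obtain ⟨i, rfl⟩ := hgen y hy
  have : k * (g : G) ^ i * k⁻¹ = (k * (g : G) * k⁻¹) ^ i := (conj_zpow).symm
  rw [this, hm, ← zpow_mul, ← zpow_mul, mul_comm]

/-- symmetry of `IsComplIn` -/
theorem isComplIn_symm' {A B D : Subgroup G} (h : IsComplIn A B D) : IsComplIn B A D := by
  refine ⟨h.2.1, h.1, by rw [inf_comm]; exact h.2.2.1, fun m hm => ?_⟩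
  obtain ⟨a, ha, b, hb, hab⟩ := h.2.2.2 m⁻¹ (D.inv_mem hm)
  refine ⟨b⁻¹, B.inv_mem hb, a⁻¹, A.inv_mem ha, ?_⟩
  have : m = (a * b)⁻¹ := by rw [← hab, inv_inv]
  rw [this, mul_inv_rev]

section nil

variable [Finite G]

/-- **nilpotent case**: if `M_σ` is cyclic then a Sylow `p`-subgroup of `M_σ`, `p ∣ |K*|`, lies in
`K*`. -/
theorem sylow_le_of_cyclic (hodd : Odd (Nat.card G)) {M K : Subgroup G}
    (hKM : K ≤ M) (hκ : ∀ p : ℕ, p.Prime → p ∣ Nat.card K → p ∉ sigma M)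
    (hc : IsCyclic (sigmaCore M)) {p : ℕ} [hp : Fact p.Prime]
    (hpd : p ∣ Nat.card ↥(sigmaCore M ⊓ centralizer (K : Set G)))
    (S : Sylow p ↥(sigmaCore M)) :
    (S : Subgroup ↥(sigmaCore M)).map (sigmaCore M).subtype
      ≤ sigmaCore M ⊓ centralizer (K : Set G) := by
  set H := (S : Subgroup ↥(sigmaCore M)).map (sigmaCore M).subtype with hH
  have hHW : H ≤ sigmaCore M := by
    rintro _ ⟨y, -, rfl⟩; exact y.2
  have hKW : ∀ k ∈ K, ∀ y ∈ sigmaCore M, k * y * k⁻¹ ∈ sigmaCore M := fun k hk y hy =>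
    Cfsg.Agent.Lib.Helper24.BG.sigmaCore_conj_mem M (hKM hk) hy
  -- an element of order `p` of `K*`
  obtain ⟨x0, hx0⟩ := exists_prime_orderOf_dvd_card' (G := ↥(sigmaCore M ⊓ centralizer (K : Set G))) p hpd
  have hx0G : orderOf (x0 : G) = p := by rw [← hx0]; exact Subgroup.orderOf_coe x0
  have hx0W : (x0 : G) ∈ sigmaCore M := x0.2.1
  have hx0C : (x0 : G) ∈ centralizer (K : Set G) := x0.2.2
  have hpσ : p ∈ sigma M := by
    apply Cfsg.Agent.Lib.Helper24.BG.mem_sigma_of_dvd_card_sigmaCore M hp.out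
    exact hpd.trans (Subgroup.card_dvd_of_le inf_le_left)
  have hcop : (Nat.card K).Coprime p := by
    rw [Nat.coprime_comm, Nat.Prime.coprime_iff_not_dvd hp.out]
    exact fun hd => hκ p hp.out hd hpσ
  have hp2 : p ≠ 2 := by
    rintro rfl
    have h2 : 2 ∣ Nat.card G := by
      have := orderOf_dvd_natCard (x0 : G)
      rwa [hx0G] at this
    exact (Nat.not_even_iff_odd.2 hodd) (even_iff_two_dvd.2 h2)
  -- power maps
  have hpow : ∀ k ∈ K, ∃ m : ℤ, ∀ y ∈ sigmaCore M, k * y * k⁻¹ = y ^ m := fun k hk =>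
    exists_zpow_of_cyclic hc (hKW k hk)
  have hKH : K ≤ normalizer (H : Set G) := by
    apply le_normalizer_of_conj
    intro k hk x hx
    obtain ⟨m, hm⟩ := hpow k hk
    rw [hm x (hHW hx)]
    exact H.zpow_mem hx m
  have hfix : ∀ x ∈ H, orderOf x = p → K ≤ centralizer ({x} : Set G) := by
    intro x hx hxo k hk
    obtain ⟨m, hm⟩ := hpow k hk
    have h0 : k * (x0 : G) * k⁻¹ = (x0 : G) := by
      have := hx0C k hk
      rw [this, mul_inv_cancel_right]
    have h1 : (x0 : G) ^ (m - 1) = 1 := by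
      have := hm _ hx0W
      rw [h0] at this
      rw [zpow_sub_one, ← this, mul_inv_cancel]
    have hdvd : (p : ℤ) ∣ m - 1 := by
      rw [← hx0G]; exact orderOf_dvd_iff_zpow_eq_one.2 h1
    have h2 : x ^ (m - 1) = 1 := by
      rw [← hxo] at hdvd; exact orderOf_dvd_iff_zpow_eq_one.1 hdvd
    have h3 : k * x * k⁻¹ = x := by
      rw [hm x (hHW hx)]
      have : x ^ m = x ^ (m - 1) * x := by rw [← zpow_add_one, sub_add_cancel]
      rw [this, h2, one_mul]
    rw [mem_centralizer_iff]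
    intro y hy
    rw [Set.mem_singleton_iff] at hy
    subst hy
    have := congrArg (· * k) h3
    simpa [mul_assoc] using this.symm
  have hHp : IsPGroup p H := S.isPGroup'.map _
  have hcent := Cfsg.Agent.Lib.Helper24.omega1_centralizer hp2 K H hcop hHp hKH hfix
  intro x hx
  have hx' : x ∈ H := hx
  refine ⟨hHW hx', ?_⟩
  show x ∈ centralizer (K : Set G)
  rw [mem_centralizer_iff]
  intro k hk
  have := hcent hk x hx'
  exact this.symm

end nil

section nonnil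

variable [Finite G]

/-- a `q`-subgroup of `W` lies in every normal Sylow `q`-subgroup of `W` -/
theorem le_of_normal_sylowIn {W Q X : Subgroup G} {q : ℕ} [hq : Fact q.Prime] (hQW : Q ≤ W)
    (hWQ : W ≤ normalizer (Q : Set G)) (hQq : IsPGroup q Q) (hQi : ¬ q ∣ Q.relIndex W)
    (hXW : X ≤ W) (hX : IsPGroup q X) : X ≤ Q := by
  have hsup : IsPGroup q ↥(X ⊔ Q) :=
    IsPGroup.to_sup_of_normal_right' hX hQq (hXW.trans hWQ)
  have := Cfsg.Agent.Lib.Helper23.sylowIn_max (p := q) (V := W) (S := Q) (S' := X ⊔ Q) hQi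
    le_sup_right (sup_le hXW hQW) hsup
  rw [← this]; exact le_sup_left

/-- a cyclic `q`-group `Q` cannot have a subgroup `Q₀ ⊇ Q^q` with `|Q| = |Q₀| q ^ n`, `n ≥ 2` -/
theorem not_cyclic_of_pow {Q Q₀ : Subgroup G} {q n : ℕ} (hq : 2 ≤ q) (hn : 2 ≤ n)
    (hpow : ∀ a ∈ Q, a ^ q ∈ Q₀) (hcard : Nat.card Q = Nat.card Q₀ * q ^ n) :
    ¬ IsCyclic Q := by
  intro hc
  obtain ⟨g, hg⟩ := (isCyclic_iff_exists_zpowers_eq_top (α := Q)).1 hc
  have hord : orderOf (g : G) = Nat.card Q := by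
    rw [Subgroup.orderOf_coe, ← Nat.card_zpowers, hg, Subgroup.card_top]
  have hq0 : q ≠ 0 := by omega
  have h1 : zpowers ((g : G) ^ q) ≤ Q₀ := by
    rw [zpowers_le]; exact hpow _ g.2
  have h2 : orderOf ((g : G) ^ q) ≤ Nat.card Q₀ := by
    rw [← Nat.card_zpowers]
    exact Nat.le_of_dvd Nat.card_pos (Subgroup.card_dvd_of_le h1)
  have h3 : orderOf ((g : G) ^ q) = Nat.card Q / Nat.gcd (Nat.card Q) q := by
    rw [orderOf_pow' _ hq0, hord]
  have hQpos : 0 < Nat.card Q := Nat.card_pos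
  have hgpos : 0 < Nat.gcd (Nat.card Q) q := Nat.gcd_pos_of_pos_right _ (by omega)
  have hgle : Nat.gcd (Nat.card Q) q ≤ q := Nat.le_of_dvd (by omega) (Nat.gcd_dvd_right _ _)
  have h4 : Nat.card Q = Nat.card Q / Nat.gcd (Nat.card Q) q * Nat.gcd (Nat.card Q) q :=
    (Nat.div_mul_cancel (Nat.gcd_dvd_left _ _)).symm
  have h5 : Nat.card Q ≤ Nat.card Q₀ * q := by
    calc Nat.card Q = Nat.card Q / Nat.gcd (Nat.card Q) q * Nat.gcd (Nat.card Q) q := h4
      _ ≤ Nat.card Q₀ * q := Nat.mul_le_mul (h3 ▸ h2) hgle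
  have hQ0pos : 0 < Nat.card Q₀ := Nat.card_pos
  have h6 : q ^ n ≤ q := by
    have : Nat.card Q₀ * q ^ n ≤ Nat.card Q₀ * q := hcard ▸ h5
    exact Nat.le_of_mul_le_mul_left this hQ0pos
  have h7 : q ^ 2 ≤ q ^ n := Nat.pow_le_pow_right (by omega) hn
  nlinarith

end nonnil

/-- the conclusion of B&G Theorem 15.2 (statement `S1437`), verbatim -/
def Concl1437 (M K U : Subgroup G) : Prop :=
  U = ⊥ ∧ Cfsg.sigmaCore M = ⁅M, M⁆ ∧ (Nat.card K).Prime ∧ (Nat.card ↥(Cfsg.sigmaCore M ⊓ Subgroup.centralizer (K : Set G))).Prime ∧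
      Nat.card ↥(Cfsg.sigmaCore M ⊓ Subgroup.centralizer (K : Set G)) ∣ Nat.card (Cfsg.fittingHallOf M) ∧ Nat.card ↥(Cfsg.sigmaCore M ⊓ Subgroup.centralizer (K : Set G)) ∈ Cfsg.beta M ∧
      ∃ Q : Subgroup G, Q ≤ Cfsg.fittingHallOf M ∧ M ≤ Subgroup.normalizer (Q : Set G) ∧ IsPGroup (Nat.card ↥(Cfsg.sigmaCore M ⊓ Subgroup.centralizer (K : Set G))) Q ∧
        ¬ Nat.card ↥(Cfsg.sigmaCore M ⊓ Subgroup.centralizer (K : Set G)) ∣ Q.relIndex (Cfsg.sigmaCore M) ∧
        ∀ D : Subgroup G, Cfsg.IsComplIn Q D (Cfsg.sigmaCore M) →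
          Group.IsNilpotent D ∧ M ≤ Subgroup.normalizer ((Q ⊓ Subgroup.centralizer (D : Set G) : Subgroup G) : Set G) ∧
          Q ⊓ Subgroup.centralizer (D : Set G) < Q ∧
          Nat.card Q = Nat.card ↥(Q ⊓ Subgroup.centralizer (D : Set G)) * Nat.card ↥(Cfsg.sigmaCore M ⊓ Subgroup.centralizer (K : Set G)) ^ Nat.card K ∧
          (∀ a ∈ Q, ∀ b ∈ Q, a ^ Nat.card ↥(Cfsg.sigmaCore M ⊓ Subgroup.centralizer (K : Set G)) ∈ Q ⊓ Subgroup.centralizer (D : Set G) ∧
            a * b * a⁻¹ * b⁻¹ ∈ Q ⊓ Subgroup.centralizer (D : Set G)) ∧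
          ∀ N : Subgroup G, Q ⊓ Subgroup.centralizer (D : Set G) < N → N < Q → ¬ M ≤ Subgroup.normalizer (N : Set G)

section main

variable [Finite G]

/-- **non-nilpotent case** of B&G Corollary 15.6 from Theorem 15.2 -/
theorem nonnil_case (hG : IsMinSimpleOddOrder G) {M K U : Subgroup G} (hM : IsCoatom M)
    (h : Concl1437 M K U) :
    sigmaCore M ⊓ centralizer (K : Set G) ≤ fittingHallOf M ∧ ¬ IsCyclic (fittingHallOf M) := by
  obtain ⟨-, -, hKp, hqp, -, -, Q, hQF, hMQ, hQq, hQi, hD⟩ := h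
  haveI : Fact (Nat.card ↥(sigmaCore M ⊓ centralizer (K : Set G))).Prime := ⟨hqp⟩
  have hFW : fittingHallOf M ≤ sigmaCore M :=
    Cfsg.Agent.Lib.Helper10.BG145.fittingHallOf_le_sigmaCore hG hM
  have hQW : Q ≤ sigmaCore M := hQF.trans hFW
  have hWM : sigmaCore M ≤ M := by
    rintro _ ⟨y, -, rfl⟩; exact y.2
  have hWQ : sigmaCore M ≤ normalizer (Q : Set G) := hWM.trans hMQ
  constructor
  · refine le_trans ?_ hQF
    refine le_of_normal_sylowIn hQW hWQ hQq hQi inf_le_left ?_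
    exact IsPGroup.of_card (n := 1) (by rw [pow_one])
  · intro hc
    -- a complement of `Q` in `M_σ`
    have hcopN : (Nat.card Q).Coprime (Q.relIndex (sigmaCore M)) := by
      obtain ⟨n, hn⟩ := IsPGroup.iff_card.1 hQq
      rw [hn]
      exact Nat.Coprime.pow_left _ ((Nat.Prime.coprime_iff_not_dvd hqp).2 hQi)
    obtain ⟨E, hE, -⟩ := Cfsg.Agent.Lib.Helper21.exists_compl_ge_of_coprime (N := Q)
      (D := sigmaCore M) (T := ⊥) hQW hWQ hcopN (Or.inr inferInstance) bot_le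
      (by rw [Subgroup.card_bot]; exact Nat.coprime_one_left _)
    obtain ⟨-, -, -, hcard, hpow, -⟩ := hD E (isComplIn_symm' hE)
    have hQc : IsCyclic Q := by
      haveI := hc
      exact Subgroup.isCyclic_of_le hQF
    exact not_cyclic_of_pow hqp.two_le hKp.two_le (fun a ha => (hpow a ha a ha).1) hcard hQc

/-- **B&G Corollary 15.6** (statement `S1364`) from 14.2(e), the cyclicity of `K*`, `K* ≠ 1`
and Theorem 15.2. -/
theorem s1364_of (hG : IsMinSimpleOddOrder G) {M K U : Subgroup G} (hM : IsCoatom M)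
    (hKU : IsSigmaDecomposition M K U)
    (hcyc : IsCyclic ↥(sigmaCore M ⊓ centralizer (K : Set G)))
    (hne : sigmaCore M ⊓ centralizer (K : Set G) ≠ ⊥)
    (h31 : ∀ (p : ℕ), p.Prime → p ∣ Nat.card ↥(sigmaCore M ⊓ centralizer (K : Set G)) →
      ∀ S : Sylow p ↥(sigmaCore M),
        ¬ (S : Subgroup ↥(sigmaCore M)).map (sigmaCore M).subtype
          ≤ sigmaCore M ⊓ centralizer (K : Set G))
    (h37 : fittingHallOf M ≠ sigmaCore M → Concl1437 M K U) :
    IsCyclic ↥(sigmaCore M ⊓ centralizer (K : Set G)) ∧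
      sigmaCore M ⊓ centralizer (K : Set G) ≠ ⊥ ∧
      sigmaCore M ⊓ centralizer (K : Set G) ≤ fittingHallOf M ∧
      ¬ IsCyclic (fittingHallOf M) := by
  refine ⟨hcyc, hne, ?_⟩
  by_cases hF : fittingHallOf M = sigmaCore M
  · refine ⟨by rw [hF]; exact inf_le_left, ?_⟩
    intro hc
    have hc' : IsCyclic (sigmaCore M) := hF ▸ hc
    -- a prime dividing `|K*|`
    have hcard1 : Nat.card ↥(sigmaCore M ⊓ centralizer (K : Set G)) ≠ 1 := by
      intro h1
      exact hne (Subgroup.card_eq_one.1 h1)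
    obtain ⟨p, hp, hpd⟩ := Nat.exists_prime_and_dvd hcard1
    haveI : Fact p.Prime := ⟨hp⟩
    obtain ⟨S⟩ : Nonempty (Sylow p ↥(sigmaCore M)) := inferInstance
    have hκ : ∀ r : ℕ, r.Prime → r ∣ Nat.card K → r ∉ sigma M := fun r hr hrd =>
      (hKU.hall.2.1 r hr hrd).2.2.1
    exact h31 p hp hpd S (sylow_le_of_cyclic hG.1 hKU.hall.1 hκ hc' hpd S)
  · exact nonnil_case hG hM (h37 hF)

end main

end Cfsg.Agent.Lib.Helper50.BG156
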