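import Cfsg.Agent.Lib.Helper50.LargeAbelian

set_option autoImplicit false

namespace Cfsg.Agent.Lib.Helper50

open Subgroup
open scoped Pointwise commutatorElement

variable {G : Type*} [Group G]

/-- Product formula when the join is the set product. -/
theorem card_mul_card_eq_of_coe_sup_eq_mul [Finite G] (H K : Subgroup G)
    (h : ((H ⊔ K : Subgroup G) : Set G) = (H : Set G) * (K : Set G)) :
    Nat.card H * Nat.card K = Nat.card (H ⊓ K : Subgroup G) * Nat.card (H ⊔ K : Subgroup G) := by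
  have h1 : Nat.card (H ⊓ K : Subgroup G) * K.relIndex H = Nat.card H := by
    have := relIndex_mul_relIndex (⊥ : Subgroup G) (H ⊓ K) H bot_le inf_le_left
    rw [relIndex_bot_left, relIndex_bot_left, inf_relIndex_left] at this
    exact this
  have h2 : Nat.card K * K.relIndex (H ⊔ K) = Nat.card (H ⊔ K : Subgroup G) := by
    have := relIndex_mul_relIndex (⊥ : Subgroup G) K (H ⊔ K) bot_le le_sup_right
    rw [relIndex_bot_left, relIndex_bot_left] at this
    exact this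
  let e := quotientSubgroupOfEmbeddingOfLE K (le_sup_left : H ≤ H ⊔ K)
  have hsurj : Function.Surjective e := by
    intro q
    obtain ⟨⟨x, hx⟩, rfl⟩ := QuotientGroup.mk_surjective q
    have hx' : x ∈ ((H ⊔ K : Subgroup G) : Set G) := hx
    rw [h] at hx'
    obtain ⟨a, ha, b, hb, rfl⟩ := hx'
    refine ⟨QuotientGroup.mk (⟨a, ha⟩ : H), ?_⟩
    rw [quotientSubgroupOfEmbeddingOfLE_apply_mk, QuotientGroup.eq, mem_subgroupOf]
    simpa using hb
  have hbij : Function.Bijective e := ⟨e.injective, hsurj⟩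
  have h3 : K.relIndex H = K.relIndex (H ⊔ K) := Nat.card_congr (Equiv.ofBijective e hbij)
  rw [← h1, ← h2, h3]
  ring

section mcl

variable [Finite G] {Q R : Subgroup G}

theorem mcl_inf_sup_zOf (hQ : Cfsg.IsMinimalCentrallyLarge Q) (hR : Cfsg.IsCentrallyLarge R) :
    (Q ⊓ R) ⊔ zOf Q = Q := by
  obtain ⟨hQcd, hCQ⟩ := (isCentrallyLarge_iff Q).mp hQ.1
  obtain ⟨hRcd, hCR⟩ := (isCentrallyLarge_iff R).mp hR
  have hCQz := centralizer_eq_zOf_of_cl hQ.1
  have hCRz := centralizer_eq_zOf_of_cl hR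
  obtain ⟨hinf, -, -, hsetC, hCinf⟩ := cd_pair hQcd hRcd
  obtain ⟨hCQcd, hQQ⟩ := cd_centralizer hQcd
  obtain ⟨-, hYcd, -, -, -⟩ := cd_pair hinf hCQcd
  rw [hCQz] at hYcd
  have hYle : (Q ⊓ R) ⊔ zOf Q ≤ Q := sup_le inf_le_left (zOf_le Q)
  have hYcl : Cfsg.IsCentrallyLarge ((Q ⊓ R) ⊔ zOf Q) := by
    rw [isCentrallyLarge_iff]
    refine ⟨hYcd, ?_⟩
    rw [centralizer_sup_eq, hCinf, ← hCQz, ← hQQ]
    rintro x ⟨hx1, hx2⟩
    have hx1' : x ∈ ((centralizer (Q : Set G) ⊔ centralizer (R : Set G) : Subgroup G) : Set G) := hx1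
    rw [hsetC] at hx1'
    obtain ⟨c, hc, d, hd, rfl⟩ := hx1'
    have hc' : c ∈ centralizer (Q : Set G) := hc
    have hd' : d ∈ centralizer (R : Set G) := hd
    have hcQ : c ∈ Q := hCQ hc'
    have hdR : d ∈ R := hCR hd'
    have hx2' : c * d ∈ Q := hx2
    have hdQ : d ∈ Q := by
      have := mul_mem (inv_mem hcQ) hx2'
      simpa using this
    exact mul_mem (mem_sup_right hc') (mem_sup_left ⟨hdQ, hdR⟩)
  exact hQ.2 _ hYle hYcl

/-- `Q = (Q ⊓ R) * Z(Q)` as sets. -/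
theorem mcl_coe_eq_mul (hQ : Cfsg.IsMinimalCentrallyLarge Q) (hR : Cfsg.IsCentrallyLarge R) :
    (Q : Set G) = ((Q ⊓ R : Subgroup G) : Set G) * (zOf Q : Set G) := by
  have h1 := mcl_inf_sup_zOf hQ hR
  have hnorm : zOf Q ≤ normalizer ((Q ⊓ R : Subgroup G) : Set G) :=
    ((zOf_le_centralizer Q).trans (centralizer_le (by exact_mod_cast (inf_le_left : Q ⊓ R ≤ Q)))).trans
      (centralizer_le_normalizer _)
  have h2 := coe_mul_of_right_le_normalizer_left (Q ⊓ R) (zOf Q) hnorm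
  rw [h1] at h2
  exact h2

theorem mcl_commutator_eq (hQ : Cfsg.IsMinimalCentrallyLarge Q) (hR : Cfsg.IsCentrallyLarge R) :
    ⁅Q, Q⁆ = ⁅Q ⊓ R, Q ⊓ R⁆ := by
  apply le_antisymm
  · rw [commutator_le]
    intro a ha b hb
    have ha' : a ∈ (Q : Set G) := ha
    have hb' : b ∈ (Q : Set G) := hb
    rw [mcl_coe_eq_mul hQ hR] at ha' hb'
    obtain ⟨a₀, ha₀, z, hz, rfl⟩ := ha'
    obtain ⟨b₀, hb₀, w, hw, rfl⟩ := hb'
    have hzc : z ∈ centralizer (Q : Set G) := zOf_le_centralizer Q hz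
    have hwc : w ∈ centralizer (Q : Set G) := zOf_le_centralizer Q hw
    rw [mem_centralizer_iff] at hzc hwc
    have ha₀Q : a₀ ∈ Q := (inf_le_left : Q ⊓ R ≤ Q) ha₀
    have hb₀Q : b₀ ∈ Q := (inf_le_left : Q ⊓ R ≤ Q) hb₀
    have hzQ : z ∈ Q := zOf_le Q hz
    have hwQ : w ∈ Q := zOf_le Q hw
    have key : ⁅a₀ * z, b₀ * w⁆ = ⁅a₀, b₀⁆ := by
      rw [commutatorElement_def, commutatorElement_def]
      have e1 : a₀ * z = z * a₀ := (hzc a₀ ha₀Q)
      have e2 : b₀ * z = z * b₀ := (hzc b₀ hb₀Q)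
      have e3 : w * z = z * w := (hzc w hwQ)
      have e4 : a₀ * w = w * a₀ := (hwc a₀ ha₀Q)
      have e5 : b₀ * w = w * b₀ := (hwc b₀ hb₀Q)
      calc a₀ * z * (b₀ * w) * (a₀ * z)⁻¹ * (b₀ * w)⁻¹
          = a₀ * (z * b₀) * (w * z⁻¹) * a₀⁻¹ * w⁻¹ * b₀⁻¹ := by group
        _ = a₀ * (b₀ * z) * (w * z⁻¹) * a₀⁻¹ * w⁻¹ * b₀⁻¹ := by rw [e2]
        _ = a₀ * b₀ * (z * w) * z⁻¹ * a₀⁻¹ * w⁻¹ * b₀⁻¹ := by group
        _ = a₀ * b₀ * (w * z) * z⁻¹ * a₀⁻¹ * w⁻¹ * b₀⁻¹ := by rw [e3]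
        _ = a₀ * b₀ * (w * a₀⁻¹) * w⁻¹ * b₀⁻¹ := by group
        _ = a₀ * b₀ * (a₀⁻¹ * w) * w⁻¹ * b₀⁻¹ := by
            have : w * a₀⁻¹ = a₀⁻¹ * w := by
              rw [eq_inv_mul_iff_mul_eq, ← mul_assoc, e4, mul_assoc, mul_inv_cancel, mul_one]
            rw [this]
        _ = a₀ * b₀ * a₀⁻¹ * b₀⁻¹ := by group
    rw [key]
    exact commutator_mem_commutator ha₀ hb₀
  · exact commutator_mono inf_le_left inf_le_left

/-- `Z(Q ⊓ R) = (Q ⊓ R) ⊓ Z(Q)`. -/
theorem mcl_zOf_inf (hQ : Cfsg.IsMinimalCentrallyLarge Q) (hR : Cfsg.IsCentrallyLarge R) :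
    zOf (Q ⊓ R) = (Q ⊓ R) ⊓ zOf Q := by
  apply le_antisymm
  · rintro x ⟨hx1, hx2⟩
    refine ⟨hx1, hx1.1, ?_⟩
    have hx2' : x ∈ centralizer ((Q ⊓ R : Subgroup G) : Set G) := hx2
    have h3 : x ∈ centralizer ((zOf Q : Subgroup G) : Set G) :=
      (le_centralizer_iff.mp (zOf_le_centralizer Q)) hx1.1
    have h4 : x ∈ centralizer (((Q ⊓ R) ⊔ zOf Q : Subgroup G) : Set G) := by
      rw [centralizer_sup_eq]; exact ⟨hx2', h3⟩
    rw [mcl_inf_sup_zOf hQ hR] at h4
    exact h4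
  · rintro x ⟨hx1, hx2⟩
    refine ⟨hx1, ?_⟩
    exact (centralizer_le (by exact_mod_cast (inf_le_left : Q ⊓ R ≤ Q))) (zOf_le_centralizer Q hx2)

theorem mcl_card_formula (hQ : Cfsg.IsMinimalCentrallyLarge Q) (hR : Cfsg.IsCentrallyLarge R) :
    Nat.card (Q ⊓ R : Subgroup G) * Nat.card (zOf Q) = Nat.card (zOf (Q ⊓ R)) * Nat.card Q := by
  have h1 := mcl_inf_sup_zOf hQ hR
  have hnorm : zOf Q ≤ normalizer ((Q ⊓ R : Subgroup G) : Set G) :=
    ((zOf_le_centralizer Q).trans (centralizer_le (by exact_mod_cast (inf_le_left : Q ⊓ R ≤ Q)))).trans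
      (centralizer_le_normalizer _)
  have h2 := coe_mul_of_right_le_normalizer_left (Q ⊓ R) (zOf Q) hnorm
  have h3 := card_mul_card_eq_of_coe_sup_eq_mul (Q ⊓ R) (zOf Q) h2
  rw [h1, ← mcl_zOf_inf hQ hR] at h3
  exact h3

theorem mcl_card_eq (hQ : Cfsg.IsMinimalCentrallyLarge Q) (hR : Cfsg.IsMinimalCentrallyLarge R) :
    Nat.card Q = Nat.card R ∧ Nat.card (zOf Q) = Nat.card (zOf R) := by
  have hA := mcl_card_formula hQ hR.1
  have hB := mcl_card_formula hR hQ.1
  rw [inf_comm R Q] at hB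
  have hfQ : Nat.card Q * Nat.card (zOf Q) = Cfsg.maxCentralProduct G := by
    have := hQ.1
    unfold Cfsg.IsCentrallyLarge at this
    rwa [card_center_eq] at this
  have hfR : Nat.card R * Nat.card (zOf R) = Cfsg.maxCentralProduct G := by
    have := hR.1
    unfold Cfsg.IsCentrallyLarge at this
    rwa [card_center_eq] at this
  set d := Nat.card (Q ⊓ R : Subgroup G) with hd
  set z₀ := Nat.card (zOf (Q ⊓ R)) with hz₀
  set q := Nat.card Q with hq
  set r := Nat.card R with hr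
  set zq := Nat.card (zOf Q) with hzq
  set zr := Nat.card (zOf R) with hzr
  have hdpos : 0 < d := Nat.card_pos
  have hz₀pos : 0 < z₀ := Nat.card_pos
  have hqpos : 0 < q := Nat.card_pos
  have hrpos : 0 < r := Nat.card_pos
  have hzqpos : 0 < zq := Nat.card_pos
  have hzrpos : 0 < zr := Nat.card_pos
  have e1 : q * zq = r * zr := by rw [hfQ, hfR]
  have e2 : d * (zq * zq) = d * (zr * zr) := by
    calc d * (zq * zq) = (d * zq) * zq := by ring
      _ = (z₀ * q) * zq := by rw [hA]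
      _ = z₀ * (q * zq) := by ring
      _ = z₀ * (r * zr) := by rw [e1]
      _ = (z₀ * r) * zr := by ring
      _ = (d * zr) * zr := by rw [hB]
      _ = d * (zr * zr) := by ring
  have e3 : zq * zq = zr * zr := Nat.eq_of_mul_eq_mul_left hdpos e2
  have e4 : zq = zr := Nat.mul_self_inj.mp e3
  refine ⟨?_, e4⟩
  rw [e4] at e1
  exact Nat.eq_of_mul_eq_mul_right hzrpos e1

end mcl

section abelian

variable [Finite G]

theorem zOf_eq_self_of_comm {X : Subgroup G} (h : IsMulCommutative X) : zOf X = X := by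
  unfold zOf
  exact inf_eq_left.mpr ((isMulCommutative_iff_le_centralizer X).mp h)

theorem isMulCommutative_of_le {X Y : Subgroup G} (hXY : X ≤ Y) (h : IsMulCommutative Y) :
    IsMulCommutative X := by
  rw [isMulCommutative_iff_le_centralizer] at h ⊢
  exact hXY.trans (h.trans (centralizer_le (by exact_mod_cast hXY)))

theorem clm_eq (X : Subgroup G) :
    Nat.card X * Nat.card (Subgroup.center ↥X) = Nat.card X * Nat.card (zOf X) := by
  rw [card_center_eq]

/-- If some minimal centrally large subgroup is abelian, the minimal centrally large subgroups are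
exactly the abelian subgroups of largest order. -/
theorem mcl_iff_maxAbelian_of_comm {Q : Subgroup G} (hQ : Cfsg.IsMinimalCentrallyLarge Q)
    (hab : IsMulCommutative Q) (X : Subgroup G) :
    Cfsg.IsMinimalCentrallyLarge X ↔ X ∈ Cfsg.maxAbelianSubgroups G := by
  have hzQ : zOf Q = Q := zOf_eq_self_of_comm hab
  have hf : Nat.card Q * Nat.card Q = Cfsg.maxCentralProduct G := by
    have := hQ.1
    unfold Cfsg.IsCentrallyLarge at this
    rwa [card_center_eq, hzQ] at this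
  have hle : ∀ B : Subgroup G, IsMulCommutative B → Nat.card B ≤ Nat.card Q := by
    intro B hB
    have h1 := clm_le_max B
    rw [card_center_eq, zOf_eq_self_of_comm hB, ← hf] at h1
    exact Nat.mul_self_le_mul_self_iff.mp h1
  constructor
  · intro hX
    obtain ⟨h1, h2⟩ := mcl_card_eq hX hQ
    rw [hzQ, ← h1] at h2
    have h3 : zOf X = X := eq_of_le_of_card_ge (zOf_le X) (le_of_eq h2.symm)
    have hXab : IsMulCommutative X := by
      rw [isMulCommutative_iff_le_centralizer]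
      rw [← h3]
      exact (zOf_le_centralizer X).trans (centralizer_le (by exact_mod_cast (zOf_le X)))
    refine ⟨hXab, fun B hB => ?_⟩
    rw [h1]; exact hle B hB
  · rintro ⟨hXab, hXmax⟩
    have h1 : Nat.card X = Nat.card Q := le_antisymm (hle X hXab) (hXmax Q hab)
    have hXcl : Cfsg.IsCentrallyLarge X := by
      unfold Cfsg.IsCentrallyLarge
      rw [card_center_eq, zOf_eq_self_of_comm hXab, h1, hf]
    refine ⟨hXcl, fun R' hR' hR'cl => ?_⟩
    have hR'ab := isMulCommutative_of_le hR' hXab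
    unfold Cfsg.IsCentrallyLarge at hR'cl
    rw [card_center_eq, zOf_eq_self_of_comm hR'ab, ← hf, ← h1] at hR'cl
    have h2 : Nat.card R' = Nat.card X := Nat.mul_self_inj.mp hR'cl
    exact eq_of_le_of_card_ge hR' (le_of_eq h2.symm)

end abelian

end Cfsg.Agent.Lib.Helper50
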