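import Cfsg.Agent.Lib.Helper50.Basic
import Cfsg.Agent.Lib.Helper50.MCL
import Cfsg.Agent.Lib.Helper91.Wielandt
import Cfsg.Agent.Lib.Helper2.Transfer

set_option autoImplicit false

universe u

namespace Cfsg.Agent.Lib.Helper50

open Subgroup

section rel

variable {G : Type u} [Group G]

theorem relIndex_mul_card_of_le [Finite G] {H K : Subgroup G} (h : H ≤ K) :
    H.relIndex K * Nat.card H = Nat.card K := by
  have := relIndex_mul_relIndex (⊥ : Subgroup G) H K bot_le h
  rwa [relIndex_bot_left, relIndex_bot_left, mul_comm] at this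

/-- second isomorphism theorem, index of the non-normal factor -/
theorem relIndex_sup_of_le_normalizer [Finite G] (Q K : Subgroup G)
    (hQK : Q ≤ normalizer (K : Set G)) : Q.relIndex (Q ⊔ K) = Q.relIndex K := by
  have hset := coe_mul_of_left_le_normalizer_right Q K hQK
  have h1 := card_mul_card_eq_of_coe_sup_eq_mul Q K hset
  have h2 := relIndex_mul_card_of_le (le_sup_left : Q ≤ Q ⊔ K)
  have h3 := relIndex_mul_card_of_le (inf_le_right : Q ⊓ K ≤ K)
  rw [inf_relIndex_right] at h3
  have hQpos : 0 < Nat.card Q := Nat.card_pos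
  have hIpos : 0 < Nat.card (Q ⊓ K : Subgroup G) := Nat.card_pos
  have : Q.relIndex (Q ⊔ K) * (Nat.card Q * Nat.card (Q ⊓ K : Subgroup G)) =
      Q.relIndex K * (Nat.card Q * Nat.card (Q ⊓ K : Subgroup G)) := by
    calc Q.relIndex (Q ⊔ K) * (Nat.card Q * Nat.card (Q ⊓ K : Subgroup G))
        = (Q.relIndex (Q ⊔ K) * Nat.card Q) * Nat.card (Q ⊓ K : Subgroup G) := by ring
      _ = Nat.card (Q ⊔ K : Subgroup G) * Nat.card (Q ⊓ K : Subgroup G) := by rw [h2]
      _ = Nat.card Q * Nat.card K := by rw [h1]; ring
      _ = Nat.card Q * (Q.relIndex K * Nat.card (Q ⊓ K : Subgroup G)) := by rw [h3]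
      _ = Q.relIndex K * (Nat.card Q * Nat.card (Q ⊓ K : Subgroup G)) := by ring
  exact Nat.eq_of_mul_eq_mul_right (Nat.mul_pos hQpos hIpos) this

/-- `|K : Q ∩ K|` divides `|L : Q|` when `Q ≤ L`, `K ≤ L` and `Q` normalizes `K` -/
theorem relIndex_dvd_relIndex_of_le_normalizer [Finite G] {Q K L : Subgroup G} (hQL : Q ≤ L)
    (hKL : K ≤ L) (hQK : Q ≤ normalizer (K : Set G)) : Q.relIndex K ∣ Q.relIndex L := by
  rw [← relIndex_sup_of_le_normalizer Q K hQK]
  exact Dvd.intro _ (relIndex_mul_relIndex Q (Q ⊔ K) L le_sup_left (sup_le hQL hKL))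

theorem relIndex_dvd_relIndex_of_le_left {H K L : Subgroup G} (hHK : H ≤ K) :
    K.relIndex L ∣ H.relIndex L := relIndex_dvd_of_le_left L hHK

/-- a Sylow `p`-subgroup meets a subnormal subgroup in a Sylow `p`-subgroup of it -/
theorem not_dvd_relIndex_of_isSubnormal [Finite G] {p : ℕ} [Fact p.Prime] (S : Sylow p G)
    {B : Subgroup G} (hB : B.IsSubnormal) : ¬ p ∣ (S : Subgroup G).relIndex B := by
  induction hB with
  | top =>
    rw [relIndex_top_right]
    exact S.not_dvd_index
  | step B K hle hK hN ih =>
    intro hdvd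
    apply ih
    have hKB : K ≤ normalizer (B : Set G) := by
      have := (normal_subgroupOf_iff_le_normalizer hle).1 hN
      exact this
    have h1 : ((S : Subgroup G) ⊓ K).relIndex B ∣ ((S : Subgroup G) ⊓ K).relIndex K :=
      relIndex_dvd_relIndex_of_le_normalizer inf_le_right hle (inf_le_right.trans hKB)
    rw [inf_relIndex_right] at h1
    have h2 : ((S : Subgroup G) ⊓ K).relIndex B = (S : Subgroup G).relIndex B := by
      rw [← inf_relIndex_right ((S : Subgroup G) ⊓ K) B, ← inf_relIndex_right (S : Subgroup G) B,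
        inf_assoc, inf_of_le_right hle]
    rw [h2] at h1
    exact hdvd.trans h1

/-- relative index of images divides the relative index -/
theorem relIndex_map_map_dvd {G' : Type*} [Group G'] (f : G →* G') {P A : Subgroup G}
    (hPA : P ≤ A) : (P.map f).relIndex (A.map f) ∣ P.relIndex A := by
  have h1 : (P.subgroupOf A).map (f.comp A.subtype) = P.map f := by
    rw [← Subgroup.map_map, Subgroup.subgroupOf_map_subtype, inf_of_le_left hPA]
  have h2 : (⊤ : Subgroup A).map (f.comp A.subtype) = A.map f := by
    rw [← Subgroup.map_map, ← MonoidHom.range_eq_map, Subgroup.range_subtype]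
  have h3 := relIndex_map_map (f.comp A.subtype) (P.subgroupOf A) ⊤
  rw [h1, h2, top_sup_eq, relIndex_top_right] at h3
  rw [h3]
  exact index_dvd_of_le le_sup_left

theorem le_normalizer_inf_of_le_normalizer {X H K : Subgroup G}
    (hH : X ≤ normalizer (H : Set G)) (hK : X ≤ normalizer (K : Set G)) :
    X ≤ normalizer ((H ⊓ K : Subgroup G) : Set G) := by
  intro x hx
  rw [mem_normalizer_iff]
  intro y
  have h1 := (mem_normalizer_iff.1 (hH hx)) y
  have h2 := (mem_normalizer_iff.1 (hK hx)) y
  constructor
  · rintro ⟨a, b⟩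
    exact ⟨h1.1 a, h2.1 b⟩
  · rintro ⟨a, b⟩
    exact ⟨h1.2 a, h2.2 b⟩

end rel

section core

open Cfsg.Agent.Lib.Helper91

variable {G : Type u} [Group G]

/-- Case `N = (A ⊓ N) ⊔ (B ⊓ N)`. -/
theorem not_dvd_relIndex_of_sup_eq [Finite G] {p : ℕ} [Fact p.Prime] {N A B PA PB : Subgroup G}
    (hNA : N ≤ normalizer (A : Set G)) (hNB : N ≤ normalizer (B : Set G))
    (hPA : PA ≤ A) (hPB : PB ≤ B)
    (hA : A ≤ normalizer (N : Set G)) (hB : B ≤ normalizer (N : Set G))
    (hpA : ¬ p ∣ PA.relIndex A) (hpB : ¬ p ∣ PB.relIndex B)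
    (hN0 : (A ⊓ N) ⊔ (B ⊓ N) = N) : ¬ p ∣ (PA ⊔ PB : Subgroup G).relIndex N := by
  have hp : p.Prime := Fact.out
  set T := PA ⊔ PB with hT
  have hNN : N ≤ normalizer (N : Set G) := le_normalizer
  have hAA : A ≤ normalizer (A : Set G) := le_normalizer
  have hBB : B ≤ normalizer (B : Set G) := le_normalizer
  have hNNA : N ≤ normalizer ((A ⊓ N : Subgroup G) : Set G) :=
    le_normalizer_inf_of_le_normalizer hNA hNN
  have hNNB : N ≤ normalizer ((B ⊓ N : Subgroup G) : Set G) :=
    le_normalizer_inf_of_le_normalizer hNB hNN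
  have hANA : A ≤ normalizer ((A ⊓ N : Subgroup G) : Set G) :=
    le_normalizer_inf_of_le_normalizer hAA hA
  have hBNB : B ≤ normalizer ((B ⊓ N : Subgroup G) : Set G) :=
    le_normalizer_inf_of_le_normalizer hBB hB
  have hpNA : ¬ p ∣ PA.relIndex (A ⊓ N) := fun h =>
    hpA (h.trans (relIndex_dvd_relIndex_of_le_normalizer hPA inf_le_left (hPA.trans hANA)))
  have hpNB : ¬ p ∣ PB.relIndex (B ⊓ N) := fun h =>
    hpB (h.trans (relIndex_dvd_relIndex_of_le_normalizer hPB inf_le_left (hPB.trans hBNB)))
  rw [← inf_relIndex_right]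
  set Q := T ⊓ N with hQ
  have hQN : Q ≤ N := inf_le_right
  have hsplit := relIndex_mul_relIndex Q (Q ⊔ (A ⊓ N)) N le_sup_left (sup_le hQN inf_le_right)
  rw [← hsplit]
  intro hdvd
  rcases (Nat.Prime.dvd_mul hp).1 hdvd with h | h
  · rw [relIndex_sup_of_le_normalizer Q (A ⊓ N) (hQN.trans hNNA)] at h
    have hle : PA ⊓ (A ⊓ N) ≤ Q := by
      refine le_inf (inf_le_left.trans le_sup_left) (inf_le_right.trans inf_le_right)
    have h2 := relIndex_dvd_of_le_left (A ⊓ N) hle
    rw [inf_relIndex_right] at h2
    exact hpNA (h.trans h2)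
  · have hM : Q ⊔ (A ⊓ N) ⊔ (B ⊓ N) = N := by
      apply le_antisymm (sup_le (sup_le hQN inf_le_right) inf_le_right)
      rw [sup_assoc, hN0]
      exact le_sup_right
    have hMN : Q ⊔ (A ⊓ N) ≤ N := sup_le hQN inf_le_right
    have h1 := relIndex_sup_of_le_normalizer (Q ⊔ (A ⊓ N)) (B ⊓ N) (hMN.trans hNNB)
    rw [hM] at h1
    rw [h1] at h
    have hle : PB ⊓ (B ⊓ N) ≤ Q ⊔ (A ⊓ N) := by
      refine le_trans (le_inf (inf_le_left.trans le_sup_right) (inf_le_right.trans inf_le_right))
        le_sup_left
    have h2 := relIndex_dvd_of_le_left (B ⊓ N) hle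
    rw [inf_relIndex_right] at h2
    exact hpNB (h.trans h2)

/-- Case `N` central, inside the derived subgroup. -/
theorem not_dvd_relIndex_of_central [Finite G] {p : ℕ} [Fact p.Prime] {N T : Subgroup G}
    (hN : IsMinNormal N) (hNc : N ≤ center G) (hNd : N ≤ commutator G) (hT : IsPGroup p T)
    (hidx : ¬ p ∣ (T ⊔ N : Subgroup G).index) : ¬ p ∣ T.relIndex N := by
  have hp : p.Prime := Fact.out
  have hNn : N.Normal := hN.1
  by_cases hpN : p ∣ Nat.card N
  · -- `N` has order `p`
    obtain ⟨x, hx⟩ := exists_prime_orderOf_dvd_card' p hpN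
    have hx1 : (x : G) ≠ 1 := by
      intro h
      have : x = 1 := Subtype.ext h
      rw [this, orderOf_one] at hx
      exact hp.one_lt.ne hx
    have hzn : (zpowers (x : G)).Normal := by
      constructor
      intro y hy g
      have hyc : y ∈ center G := hNc ((zpowers_le.2 x.2) hy)
      have : g * y * g⁻¹ = y := by
        rw [mem_center_iff] at hyc
        rw [hyc g, mul_assoc, mul_inv_cancel, mul_one]
      rw [this]
      exact hy
    have hzN : zpowers (x : G) = N := by
      rcases hN.2.2 _ hzn (zpowers_le.2 x.2) with h | h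
      · exfalso
        apply hx1
        have : (x : G) ∈ zpowers (x : G) := mem_zpowers _
        rw [h] at this
        exact mem_bot.1 this
      · exact h
    have hNcard : Nat.card N = p := by
      rw [← hzN, Nat.card_zpowers, Subgroup.orderOf_coe, hx]
    have hNp : IsPGroup p N := IsPGroup.of_card (n := 1) (by rw [hNcard, pow_one])
    have hS : IsPGroup p (T ⊔ N : Subgroup G) := IsPGroup.to_sup_of_normal_right hT hNp
    set P : Sylow p G := hS.toSylow hidx with hP
    have hPcoe : (P : Subgroup G) = T ⊔ N := IsPGroup.toSylow_coe hS hidx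
    have hNP : N ≤ (P : Subgroup G) := hPcoe ▸ le_sup_right
    have hTP : T ≤ (P : Subgroup G) := hPcoe ▸ le_sup_left
    have hNfr : N.subgroupOf (P : Subgroup G) ≤ frattini ↥(P : Subgroup G) := by
      intro z hz
      have hzN : (z : G) ∈ N := hz
      have h1 := Cfsg.Agent.Lib.Helper2.center_commutator_sylow_mem_commutator P (z : G)
        (hNc hzN) (hNd hzN) z.2
      exact Cfsg.Agent.Lib.Helper2.commutator_le_frattini P.2 h1
    have hsup : T.subgroupOf (P : Subgroup G) ⊔ N.subgroupOf (P : Subgroup G) = ⊤ := by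
      rw [← subgroupOf_sup hTP hNP, ← hPcoe, subgroupOf_self]
    have htop : T.subgroupOf (P : Subgroup G) = ⊤ := by
      apply frattini_nongenerating
      rw [eq_top_iff, ← hsup]
      exact sup_le_sup_left hNfr _
    have hPT : (P : Subgroup G) ≤ T := subgroupOf_eq_top.1 htop
    rw [relIndex_eq_one.2 (hNP.trans hPT)]
    exact hp.one_lt.not_ge ∘ Nat.le_of_dvd Nat.one_pos
  · intro h
    exact hpN (h.trans (relIndex_dvd_card T N))

/-- Core: in `G = ⟨A, B⟩` with `A`, `B` subnormal, a `p`-subgroup generated by a Sylow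
`p`-subgroup of `A` and one of `B` is a Sylow `p`-subgroup of `G`. -/
theorem sylow_join_core (p : ℕ) [hpf : Fact p.Prime] : ∀ (n : ℕ) (G : Type u) [Group G] [Finite G],
    Nat.card G ≤ n → ∀ A B PA PB : Subgroup G, A.IsSubnormal → B.IsSubnormal → A ⊔ B = ⊤ →
      PA ≤ A → PB ≤ B → ¬ p ∣ PA.relIndex A → ¬ p ∣ PB.relIndex B →
      IsPGroup p ↥(PA ⊔ PB : Subgroup G) → ¬ p ∣ (PA ⊔ PB : Subgroup G).index := by
  have hp : p.Prime := Fact.out
  intro n
  induction n with
  | zero =>
    intro G _ _ hn
    exfalso
    have := Nat.card_pos (α := G)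
    omega
  | succ n ih =>
    intro G _ _ hn A B PA PB hA hB hAB hPA hPB hpA hpB hT
    by_cases hab : commutator G = ⊥
    · -- abelian case: every subgroup is normal
      have hcomm : ∀ x y : G, x * y = y * x := by
        intro x y
        have h0 := hab
        rw [_root_.commutator_def, Subgroup.commutator_eq_bot_iff_le_centralizer] at h0
        have h1 := h0 (mem_top y)
        rw [mem_centralizer_iff] at h1
        exact h1 x (mem_top x)
      have hnorm : ∀ H : Subgroup G, normalizer (H : Set G) = ⊤ := by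
        intro H
        rw [eq_top_iff]
        intro g _
        rw [mem_normalizer_iff]
        intro h
        have : g * h * g⁻¹ = h := by rw [hcomm g h, mul_assoc, mul_inv_cancel, mul_one]
        rw [this]
      have e1 := relIndex_mul_index (le_sup_left : PA ⊔ PB ≤ PA ⊔ PB ⊔ A)
      rw [← e1]
      intro hdvd
      rcases (Nat.Prime.dvd_mul hp).1 hdvd with h | h
      · rw [relIndex_sup_of_le_normalizer _ A (by rw [hnorm]; exact le_top)] at h
        exact hpA (h.trans (relIndex_dvd_of_le_left A le_sup_left))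
      · have htop : PA ⊔ PB ⊔ A ⊔ B = ⊤ := by
          rw [eq_top_iff, ← hAB]
          exact sup_le (le_sup_right.trans le_sup_left) le_sup_right
        have h1 := relIndex_sup_of_le_normalizer (PA ⊔ PB ⊔ A) B (by rw [hnorm]; exact le_top)
        rw [htop, relIndex_top_right] at h1
        rw [h1] at h
        exact hpB (h.trans (relIndex_dvd_of_le_left B (le_sup_right.trans le_sup_left)))
    · -- nonabelian case
      obtain ⟨N, hNmin, hNle⟩ := exists_isMinNormal_le (commutator G) inferInstance hab
      have hNn : N.Normal := hNmin.1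
      have hN1 : N ≠ ⊥ := hNmin.2.1
      have hNA : N ≤ normalizer (A : Set G) := hNmin.le_normalizer hA
      have hNB : N ≤ normalizer (B : Set G) := hNmin.le_normalizer hB
      have hXN : ∀ X : Subgroup G, X ≤ normalizer (N : Set G) := by
        intro X
        rw [normalizer_eq_top_iff.2 hNn]
        exact le_top
      -- the quotient
      have hsurj : Function.Surjective (QuotientGroup.mk' N) := QuotientGroup.mk'_surjective N
      have hcardq : Nat.card (G ⧸ N) ≤ n := by
        have h1 := Subgroup.card_eq_card_quotient_mul_card_subgroup N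
        have h2 : 2 ≤ Nat.card N := by
          have hpos : 0 < Nat.card N := Nat.card_pos
          have hne : Nat.card N ≠ 1 := fun h => hN1 (Subgroup.card_eq_one.1 h)
          omega
        have h3 : 0 < Nat.card (G ⧸ N) := Nat.card_pos
        nlinarith
      have hq := ih (G ⧸ N) hcardq (A.map (QuotientGroup.mk' N)) (B.map (QuotientGroup.mk' N))
        (PA.map (QuotientGroup.mk' N)) (PB.map (QuotientGroup.mk' N)) (hA.map hsurj) (hB.map hsurj)
        (by rw [← Subgroup.map_sup, hAB, Subgroup.map_top_of_surjective _ hsurj])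
        (Subgroup.map_mono hPA) (Subgroup.map_mono hPB)
        (fun h => hpA (h.trans (relIndex_map_map_dvd _ hPA)))
        (fun h => hpB (h.trans (relIndex_map_map_dvd _ hPB)))
        (by rw [← Subgroup.map_sup]; exact hT.map _)
      rw [← Subgroup.map_sup, Subgroup.index_map, QuotientGroup.ker_mk',
        MonoidHom.range_eq_top_of_surjective _ hsurj, index_top, mul_one] at hq
      -- the claim
      have hclaim : ¬ p ∣ (PA ⊔ PB : Subgroup G).relIndex N := by
        -- N₀ is normal
        have hAN0 : A ≤ normalizer (((A ⊓ N) ⊔ (B ⊓ N) : Subgroup G) : Set G) := by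
          intro a ha
          apply mem_normalizer_of_conj_mem
          intro x hx
          have h1 : a * x * a⁻¹ ∈ ((A ⊓ N) ⊔ (B ⊓ N)).map (MulAut.conj a).toMonoidHom :=
            ⟨x, hx, rfl⟩
          rw [Subgroup.map_sup] at h1
          have hle : (A ⊓ N).map (MulAut.conj a).toMonoidHom ⊔
              (B ⊓ N).map (MulAut.conj a).toMonoidHom ≤ (A ⊓ N) ⊔ (B ⊓ N) := sup_le ?_ ?_
          · exact hle h1
          · rw [map_conj_le_iff]
            intro y hy
            exact le_sup_left (a := A ⊓ N)
              ⟨A.mul_mem (A.mul_mem ha hy.1) (A.inv_mem ha), hNn.conj_mem y hy.2 a⟩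
          · rw [map_conj_le_iff]
            intro y hy
            have h2 : a * y * a⁻¹ * y⁻¹ ∈ A ⊓ N := by
              constructor
              · have : y * a⁻¹ * y⁻¹ ∈ A :=
                  ((mem_normalizer_iff.1 (hNA hy.2)) a⁻¹).1 (A.inv_mem ha)
                have e : a * y * a⁻¹ * y⁻¹ = a * (y * a⁻¹ * y⁻¹) := by group
                rw [e]
                exact A.mul_mem ha this
              · exact N.mul_mem (hNn.conj_mem y hy.2 a) (N.inv_mem hy.2)
            have e : a * y * a⁻¹ = (a * y * a⁻¹ * y⁻¹) * y := by group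
            rw [e]
            exact Subgroup.mul_mem _ (le_sup_left (a := A ⊓ N) h2) (le_sup_right (a := A ⊓ N) hy)
        have hBN0 : B ≤ normalizer (((A ⊓ N) ⊔ (B ⊓ N) : Subgroup G) : Set G) := by
          intro b hb
          apply mem_normalizer_of_conj_mem
          intro x hx
          have h1 : b * x * b⁻¹ ∈ ((A ⊓ N) ⊔ (B ⊓ N)).map (MulAut.conj b).toMonoidHom :=
            ⟨x, hx, rfl⟩
          rw [Subgroup.map_sup] at h1
          have hle : (A ⊓ N).map (MulAut.conj b).toMonoidHom ⊔
              (B ⊓ N).map (MulAut.conj b).toMonoidHom ≤ (A ⊓ N) ⊔ (B ⊓ N) := sup_le ?_ ?_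
          · exact hle h1
          · rw [map_conj_le_iff]
            intro y hy
            have h2 : b * y * b⁻¹ * y⁻¹ ∈ B ⊓ N := by
              constructor
              · have : y * b⁻¹ * y⁻¹ ∈ B :=
                  ((mem_normalizer_iff.1 (hNB hy.2)) b⁻¹).1 (B.inv_mem hb)
                have e : b * y * b⁻¹ * y⁻¹ = b * (y * b⁻¹ * y⁻¹) := by group
                rw [e]
                exact B.mul_mem hb this
              · exact N.mul_mem (hNn.conj_mem y hy.2 b) (N.inv_mem hy.2)
            have e : b * y * b⁻¹ = (b * y * b⁻¹ * y⁻¹) * y := by group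
            rw [e]
            exact Subgroup.mul_mem _ (le_sup_right (b := B ⊓ N) h2) (le_sup_left (b := B ⊓ N) hy)
          · rw [map_conj_le_iff]
            intro y hy
            exact le_sup_right (b := B ⊓ N)
              ⟨B.mul_mem (B.mul_mem hb hy.1) (B.inv_mem hb), hNn.conj_mem y hy.2 b⟩
        have hN0n : ((A ⊓ N) ⊔ (B ⊓ N) : Subgroup G).Normal := by
          rw [← normalizer_eq_top_iff, eq_top_iff, ← hAB]
          exact sup_le hAN0 hBN0
        rcases hNmin.2.2 _ hN0n (sup_le inf_le_right inf_le_right) with h0 | h0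
        · -- central case
          have hNA0 : A ⊓ N = ⊥ := le_bot_iff.1 (h0 ▸ le_sup_left)
          have hNB0 : B ⊓ N = ⊥ := le_bot_iff.1 (h0 ▸ le_sup_right)
          have hAc : A ≤ centralizer (N : Set G) := by
            intro a ha
            rw [mem_centralizer_iff]
            intro y hy
            have h2 : a * y * a⁻¹ * y⁻¹ ∈ A ⊓ N := by
              constructor
              · have : y * a⁻¹ * y⁻¹ ∈ A :=
                  ((mem_normalizer_iff.1 (hNA hy)) a⁻¹).1 (A.inv_mem ha)
                have e : a * y * a⁻¹ * y⁻¹ = a * (y * a⁻¹ * y⁻¹) := by group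
                rw [e]
                exact A.mul_mem ha this
              · exact N.mul_mem (hNn.conj_mem y hy a) (N.inv_mem hy)
            rw [hNA0, mem_bot] at h2
            have e : y * a = (a * y * a⁻¹ * y⁻¹)⁻¹ * (a * y) := by group
            rw [e, h2, inv_one, one_mul]
          have hBc : B ≤ centralizer (N : Set G) := by
            intro b hb
            rw [mem_centralizer_iff]
            intro y hy
            have h2 : b * y * b⁻¹ * y⁻¹ ∈ B ⊓ N := by
              constructor
              · have : y * b⁻¹ * y⁻¹ ∈ B :=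
                  ((mem_normalizer_iff.1 (hNB hy)) b⁻¹).1 (B.inv_mem hb)
                have e : b * y * b⁻¹ * y⁻¹ = b * (y * b⁻¹ * y⁻¹) := by group
                rw [e]
                exact B.mul_mem hb this
              · exact N.mul_mem (hNn.conj_mem y hy b) (N.inv_mem hy)
            rw [hNB0, mem_bot] at h2
            have e : y * b = (b * y * b⁻¹ * y⁻¹)⁻¹ * (b * y) := by group
            rw [e, h2, inv_one, one_mul]
          have hNc : N ≤ center G := by
            have htop : (⊤ : Subgroup G) ≤ centralizer (N : Set G) := hAB ▸ sup_le hAc hBc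
            intro y hy
            rw [mem_center_iff]
            intro g
            exact ((mem_centralizer_iff.1 (htop (mem_top g))) y hy).symm
          exact not_dvd_relIndex_of_central hNmin hNc hNle hT hq
        · exact not_dvd_relIndex_of_sup_eq hNA hNB hPA hPB (hXN A) (hXN B) hpA hpB h0
      -- the count
      have e1 := relIndex_mul_index (le_sup_left : PA ⊔ PB ≤ PA ⊔ PB ⊔ N)
      rw [← e1, relIndex_sup_of_le_normalizer _ N (hXN _)]
      intro hdvd
      rcases (Nat.Prime.dvd_mul hp).1 hdvd with h | h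
      · exact hclaim h
      · exact hq h

end core

end Cfsg.Agent.Lib.Helper50
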