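import Cfsg.Agent.Lib.Helper23.BetaNarrow

set_option autoImplicit false
set_option linter.style.haveILetI false

/-!
# Bender–Glauberman 11.5, piece (P1): rank at least three

In a `p`-group `R` (`p` odd) of rank at least 3 with a maximal elementary abelian subgroup `E` of
order `p²`, the centralizer `C_R(E)` is abelian.  (The first lemma reruns the argument of
`Cfsg.Agent.Lib.Helper23.Beta.isNarrow_of_maximal_elemAb`, keeping track of `x ∈ E`.)
-/

namespace Cfsg.Agent.Lib.Helper50.BG115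

open Subgroup Cfsg

/-- `C_R(x) = ⟨x⟩ C_T(x)` with `C_T(x)` cyclic, for a suitable `x ∈ E`. -/
theorem exists_cent_decomp {R : Type*} [Group R] [Finite R] (p : ℕ) [Fact p.Prime]
    (hp : p ≠ 2) (hR : IsPGroup p R) (hr : ¬ PRankLE p 2 R) (E : Subgroup R)
    (hE : IsElementaryAbelian p E) (hE2 : Nat.card E = p ^ 2)
    (hEmax : ∀ B : Subgroup R, IsElementaryAbelian p B → E ≤ B → B = E) :
    ∃ x ∈ E, ∃ R₁ : Subgroup R, IsCyclic R₁ ∧ (∀ b ∈ R₁, x * b = b * x) ∧
      ∀ y : R, x * y = y * x → ∃ t ∈ R₁, ∃ k : ℤ, y = t * x ^ k := by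
  classical
  have hpp : p.Prime := Fact.out
  obtain ⟨hET, hZ1, -, hTchar, hTidx⟩ := Cfsg.Agent.S1453.result p hp hR hr E hE hE2 hEmax
  obtain ⟨T, hT⟩ : ∃ T : Subgroup R, T = centralizer ((closure
      {x : R | x ∈ Subgroup.upperCentralSeries R 2 ∧ x ^ p = 1} : Subgroup R) : Set R) := ⟨_, rfl⟩
  rw [← hT] at hET hTidx hTchar
  have hclZ : closure {x : R | x ∈ center R ∧ x ^ p = 1} = Cfsg.Agent.S1453.omegaCenter p R :=
    Subgroup.closure_eq (Cfsg.Agent.S1453.omegaCenter p R)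
  rw [hclZ] at hZ1
  obtain ⟨Z, hZdef⟩ : ∃ Z, Z = Cfsg.Agent.S1453.omegaCenter p R := ⟨_, rfl⟩
  rw [← hZdef] at hZ1
  have hZmem : ∀ x, x ∈ Z ↔ x ∈ center R ∧ x ^ p = 1 := by
    intro x; rw [hZdef]; rfl
  obtain ⟨hEc', hEe⟩ := hE
  have hEc : ∀ a ∈ E, ∀ b ∈ E, a * b = b * a := fun a ha b hb =>
    congrArg Subtype.val (hEc'.is_comm.comm ⟨a, ha⟩ ⟨b, hb⟩)
  have hEmax' : ∀ B : Subgroup R, (∀ a ∈ B, ∀ b ∈ B, a * b = b * a) → (∀ a ∈ B, a ^ p = 1) →
      E ≤ B → B = E := by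
    intro B hBc hBe hEB
    refine hEmax B ⟨⟨⟨?_⟩⟩, hBe⟩ hEB
    rintro ⟨a, ha⟩ ⟨b, hb⟩
    exact Subtype.ext (hBc a ha b hb)
  -- an element of order dividing `p` commuting with `E` lies in `E`
  have hkey : ∀ y : R, y ^ p = 1 → (∀ e ∈ E, e * y = y * e) → y ∈ E := by
    intro y hy hc
    obtain ⟨h1, h2⟩ := Cfsg.Agent.S1453.sup_elemAb (p := p) E (zpowers y) hEc hEe
      (by
        intro a ha b hb
        obtain ⟨k, rfl⟩ := mem_zpowers_iff.mp ha
        obtain ⟨l, rfl⟩ := mem_zpowers_iff.mp hb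
        exact zpow_mul_comm y k l)
      (by
        intro a ha
        obtain ⟨k, rfl⟩ := mem_zpowers_iff.mp ha
        rw [← zpow_natCast, ← zpow_mul, mul_comm, zpow_mul, zpow_natCast, hy, one_zpow])
      (by
        intro a ha b hb
        obtain ⟨k, rfl⟩ := mem_zpowers_iff.mp hb
        exact (show Commute a y from hc a ha).zpow_right k)
    have := hEmax' (E ⊔ zpowers y) h1 h2 le_sup_left
    rw [← this]
    exact le_sup_right (α := Subgroup R) (mem_zpowers y)
  have hZT : Z ≤ T := by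
    intro z hz
    rw [hT]
    exact Subgroup.center_le_centralizer _ ((hZmem z).mp hz).1
  have hZE : Z ≤ E := fun z hz => hkey z ((hZmem z).mp hz).2
    (fun e _ => (mem_center_iff.mp ((hZmem z).mp hz).1 e))
  obtain ⟨x, hxE, hxT⟩ := SetLike.not_le_iff_exists.mp hET
  have hx1 : x ≠ 1 := fun h => hxT (h ▸ T.one_mem)
  have hxp : x ^ p = 1 := hEe x hxE
  have hox : orderOf x = p := orderOf_eq_prime hxp hx1
  haveI hTn : T.Normal := Subgroup.normal_of_characteristic T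
  have htop : T ⊔ zpowers x = ⊤ :=
    Cfsg.Agent.Lib.Helper63.eq_top_of_index_prime hpp hTidx le_sup_left
      (le_sup_right (α := Subgroup R) (mem_zpowers x)) hxT
  have hdec : ∀ y : R, ∃ t ∈ T, ∃ u ∈ zpowers x, y = t * u := by
    intro y
    have hy : y ∈ ((T ⊔ zpowers x : Subgroup R) : Set R) := by rw [htop]; trivial
    rw [Subgroup.normal_mul] at hy
    obtain ⟨t, ht, u, hu, rfl⟩ := Set.mem_mul.mp hy
    exact ⟨t, ht, u, hu, rfl⟩
  -- `E ∩ T = Z`
  have hETZ : E ⊓ T = Z := by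
    have hle : Z ≤ E ⊓ T := le_inf hZE hZT
    have hd : Nat.card ↥(E ⊓ T : Subgroup R) ∣ p ^ 2 := by
      rw [← hE2]; exact Subgroup.card_dvd_of_le inf_le_left
    obtain ⟨j, hj, hcj⟩ := (Nat.dvd_prime_pow hpp).mp hd
    have hj2 : j ≠ 2 := by
      intro h
      have : E ⊓ T = E := Subgroup.eq_of_le_of_card_ge inf_le_left (by rw [hcj, h, hE2])
      have h' : x ∈ E ⊓ T := by rw [this]; exact hxE
      exact hxT h'.2
    have hj1 : 1 ≤ j := by
      by_contra h
      have h0 : j = 0 := by omega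
      have hc1 : Nat.card ↥(E ⊓ T : Subgroup R) = 1 := by rw [hcj, h0, pow_zero]
      have := Subgroup.card_le_of_le hle
      rw [hZ1, hc1] at this
      exact absurd this (by have := hpp.one_lt; omega)
    have hj' : j = 1 := by omega
    symm
    apply Subgroup.eq_of_le_of_card_ge hle
    rw [hcj, hj', pow_one, hZ1]
  -- the subgroups `R₀` and `R₁`
  obtain ⟨R₁, hR₁⟩ : ∃ R₁ : Subgroup R,
      R₁ = T ⊓ centralizer ((zpowers x : Subgroup R) : Set R) := ⟨_, rfl⟩
  have hcx : ∀ y : R, y ∈ centralizer ((zpowers x : Subgroup R) : Set R) ↔ x * y = y * x := by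
    intro y
    rw [Subgroup.mem_centralizer_iff]
    constructor
    · intro h; exact h x (mem_zpowers x)
    · intro h u hu
      obtain ⟨k, rfl⟩ := mem_zpowers_iff.mp hu
      exact ((show Commute x y from h).zpow_left k).eq
  -- elements of order `p` of `R₁` lie in `Z`
  have hR₁Z : ∀ a ∈ R₁, a ^ p = 1 → a ∈ Z := by
    intro a ha hap
    rw [hR₁] at ha
    have hax : x * a = a * x := (hcx a).mp ha.2
    have haE : a ∈ E := by
      apply hkey a hap
      intro e he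
      obtain ⟨t, ht, u, hu, rfl⟩ := hdec e
      have htE : t ∈ E := by
        have : t = (t * u) * u⁻¹ := by group
        rw [this]
        exact E.mul_mem he (E.inv_mem ((zpowers_le.mpr hxE) hu))
      have htZ : t ∈ Z := hETZ ▸ (⟨htE, ht⟩ : t ∈ E ⊓ T)
      have h1 : a * t = t * a := mem_center_iff.mp ((hZmem t).mp htZ).1 a
      obtain ⟨k, rfl⟩ := mem_zpowers_iff.mp hu
      have h2 : x ^ k * a = a * x ^ k := ((show Commute x a from hax).zpow_left k).eq
      calc t * x ^ k * a = t * (x ^ k * a) := by group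
        _ = t * (a * x ^ k) := by rw [h2]
        _ = (t * a) * x ^ k := by group
        _ = (a * t) * x ^ k := by rw [h1]
        _ = a * (t * x ^ k) := by group
    exact hETZ ▸ (⟨haE, ha.1⟩ : a ∈ E ⊓ T)
  have hcyc : IsCyclic R₁ := by
    apply Cfsg.Agent.Lib.Helper49.isCyclic_of_isPGroup_rankLEOne hp (hR.to_subgroup R₁)
    intro A hAc hAe
    have hle : A.map R₁.subtype ≤ Z := by
      rintro _ ⟨a, ha, rfl⟩
      apply hR₁Z _ a.2
      have := hAe a ha
      simpa using congrArg Subtype.val this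
    have h1 : Nat.card ↥(A.map R₁.subtype) = Nat.card A :=
      Subgroup.card_map_of_injective R₁.subtype_injective
    rw [← h1, ← hZ1]
    exact Subgroup.card_le_of_le hle
  refine ⟨x, hxE, R₁, hcyc, ?_, ?_⟩
  · intro b hb
    rw [hR₁] at hb
    exact (hcx b).mp hb.2
  · intro y hy
    obtain ⟨t, ht, u, hu, rfl⟩ := hdec y
    obtain ⟨k, rfl⟩ := mem_zpowers_iff.mp hu
    have hu' : x * x ^ k = x ^ k * x := ((Commute.refl x).zpow_right k).eq
    have ht' : x * t = t * x := by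
      have h1 : x * (t * x ^ k) * (x ^ k)⁻¹ = (t * x ^ k) * x * (x ^ k)⁻¹ := by rw [hy]
      have h2 : x * (t * x ^ k) * (x ^ k)⁻¹ = x * t := by group
      have h3 : (t * x ^ k) * x * (x ^ k)⁻¹ = t * x := by
        rw [mul_assoc t, ← hu']; group
      rw [h2, h3] at h1
      exact h1
    refine ⟨t, ?_, k, rfl⟩
    rw [hR₁]
    exact ⟨ht, (hcx t).mpr ht'⟩

/-- **BG 11.5, piece (P1).** -/
theorem cent_comm_rank3 {R : Type*} [Group R] [Finite R] {p : ℕ} [Fact p.Prime] (hp : p ≠ 2)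
    (hR : IsPGroup p R) (hr : ¬ Cfsg.PRankLE p 2 R) {E : Subgroup R}
    (hE : Cfsg.IsElementaryAbelian p E) (hE2 : Nat.card E = p ^ 2)
    (hEmax : ∀ B : Subgroup R, Cfsg.IsElementaryAbelian p B → E ≤ B → B = E) :
    ∀ x ∈ Subgroup.centralizer (E : Set R), ∀ y ∈ Subgroup.centralizer (E : Set R),
      x * y = y * x := by
  obtain ⟨x₀, hx₀E, R₁, hcyc, hcomm, hdec⟩ := exists_cent_decomp p hp hR hr E hE hE2 hEmax
  intro a ha b hb
  rw [Subgroup.mem_centralizer_iff] at ha hb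
  obtain ⟨t, ht, k, rfl⟩ := hdec a (ha x₀ hx₀E)
  obtain ⟨s, hs, l, rfl⟩ := hdec b (hb x₀ hx₀E)
  have hts : t * s = s * t := by
    haveI := hcyc
    have := (IsCyclic.commGroup (α := R₁)).mul_comm ⟨t, ht⟩ ⟨s, hs⟩
    exact congrArg Subtype.val this
  have h1 : Commute x₀ t := hcomm t ht
  have h2 : Commute x₀ s := hcomm s hs
  have h3 : Commute (x₀ ^ k) s := h2.zpow_left k
  have h4 : Commute (x₀ ^ l) t := h1.zpow_left l
  have h5 : Commute (x₀ ^ k) (x₀ ^ l) := (Commute.refl x₀).zpow_zpow k l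
  calc t * x₀ ^ k * (s * x₀ ^ l) = t * (x₀ ^ k * s) * x₀ ^ l := by group
    _ = t * (s * x₀ ^ k) * x₀ ^ l := by rw [h3.eq]
    _ = (t * s) * (x₀ ^ k * x₀ ^ l) := by group
    _ = (s * t) * (x₀ ^ l * x₀ ^ k) := by rw [hts, h5.eq]
    _ = s * (t * x₀ ^ l) * x₀ ^ k := by group
    _ = s * (x₀ ^ l * t) * x₀ ^ k := by rw [h4.eq]
    _ = s * x₀ ^ l * (t * x₀ ^ k) := by group

end Cfsg.Agent.Lib.Helper50.BG115
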