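import Mathlib.GroupTheory.Sylow
import Mathlib.GroupTheory.Index
import Mathlib.Algebra.Group.Subgroup.Pointwise
import Cfsg.Prelude.Def_BaumannBlocks
import Cfsg.Agent.Lib.Helper50.Basic

set_option autoImplicit false

namespace Cfsg.Agent.Lib.Helper50

open Subgroup
open scoped Pointwise

variable {G : Type*} [Group G]

/-! ### Product formula -/

theorem card_mul_card_le [Finite G] (H K : Subgroup G) :
    Nat.card H * Nat.card K ≤ Nat.card (H ⊓ K : Subgroup G) * Nat.card (H ⊔ K : Subgroup G) := by
  have h1 : Nat.card (H ⊓ K : Subgroup G) * K.relIndex H = Nat.card H := by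
    have := relIndex_mul_relIndex (⊥ : Subgroup G) (H ⊓ K) H bot_le inf_le_left
    rw [relIndex_bot_left, relIndex_bot_left, inf_relIndex_left] at this
    exact this
  have h2 : Nat.card K * K.relIndex (H ⊔ K) = Nat.card (H ⊔ K : Subgroup G) := by
    have := relIndex_mul_relIndex (⊥ : Subgroup G) K (H ⊔ K) bot_le le_sup_right
    rw [relIndex_bot_left, relIndex_bot_left] at this
    exact this
  have h3 : K.relIndex H ≤ K.relIndex (H ⊔ K) :=
    relIndex_le_of_le_right le_sup_left (index_ne_zero_of_finite (H := K.subgroupOf (H ⊔ K)))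
  calc Nat.card H * Nat.card K = Nat.card (H ⊓ K : Subgroup G) * K.relIndex H * Nat.card K := by rw [h1]
    _ ≤ Nat.card (H ⊓ K : Subgroup G) * K.relIndex (H ⊔ K) * Nat.card K := by gcongr
    _ = Nat.card (H ⊓ K : Subgroup G) * (Nat.card K * K.relIndex (H ⊔ K)) := by ring
    _ = _ := by rw [h2]

theorem coe_sup_eq_mul_of_card_eq [Finite G] (H K : Subgroup G)
    (h : Nat.card H * Nat.card K = Nat.card (H ⊓ K : Subgroup G) * Nat.card (H ⊔ K : Subgroup G)) :
    ((H ⊔ K : Subgroup G) : Set G) = (H : Set G) * (K : Set G) := by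
  have h1 : Nat.card (H ⊓ K : Subgroup G) * K.relIndex H = Nat.card H := by
    have := relIndex_mul_relIndex (⊥ : Subgroup G) (H ⊓ K) H bot_le inf_le_left
    rw [relIndex_bot_left, relIndex_bot_left, inf_relIndex_left] at this
    exact this
  have h2 : Nat.card K * K.relIndex (H ⊔ K) = Nat.card (H ⊔ K : Subgroup G) := by
    have := relIndex_mul_relIndex (⊥ : Subgroup G) K (H ⊔ K) bot_le le_sup_right
    rw [relIndex_bot_left, relIndex_bot_left] at this
    exact this
  have hpos1 : 0 < Nat.card (H ⊓ K : Subgroup G) := Nat.card_pos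
  have hpos2 : 0 < Nat.card K := Nat.card_pos
  have h3 : K.relIndex H = K.relIndex (H ⊔ K) := by
    rw [← h1, ← h2] at h
    have : Nat.card (H ⊓ K : Subgroup G) * Nat.card K * K.relIndex H =
        Nat.card (H ⊓ K : Subgroup G) * Nat.card K * K.relIndex (H ⊔ K) := by
      calc _ = Nat.card (H ⊓ K : Subgroup G) * K.relIndex H * Nat.card K := by ring
        _ = _ := h
        _ = _ := by ring
    exact Nat.eq_of_mul_eq_mul_left (Nat.mul_pos hpos1 hpos2) this
  -- the embedding of quotients is a bijection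
  let e := quotientSubgroupOfEmbeddingOfLE K (le_sup_left : H ≤ H ⊔ K)
  have hbij : Function.Bijective e := by
    rw [Nat.bijective_iff_injective_and_card]
    exact ⟨e.injective, h3⟩
  apply Set.Subset.antisymm
  · intro x hx
    obtain ⟨q, hq⟩ := hbij.2 (QuotientGroup.mk (⟨x, hx⟩ : (H ⊔ K : Subgroup G)))
    obtain ⟨y, rfl⟩ := QuotientGroup.mk_surjective q
    rw [quotientSubgroupOfEmbeddingOfLE_apply_mk, QuotientGroup.eq] at hq
    rw [mem_subgroupOf] at hq
    refine Set.mem_mul.mpr ⟨(y : G), y.2, (y : G)⁻¹ * x, ?_, by group⟩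
    simpa using hq
  · rintro _ ⟨a, ha, b, hb, rfl⟩
    exact mul_mem (mem_sup_left ha) (mem_sup_right hb)

/-! ### Centralizers of joins and meets -/

theorem centralizer_sup_eq (H K : Subgroup G) :
    centralizer ((H ⊔ K : Subgroup G) : Set G) = centralizer (H : Set G) ⊓ centralizer (K : Set G) := by
  apply le_antisymm
  · exact le_inf (centralizer_le (by exact_mod_cast (le_sup_left : H ≤ H ⊔ K)))
      (centralizer_le (by exact_mod_cast (le_sup_right : K ≤ H ⊔ K)))
  · intro x hx
    have h1 : H ≤ centralizer ((zpowers x : Subgroup G) : Set G) := by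
      rw [le_centralizer_iff, zpowers_le]; exact hx.1
    have h2 : K ≤ centralizer ((zpowers x : Subgroup G) : Set G) := by
      rw [le_centralizer_iff, zpowers_le]; exact hx.2
    have h3 : H ⊔ K ≤ centralizer ((zpowers x : Subgroup G) : Set G) := sup_le h1 h2
    rw [le_centralizer_iff, zpowers_le] at h3
    exact h3

theorem centralizer_sup_le_centralizer_inf (H K : Subgroup G) :
    centralizer (H : Set G) ⊔ centralizer (K : Set G) ≤ centralizer ((H ⊓ K : Subgroup G) : Set G) :=
  sup_le (centralizer_le (by exact_mod_cast (inf_le_left : H ⊓ K ≤ H)))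
    (centralizer_le (by exact_mod_cast (inf_le_right : H ⊓ K ≤ K)))

theorem le_centralizer_centralizer (H : Subgroup G) :
    H ≤ centralizer ((centralizer (H : Set G) : Subgroup G) : Set G) := by
  rw [le_centralizer_iff]

/-! ### The measure -/

/-- The Chermak–Delgado measure `|H| * |C_G(H)|`. -/
noncomputable def cdm (H : Subgroup G) : ℕ := Nat.card H * Nat.card (centralizer (H : Set G))

theorem cdm_pos [Finite G] (H : Subgroup G) : 0 < cdm H := Nat.mul_pos Nat.card_pos Nat.card_pos

theorem cdm_mul_le [Finite G] (H K : Subgroup G) :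
    cdm H * cdm K ≤ cdm (H ⊓ K) * cdm (H ⊔ K) := by
  have hA := card_mul_card_le H K
  have hB := card_mul_card_le (centralizer (H : Set G)) (centralizer (K : Set G))
  have hC : Nat.card (centralizer (H : Set G) ⊔ centralizer (K : Set G) : Subgroup G) ≤
      Nat.card (centralizer ((H ⊓ K : Subgroup G) : Set G)) :=
    card_le_of_le (centralizer_sup_le_centralizer_inf H K)
  rw [← centralizer_sup_eq] at hB
  unfold cdm
  calc Nat.card H * Nat.card (centralizer (H : Set G)) * (Nat.card K * Nat.card (centralizer (K : Set G)))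
      = (Nat.card H * Nat.card K) * (Nat.card (centralizer (H : Set G)) * Nat.card (centralizer (K : Set G))) := by ring
    _ ≤ (Nat.card (H ⊓ K : Subgroup G) * Nat.card (H ⊔ K : Subgroup G)) *
        (Nat.card (centralizer ((H ⊔ K : Subgroup G) : Set G)) *
          Nat.card (centralizer (H : Set G) ⊔ centralizer (K : Set G) : Subgroup G)) := Nat.mul_le_mul hA hB
    _ ≤ (Nat.card (H ⊓ K : Subgroup G) * Nat.card (H ⊔ K : Subgroup G)) *
        (Nat.card (centralizer ((H ⊔ K : Subgroup G) : Set G)) *
          Nat.card (centralizer ((H ⊓ K : Subgroup G) : Set G))) := by gcongr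
    _ = _ := by ring

theorem cdm_le_cdm_centralizer [Finite G] (H : Subgroup G) :
    cdm H ≤ cdm (centralizer (H : Set G)) := by
  unfold cdm
  rw [mul_comm]
  exact Nat.mul_le_mul_left _ (card_le_of_le (le_centralizer_centralizer H))

/-! ### The maximum -/

theorem cdm_bddAbove [Finite G] :
    BddAbove {k : ℕ | ∃ R : Subgroup G, Nat.card ↥R * Nat.card ↥(centralizer (R : Set G)) = k} := by
  refine ⟨Nat.card G * Nat.card G, ?_⟩
  rintro k ⟨R, rfl⟩
  exact Nat.mul_le_mul (card_le_card_group R) (card_le_card_group _)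

theorem cdm_le_max [Finite G] (R : Subgroup G) : cdm R ≤ Cfsg.maxCentralizerProduct G :=
  le_csSup cdm_bddAbove ⟨R, rfl⟩

theorem exists_cdm_eq_max [Finite G] : ∃ R : Subgroup G, cdm R = Cfsg.maxCentralizerProduct G :=
  Nat.sSup_mem (s := {k : ℕ | ∃ R : Subgroup G, Nat.card ↥R * Nat.card ↥(centralizer (R : Set G)) = k}) ⟨_, ⟨⊥, rfl⟩⟩ cdm_bddAbove

theorem isCentralizerLarge_iff [Finite G] (R : Subgroup G) :
    Cfsg.IsCentralizerLarge R ↔ cdm R = Cfsg.maxCentralizerProduct G := Iff.rfl

theorem max_pos [Finite G] : 0 < Cfsg.maxCentralizerProduct G := by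
  obtain ⟨R, hR⟩ := exists_cdm_eq_max (G := G)
  rw [← hR]; exact cdm_pos R

/-- All consequences of two subgroups having the largest measure. -/
theorem cd_pair [Finite G] {H K : Subgroup G} (hH : Cfsg.IsCentralizerLarge H)
    (hK : Cfsg.IsCentralizerLarge K) :
    Cfsg.IsCentralizerLarge (H ⊓ K) ∧ Cfsg.IsCentralizerLarge (H ⊔ K) ∧
    ((H ⊔ K : Subgroup G) : Set G) = (H : Set G) * (K : Set G) ∧
    ((centralizer (H : Set G) ⊔ centralizer (K : Set G) : Subgroup G) : Set G) =
      (centralizer (H : Set G) : Set G) * (centralizer (K : Set G) : Set G) ∧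
    centralizer ((H ⊓ K : Subgroup G) : Set G) = centralizer (H : Set G) ⊔ centralizer (K : Set G) := by
  rw [isCentralizerLarge_iff] at hH hK
  set M := Cfsg.maxCentralizerProduct G with hM
  have hMpos : 0 < M := max_pos
  have hA := card_mul_card_le H K
  have hB := card_mul_card_le (centralizer (H : Set G)) (centralizer (K : Set G))
  have hC : Nat.card (centralizer (H : Set G) ⊔ centralizer (K : Set G) : Subgroup G) ≤
      Nat.card (centralizer ((H ⊓ K : Subgroup G) : Set G)) :=
    card_le_of_le (centralizer_sup_le_centralizer_inf H K)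
  rw [← centralizer_sup_eq] at hB
  have h1 := cdm_le_max (H ⊓ K)
  have h2 := cdm_le_max (H ⊔ K)
  have h3 := cdm_mul_le H K
  rw [hH, hK] at h3
  have hinf : cdm (H ⊓ K) = M := by
    apply le_antisymm h1
    by_contra hlt
    rw [not_le] at hlt
    have : cdm (H ⊓ K) * cdm (H ⊔ K) < M * M :=
      Nat.mul_lt_mul_of_lt_of_le hlt h2 hMpos
    omega
  have hsup : cdm (H ⊔ K) = M := by
    apply le_antisymm h2
    by_contra hlt
    rw [not_le] at hlt
    have : cdm (H ⊓ K) * cdm (H ⊔ K) < M * M :=
      Nat.mul_lt_mul_of_le_of_lt h1 hlt hMpos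
    omega
  -- now extract equalities
  have e0 : cdm H * cdm K = cdm (H ⊓ K) * cdm (H ⊔ K) := by rw [hH, hK, hinf, hsup]
  unfold cdm at e0
  set a := Nat.card H * Nat.card K with ha
  set a' := Nat.card (H ⊓ K : Subgroup G) * Nat.card (H ⊔ K : Subgroup G) with ha'
  set b := Nat.card (centralizer (H : Set G)) * Nat.card (centralizer (K : Set G)) with hb
  set b' := Nat.card (centralizer ((H ⊔ K : Subgroup G) : Set G)) *
          Nat.card (centralizer (H : Set G) ⊔ centralizer (K : Set G) : Subgroup G) with hb'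
  set b'' := Nat.card (centralizer ((H ⊔ K : Subgroup G) : Set G)) *
          Nat.card (centralizer ((H ⊓ K : Subgroup G) : Set G)) with hb''
  have hb'b'' : b' ≤ b'' := Nat.mul_le_mul_left _ hC
  have e1 : a * b = a' * b'' := by
    rw [ha, hb, ha', hb'']
    calc _ = Nat.card H * Nat.card (centralizer (H : Set G)) * (Nat.card K * Nat.card (centralizer (K : Set G))) := by ring
      _ = _ := e0
      _ = _ := by ring
  have hapos : 0 < a := Nat.mul_pos Nat.card_pos Nat.card_pos
  have hbpos : 0 < b := Nat.mul_pos Nat.card_pos Nat.card_pos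
  have eqa : a = a' := by
    apply le_antisymm hA
    by_contra hlt
    rw [not_le] at hlt
    have : a * b < a' * b'' := Nat.mul_lt_mul_of_lt_of_le hlt (hB.trans hb'b'') (lt_of_lt_of_le hbpos (hB.trans hb'b''))
    omega
  have eqb : b = b'' := by
    apply le_antisymm (hB.trans hb'b'')
    by_contra hlt
    rw [not_le] at hlt
    have : a * b < a' * b'' := Nat.mul_lt_mul_of_le_of_lt hA hlt (lt_of_lt_of_le hapos hA)
    omega
  have eqb' : b = b' := le_antisymm hB (by omega)
  have eqC : Nat.card (centralizer (H : Set G) ⊔ centralizer (K : Set G) : Subgroup G) =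
      Nat.card (centralizer ((H ⊓ K : Subgroup G) : Set G)) := by
    have : b' = b'' := by omega
    rw [hb', hb''] at this
    exact Nat.eq_of_mul_eq_mul_left Nat.card_pos this
  refine ⟨hinf, hsup, coe_sup_eq_mul_of_card_eq H K eqa, ?_, ?_⟩
  · apply coe_sup_eq_mul_of_card_eq
    rw [← centralizer_sup_eq]
    exact eqb'
  · exact (eq_of_le_of_card_ge (centralizer_sup_le_centralizer_inf H K) (le_of_eq eqC.symm)).symm

theorem cd_centralizer [Finite G] {H : Subgroup G} (hH : Cfsg.IsCentralizerLarge H) :
    Cfsg.IsCentralizerLarge (centralizer (H : Set G)) ∧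
    H = centralizer ((centralizer (H : Set G) : Subgroup G) : Set G) := by
  rw [isCentralizerLarge_iff] at hH
  have h1 := cdm_le_cdm_centralizer H
  have h2 := cdm_le_max (centralizer (H : Set G))
  have h3 : cdm (centralizer (H : Set G)) = Cfsg.maxCentralizerProduct G := le_antisymm h2 (hH ▸ h1)
  refine ⟨h3, ?_⟩
  have h4 : cdm H = cdm (centralizer (H : Set G)) := by rw [hH, h3]
  unfold cdm at h4
  rw [mul_comm] at h4
  have h5 : Nat.card H = Nat.card (centralizer ((centralizer (H : Set G) : Subgroup G) : Set G)) :=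
    Nat.eq_of_mul_eq_mul_left Nat.card_pos h4
  exact eq_of_le_of_card_ge (le_centralizer_centralizer H) (le_of_eq h5.symm)

end Cfsg.Agent.Lib.Helper50
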