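import Cfsg.Agent.Lib.Helper2.ClassTwo
import Cfsg.Agent.Lib.Helper32.PGroupCenter

/-!
# Alperin's lemma on maximal normal elementary abelian subgroups -- helper50

* `exists_mem_not_mem_commutator_mem`: for normal subgroups `A`, `N` of a finite `p`-group with
  `N` not inside `A`, some `y ∈ N \ A` is central modulo `A`.
* `mem_of_mem_centralizer_of_pow_eq_one`: for `p` odd, if `A` is a maximal normal elementary abelian
  subgroup of the `p`-group `P`, every element of order dividing `p` centralizing `A` lies in `A`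
  (`Ω₁(C_P(A)) = A`).
-/

set_option autoImplicit false

namespace Cfsg.Agent.Lib.Helper50.Alperin

open scoped Pointwise commutatorElement

variable {P : Type*} [Group P] [Finite P] {p : ℕ} [hpf : Fact p.Prime]

/-- For normal subgroups `A`, `N` of a finite `p`-group with `N` not inside `A`, some `y ∈ N \ A`
is central modulo `A`. -/
theorem exists_mem_not_mem_commutator_mem (hP : IsPGroup p P) (A N : Subgroup P) [hAn : A.Normal]
    [hNn : N.Normal] (hNA : ¬ N ≤ A) : ∃ y ∈ N, y ∉ A ∧ ∀ g : P, ⁅g, y⁆ ∈ A := by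
  classical
  obtain ⟨n, hnN, hnA⟩ := SetLike.not_le_iff_exists.mp hNA
  have hQ : IsPGroup p (P ⧸ A) := hP.to_quotient A
  have hNbar : (N.map (QuotientGroup.mk' A)).Normal :=
    hNn.map (QuotientGroup.mk' A) (QuotientGroup.mk'_surjective A)
  have hne : N.map (QuotientGroup.mk' A) ≠ ⊥ := by
    intro hbot
    have h1 : (QuotientGroup.mk' A) n ∈ N.map (QuotientGroup.mk' A) :=
      Subgroup.mem_map_of_mem _ hnN
    rw [hbot, Subgroup.mem_bot] at h1
    exact hnA ((QuotientGroup.eq_one_iff n).mp h1)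
  obtain ⟨x, hxN, hxZ, hx1⟩ :=
    Cfsg.Agent.Lib.Helper32.exists_ne_one_mem_normal_inf_center hQ (N.map (QuotientGroup.mk' A)) hne
  obtain ⟨y, hyN, rfl⟩ := Subgroup.mem_map.mp hxN
  refine ⟨y, hyN, ?_, ?_⟩
  · intro hyA
    exact hx1 ((QuotientGroup.eq_one_iff y).mpr hyA)
  · intro g
    have h2 : (QuotientGroup.mk' A) ⁅g, y⁆ = 1 := by
      rw [map_commutatorElement, commutatorElement_eq_one_iff_mul_comm]
      exact Subgroup.mem_center_iff.mp hxZ _
    exact (QuotientGroup.eq_one_iff _).mp h2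

/-- Elements of `A ⊔ zpowers y` for normal `A`. -/
theorem exists_eq_mul_zpow_of_mem_sup (A : Subgroup P) [hAn : A.Normal] (y : P) {b : P}
    (hb : b ∈ A ⊔ Subgroup.zpowers y) : ∃ a ∈ A, ∃ k : ℤ, b = a * y ^ k := by
  have hb' : b ∈ ((A ⊔ Subgroup.zpowers y : Subgroup P) : Set P) := hb
  rw [Subgroup.normal_mul, Set.mem_mul] at hb'
  obtain ⟨a, ha, z, hz, rfl⟩ := hb'
  obtain ⟨k, rfl⟩ := Subgroup.mem_zpowers_iff.mp hz
  exact ⟨a, ha, k, rfl⟩

/-- Elements of `A ⊔ S` for normal `A`. -/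
theorem exists_eq_mul_of_mem_sup (A S : Subgroup P) [hAn : A.Normal] {b : P}
    (hb : b ∈ A ⊔ S) : ∃ a ∈ A, ∃ s ∈ S, b = a * s := by
  have hb' : b ∈ ((A ⊔ S : Subgroup P) : Set P) := hb
  rw [Subgroup.normal_mul, Set.mem_mul] at hb'
  obtain ⟨a, ha, z, hz, rfl⟩ := hb'
  exact ⟨a, ha, z, hz, rfl⟩

/-- If `y` is central modulo the normal subgroup `A`, then `A ⊔ zpowers y` is normal. -/
theorem normal_sup_zpowers (A : Subgroup P) [hAn : A.Normal] (y : P)
    (hy : ∀ g : P, ⁅g, y⁆ ∈ A) : (A ⊔ Subgroup.zpowers y).Normal := by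
  constructor
  intro b hb g
  obtain ⟨a, ha, k, rfl⟩ := exists_eq_mul_zpow_of_mem_sup A y hb
  have h1 : g * (a * y ^ k) * g⁻¹ = (g * a * g⁻¹) * (g * y * g⁻¹) ^ k := by
    rw [conj_zpow]; group
  rw [h1]
  apply mul_mem ((le_sup_left : A ≤ A ⊔ Subgroup.zpowers y) (hAn.conj_mem a ha g))
  apply zpow_mem
  have h2 : g * y * g⁻¹ = ⁅g, y⁆ * y := by rw [commutatorElement_def]; group
  rw [h2]
  exact mul_mem ((le_sup_left : A ≤ A ⊔ Subgroup.zpowers y) (hy g))
    ((le_sup_right : Subgroup.zpowers y ≤ A ⊔ Subgroup.zpowers y) (Subgroup.mem_zpowers y))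

/-- **Alperin's lemma.**  For `p` odd, if `A` is a maximal normal elementary abelian subgroup of
the finite `p`-group `P`, then every element of order dividing `p` which centralizes `A` lies
in `A`. -/
theorem mem_of_mem_centralizer_of_pow_eq_one (hp2 : p ≠ 2) (hP : IsPGroup p P) (A : Subgroup P)
    [hAn : A.Normal] (hAc : ∀ a ∈ A, ∀ b ∈ A, a * b = b * a) (hAe : ∀ a ∈ A, a ^ p = 1)
    (hmax : ∀ B : Subgroup P, B.Normal → A ≤ B → (∀ a ∈ B, ∀ b ∈ B, a * b = b * a) →
      (∀ a ∈ B, a ^ p = 1) → B ≤ A) :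
    ∀ x ∈ Subgroup.centralizer (A : Set P), x ^ p = 1 → x ∈ A := by
  classical
  have hpp : p.Prime := hpf.out
  obtain ⟨C, hCdef⟩ : ∃ C : Subgroup P, C = Subgroup.centralizer (A : Set P) := ⟨_, rfl⟩
  rw [← hCdef]
  have hCn : C.Normal := by rw [hCdef]; infer_instance
  have hcomm : ∀ a ∈ A, ∀ c ∈ C, a * c = c * a := by
    intro a ha c hc
    rw [hCdef] at hc
    exact Subgroup.mem_centralizer_iff.mp hc a ha
  have hAC : A ≤ C := by
    intro a ha
    rw [hCdef, Subgroup.mem_centralizer_iff]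
    intro b hb
    exact hAc b hb a ha
  -- Fact 1
  have fact1 : ∀ x y : P, x ∈ C → y ∈ C → x ^ p = 1 → y ^ p = 1 → ⁅y, x⁆ ∈ A →
      (x * y) ^ p = 1 := by
    intro x y hx hy hxp hyp hc
    have hcx : Commute ⁅y, x⁆ x := hcomm _ hc x hx
    have hcy : Commute ⁅y, x⁆ y := hcomm _ hc y hy
    rw [Cfsg.Agent.Lib.Helper2.mul_pow_prime_of_commutator_central hpp hp2 x y hcx hcy
      (hAe _ hc), hxp, hyp, one_mul]
  -- Fact 2
  have fact2 : ∀ N : Subgroup P, N.Normal → A ≤ N → N ≤ C → (∀ n ∈ N, n ^ p = 1) → N ≤ A := by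
    intro N hNn hAN hNC hNe
    by_contra hNA
    obtain ⟨y, hyN, hyA, hyc⟩ := exists_mem_not_mem_commutator_mem hP A N hNA
    have hBn : (A ⊔ Subgroup.zpowers y).Normal := normal_sup_zpowers A y hyc
    have hBN : A ⊔ Subgroup.zpowers y ≤ N := sup_le hAN (Subgroup.zpowers_le.mpr hyN)
    have hBle : A ⊔ Subgroup.zpowers y ≤ A := by
      apply hmax _ hBn le_sup_left
      · intro b hb b' hb'
        obtain ⟨a, ha, k, rfl⟩ := exists_eq_mul_zpow_of_mem_sup A y hb
        obtain ⟨a', ha', k', rfl⟩ := exists_eq_mul_zpow_of_mem_sup A y hb'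
        have hyC : ∀ j : ℤ, y ^ j ∈ C := fun j => zpow_mem (hNC hyN) j
        have c1 : Commute a a' := hAc a ha a' ha'
        have c2 : Commute a (y ^ k') := hcomm a ha _ (hyC k')
        have c3 : Commute a' (y ^ k) := hcomm a' ha' _ (hyC k)
        have c4 : Commute (y ^ k) (y ^ k') := (Commute.refl y).zpow_zpow k k'
        exact ((c1.mul_right c2).mul_left (c3.symm.mul_right c4))
      · intro b hb
        exact hNe b (hBN hb)
    exact hyA (hBle ((le_sup_right : Subgroup.zpowers y ≤ A ⊔ Subgroup.zpowers y)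
      (Subgroup.mem_zpowers y)))
  -- the induction along the upper central series
  have key : ∀ i : ℕ,
      (∀ x ∈ C, x ^ p = 1 → x ∈ Subgroup.upperCentralSeries P i → x ∈ A) ∧
      (∀ x ∈ C, x ^ p = 1 → ∀ w ∈ C, w ∈ Subgroup.upperCentralSeries P i → ⁅x, w⁆ ∈ A) := by
    intro i
    induction i with
    | zero =>
      constructor
      · intro x _ _ hx
        rw [Subgroup.upperCentralSeries_zero, Subgroup.mem_bot] at hx
        rw [hx]; exact one_mem A
      · intro x _ _ w _ hw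
        rw [Subgroup.upperCentralSeries_zero, Subgroup.mem_bot] at hw
        rw [hw, commutatorElement_one_right]; exact one_mem A
    | succ i ih =>
      obtain ⟨iha, ihb⟩ := ih
      have hb' : ∀ x ∈ C, x ^ p = 1 → ∀ w ∈ C, w ∈ Subgroup.upperCentralSeries P (i + 1) →
          ⁅x, w⁆ ∈ A := by
        intro x hx hxp w hw hwZ
        have hcZ : w * x * w⁻¹ * x⁻¹ ∈ Subgroup.upperCentralSeries P i :=
          Subgroup.mem_upperCentralSeries_succ_iff.mp hwZ x
        have hcC : w * x * w⁻¹ * x⁻¹ ∈ C :=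
          mul_mem (mul_mem (mul_mem hw hx) (inv_mem hw)) (inv_mem hx)
        have hx'C : w * x * w⁻¹ ∈ C := mul_mem (mul_mem hw hx) (inv_mem hw)
        have hx'p : (w * x * w⁻¹) ^ p = 1 := by rw [conj_pow, hxp]; group
        have hxi : (x⁻¹) ^ p = 1 := by rw [inv_pow, hxp, inv_one]
        have hcomm' : ⁅x⁻¹, w * x * w⁻¹⁆ = ⁅x⁻¹, w * x * w⁻¹ * x⁻¹⁆ := by
          simp only [commutatorElement_def]; group
        have h1 : ⁅x⁻¹, w * x * w⁻¹⁆ ∈ A := by
          rw [hcomm']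
          exact ihb x⁻¹ (inv_mem hx) hxi _ hcC hcZ
        have h2 : (w * x * w⁻¹ * x⁻¹) ^ p = 1 :=
          fact1 (w * x * w⁻¹) x⁻¹ hx'C (inv_mem hx) hx'p hxi h1
        have h3 : w * x * w⁻¹ * x⁻¹ ∈ A := iha _ hcC h2 hcZ
        have h4 : ⁅x, w⁆ = (w * x * w⁻¹ * x⁻¹)⁻¹ := by
          rw [commutatorElement_def]; group
        rw [h4]
        exact inv_mem h3
      refine ⟨?_, hb'⟩
      intro x hx hxp hxZ
      let S : Subgroup P :=
        { carrier := {z | z ∈ C ∧ z ^ p = 1 ∧ z ∈ Subgroup.upperCentralSeries P (i + 1)}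
          mul_mem' := by
            rintro a b ⟨haC, hap, haZ⟩ ⟨hbC, hbp, hbZ⟩
            exact ⟨mul_mem haC hbC, fact1 a b haC hbC hap hbp (hb' b hbC hbp a haC haZ),
              mul_mem haZ hbZ⟩
          one_mem' := ⟨one_mem C, one_pow p, one_mem _⟩
          inv_mem' := by
            rintro a ⟨haC, hap, haZ⟩
            exact ⟨inv_mem haC, by rw [inv_pow, hap, inv_one], inv_mem haZ⟩ }
      have hSmem : ∀ z, z ∈ S ↔ z ∈ C ∧ z ^ p = 1 ∧ z ∈ Subgroup.upperCentralSeries P (i + 1) :=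
        fun z => Iff.rfl
      have hSn : S.Normal := by
        constructor
        intro z hz g
        obtain ⟨hzC, hzp, hzZ⟩ := (hSmem z).mp hz
        refine (hSmem _).mpr ⟨hCn.conj_mem z hzC g, ?_, ?_⟩
        · rw [conj_pow, hzp]; group
        · exact (inferInstance : (Subgroup.upperCentralSeries P (i + 1)).Normal).conj_mem z hzZ g
      have hSC : S ≤ C := fun z hz => ((hSmem z).mp hz).1
      have hNn : (A ⊔ S).Normal := inferInstance
      have hNle : A ⊔ S ≤ A := by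
        apply fact2 (A ⊔ S) hNn le_sup_left (sup_le hAC hSC)
        intro n hn
        obtain ⟨a, ha, s, hs, rfl⟩ := exists_eq_mul_of_mem_sup A S hn
        have hc : Commute a s := hcomm a ha s (hSC hs)
        rw [hc.mul_pow, hAe a ha, ((hSmem s).mp hs).2.1, one_mul]
      exact hNle ((le_sup_right : S ≤ A ⊔ S) ((hSmem x).mpr ⟨hx, hxp, hxZ⟩))
  obtain ⟨n, hn⟩ := (hP.isNilpotent : Group.IsNilpotent P).nilpotent
  intro x hx hxp
  exact (key n).1 x hx hxp (by rw [hn]; exact Subgroup.mem_top x)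

end Cfsg.Agent.Lib.Helper50.Alperin
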