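import Cfsg.Agent.Lib.Helper19.HallRel
import Cfsg.Agent.Lib.Helper24.Coprime
import Cfsg.Agent.Lib.Helper35.HallFusion
import Cfsg.Agent.Lib.Helper23.TransCore
import Cfsg.Agent.Lib.Helper24.BG121
import Cfsg.Prelude.Def_OddOrderLocal

set_option autoImplicit false

/-!
# Bender–Glauberman 11.7, tool (T3)

If `H` is a maximal subgroup, `A ≤ H_σ` is a `p`-group, `D ≤ H` an `A`-invariant `q`-subgroup
with `p ≠ q`, `p, q ∉ β(H)`, and `H_σ` (solvable) has a nilpotent Hall `β(H)'`-subgroup, then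
`A` centralizes `D`.
-/

namespace Cfsg.Agent.Lib.Helper50.BG117

open Subgroup Cfsg
open scoped Pointwise

universe u

variable {G : Type u} [Group G]

/-- Relative Hall theorem inside a solvable subgroup `X` of an arbitrary finite group:
a subgroup `U ≤ X` of order prime to `n` lies in an `X`-conjugate of a Hall subgroup
`H₂ ≤ X` of order `m`, where `|X| = m n` with `gcd(m, n) = 1`. -/
theorem exists_conj_le_of_solvable [Finite G] (X : Subgroup G) (hsX : Group.IsSolvable ↥X) (m n : ℕ)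
    (hX : Nat.card X = m * n) (hmn : m.Coprime n) (H₂ : Subgroup G) (hH₂X : H₂ ≤ X)
    (hH₂ : Nat.card H₂ = m) (U : Subgroup G) (hUX : U ≤ X) (hU : (Nat.card U).Coprime n) :
    ∃ g ∈ X, U ≤ MulAut.conj g • H₂ := by
  have hcardU : Nat.card (U.subgroupOf X) = Nat.card U :=
    Nat.card_congr (Subgroup.subgroupOfEquivOfLe hUX).toEquiv
  have hcardH : Nat.card (H₂.subgroupOf X) = m := by
    rw [Nat.card_congr (Subgroup.subgroupOfEquivOfLe hH₂X).toEquiv, hH₂]
  obtain ⟨H', hH'card, hUH'⟩ := Cfsg.Agent.Lib.Helper1.hallDom_all ↥X hsX m n hX hmn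
    (U.subgroupOf X) (by rw [hcardU]; exact hU)
  obtain ⟨g, hg⟩ := Cfsg.Agent.Lib.Helper1.hallConj_all ↥X hsX m n hX hmn
    (H₂.subgroupOf X) H' hcardH hH'card
  refine ⟨g, g.2, ?_⟩
  intro u hu
  have h1 : (⟨u, hUX hu⟩ : X) ∈ H' := hUH' (by rw [Subgroup.mem_subgroupOf]; exact hu)
  rw [← hg, Subgroup.mem_pointwise_smul_iff_inv_smul_mem] at h1
  rw [Subgroup.mem_pointwise_smul_iff_inv_smul_mem]
  rw [Subgroup.mem_subgroupOf] at h1
  simpa using h1

/-- A subgroup of a conjugate of a nilpotent subgroup: elements of coprime orders commute. -/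
theorem commute_of_le_conj_nilpotent {N U : Subgroup G} (hN : Group.IsNilpotent ↥N) (g : G)
    (hU : U ≤ MulAut.conj g • N) {x y : G} (hx : x ∈ U) (hy : y ∈ U) {m n : ℕ}
    (hxm : x ^ m = 1) (hyn : y ^ n = 1) (hmn : m.Coprime n) : Commute x y := by
  have hx' := hU hx
  have hy' := hU hy
  rw [Subgroup.mem_pointwise_smul_iff_inv_smul_mem] at hx' hy'
  have hxe : (MulAut.conj g)⁻¹ • x = g⁻¹ * x * (g⁻¹)⁻¹ := by simp [MulAut.smul_def]
  have hye : (MulAut.conj g)⁻¹ • y = g⁻¹ * y * (g⁻¹)⁻¹ := by simp [MulAut.smul_def]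
  rw [hxe] at hx'
  rw [hye] at hy'
  have hc := @Cfsg.Agent.Lib.Helper35.commute_of_coprime_of_isNilpotent ↥N _ hN
    ⟨_, hx'⟩ ⟨_, hy'⟩ m n
    (by apply Subtype.ext; simp only [SubmonoidClass.mk_pow, conj_pow, hxm]; simp)
    (by apply Subtype.ext; simp only [SubmonoidClass.mk_pow, conj_pow, hyn]; simp) hmn
  have hc' : (g⁻¹ * x * (g⁻¹)⁻¹) * (g⁻¹ * y * (g⁻¹)⁻¹) = (g⁻¹ * y * (g⁻¹)⁻¹) * (g⁻¹ * x * (g⁻¹)⁻¹) :=
    congrArg Subtype.val hc.eq
  have h2 : g⁻¹ * (x * y) * (g⁻¹)⁻¹ = g⁻¹ * (y * x) * (g⁻¹)⁻¹ := by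
    rw [← conj_mul, ← conj_mul]; exact hc'
  have h3 : x * y = y * x := by
    have := congrArg (fun z => g * z * g⁻¹) h2
    simpa [mul_assoc] using this
  exact h3

/-- **(T3).** -/
theorem t3 [Finite G] {H : Subgroup G} (hsolv : Group.IsSolvable ↥(sigmaCore H))
    (hHall : ∃ Hn : Subgroup G, IsPiHallOf {q | q.Prime ∧ q ∉ beta H} Hn (sigmaCore H) ∧
      Group.IsNilpotent ↥Hn)
    {p q : ℕ} [hp : Fact p.Prime] [hq : Fact q.Prime] (hpq : p ≠ q)
    (hpβ : p ∉ beta H) (hqβ : q ∉ beta H) {A D : Subgroup G}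
    (hA : IsPGroup p A) (hAH : A ≤ sigmaCore H) (hD : IsPGroup q D) (hDH : D ≤ H)
    (hDA : A ≤ normalizer (D : Set G)) : A ≤ centralizer (D : Set G) := by
  obtain ⟨Hn, ⟨hHnle, hHnπ, hHnidx⟩, hHnnil⟩ := hHall
  set Hs := sigmaCore H with hHs
  set W : Subgroup G := ⁅D, A⁆ with hW
  have hWD : W ≤ D := Cfsg.Agent.Lib.Helper24.commutator_le_of_le_normalizer D A hDA
  have hWq : IsPGroup q W := hD.to_le hWD
  have hAW : A ≤ normalizer (W : Set G) :=
    Cfsg.Agent.Lib.Helper24.le_normalizer_commutator_right D A hDA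
  have hWs : W ≤ Hs := by
    rw [hW, Subgroup.commutator_le]
    intro d hd a ha
    have h1 : d * a * d⁻¹ ∈ Hs :=
      Cfsg.Agent.Lib.Helper24.BG.sigmaCore_conj_mem H (hDH hd) (hAH ha)
    rw [commutatorElement_def]
    exact Hs.mul_mem h1 (Hs.inv_mem (hAH ha))
  set T : Subgroup G := A ⊔ W with hT
  have hTs : T ≤ Hs := sup_le hAH hWs
  -- the order of T
  have hTdvd : Nat.card T ∣ Nat.card A * Nat.card W :=
    Cfsg.Agent.Lib.Helper23.card_sup_dvd_of_le_normalizer A W hAW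
  obtain ⟨a, ha⟩ := hA.exists_card_eq
  obtain ⟨b, hb⟩ := hWq.exists_card_eq
  -- the Hall data
  set m := Nat.card Hn with hm
  set n := Hn.relIndex Hs with hn
  have hcardHs : Nat.card Hs = m * n := by
    have := Subgroup.relIndex_mul_relIndex (⊥ : Subgroup G) Hn Hs bot_le hHnle
    rw [Subgroup.relIndex_bot_left, Subgroup.relIndex_bot_left] at this
    rw [hm, hn]; exact this.symm
  have hmpos : 0 < m := Nat.card_pos
  have hnpos : 0 < n := by
    rcases Nat.eq_zero_or_pos n with h | h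
    · exfalso
      have : Nat.card Hs = 0 := by rw [hcardHs, h, mul_zero]
      exact Nat.card_pos.ne' this
    · exact h
  have hmn : m.Coprime n := by
    rw [Nat.coprime_iff_gcd_eq_one]
    by_contra hne
    obtain ⟨r, hr, hrd⟩ := Nat.exists_prime_and_dvd hne
    have hrm : r ∣ m := hrd.trans (Nat.gcd_dvd_left m n)
    have hrn : r ∣ n := hrd.trans (Nat.gcd_dvd_right m n)
    exact hHnidx r hr (hHnπ r hr hrm) hrn
  have hpn : ¬ p ∣ n := hHnidx p hp.out ⟨hp.out, hpβ⟩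
  have hqn : ¬ q ∣ n := hHnidx q hq.out ⟨hq.out, hqβ⟩
  have hTn : (Nat.card T).Coprime n := by
    refine Nat.Coprime.coprime_dvd_left hTdvd ?_
    rw [ha, hb]
    refine Nat.Coprime.mul_left ?_ ?_
    · exact Nat.Coprime.pow_left _ ((Nat.Prime.coprime_iff_not_dvd hp.out).2 hpn)
    · exact Nat.Coprime.pow_left _ ((Nat.Prime.coprime_iff_not_dvd hq.out).2 hqn)
  obtain ⟨g, -, hTg⟩ := exists_conj_le_of_solvable Hs hsolv m n hcardHs hmn Hn hHnle rfl T hTs hTn
  -- A centralizes W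
  have hAWc : ∀ x ∈ A, ∀ w ∈ W, Commute x w := by
    intro x hx w hw
    have hxp : x ^ (p ^ a) = 1 := by
      have := pow_card_eq_one' (G := A) (x := ⟨x, hx⟩)
      rw [ha] at this
      exact congrArg Subtype.val this
    have hwq : w ^ (q ^ b) = 1 := by
      have := pow_card_eq_one' (G := W) (x := ⟨w, hw⟩)
      rw [hb] at this
      exact congrArg Subtype.val this
    refine commute_of_le_conj_nilpotent hHnnil g hTg
      (show x ∈ T from (le_sup_left : A ≤ T) hx) (show w ∈ T from (le_sup_right : W ≤ T) hw)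
      hxp hwq ?_
    exact Nat.Coprime.pow _ _ ((Nat.coprime_primes hp.out hq.out).2 hpq)
  -- [D, A, A] = 1
  have hWA : ⁅W, A⁆ = ⊥ := by
    rw [Subgroup.commutator_eq_bot_iff_le_centralizer]
    intro w hw
    rw [Subgroup.mem_centralizer_iff]
    intro x hx
    exact (hAWc x hx w hw).eq
  have hcop : (Nat.card A).Coprime (Nat.card D) := by
    obtain ⟨c, hc⟩ := hD.exists_card_eq
    rw [ha, hc]
    exact Nat.Coprime.pow _ _ ((Nat.coprime_primes hp.out hq.out).2 hpq)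
  have hsolvA : Group.IsSolvable ↥A := by
    have := hA.isNilpotent
    exact IsNilpotent.to_isSolvable
  have hcc := Cfsg.Agent.Lib.Helper24.commutator_commutator_eq A D hDA hcop (Or.inl hsolvA)
  have hW1 : ⁅D, A⁆ = ⊥ := by rw [← hcc]; exact hWA
  rw [Subgroup.commutator_eq_bot_iff_le_centralizer] at hW1
  intro x hx
  rw [Subgroup.mem_centralizer_iff]
  intro d hd
  have := hW1 hd
  rw [Subgroup.mem_centralizer_iff] at this
  exact (this x hx).symm

end Cfsg.Agent.Lib.Helper50.BG117
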