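import Cfsg.Agent.Lib.Helper22.BG1214d
import Cfsg.Agent.Lib.Helper47.BG1217
import Cfsg.Agent.Lib.Helper50.BG117End
import Cfsg.Agent.Lib.Helper23.FitUniqueA
import Cfsg.Agent.Lib.Helper23.TransCore

set_option autoImplicit false
set_option linter.style.haveILetI false
set_option linter.unusedSectionVars false
set_option linter.unusedVariables false

/-!
# Bender–Glauberman Lemma 13.8 (asymmetry), steps (1) and (2)

One side of the configuration: `M ≠ L` maximal, `p ∈ τ₁(M)`, `P ≤ M ⊓ L` of order `p`, `Q` a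
`P`-invariant Sylow `q`-subgroup of `M ⊓ L` on which `P` acts regularly, `N_G(Q) ≤ L`.
-/

namespace Cfsg.Agent.Lib.Helper50.BG138

open Subgroup Cfsg Cfsg.Agent.Lib.Helper33 Cfsg.Agent.Lib.Helper22.BG1214d

universe u

variable {G : Type u} [Group G] [Finite G]

/-- **F2 for a Sylow subgroup of `M` inside `M'`**: `M = M_α N_M(Q)`. -/
theorem f2' (hG : IsMinSimpleOddOrder G) {M : Subgroup G} (hM : IsCoatom M) {q : ℕ}
    [hq : Fact q.Prime] {Q : Subgroup G} (hQle : Q ≤ M) (hQq : IsPGroup q Q)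
    (hQi : ¬ q ∣ Q.relIndex M) (hQc : Q ≤ ⁅M, M⁆) :
    ∀ m ∈ M, ∃ a ∈ alphaCore M, ∃ n ∈ M ⊓ normalizer (Q : Set G), m = a * n := by
  obtain ⟨-, -, -, -, hnil⟩ := Cfsg.Agent.S1405.result hG M hM
  set V₀ : Subgroup ↥M := piCore (alpha M) ↥M with hV₀
  set C : Subgroup ↥M := commutator ↥M with hC
  set S₀ : Subgroup ↥M := Q.subgroupOf M with hS₀
  haveI : C.Normal := by rw [hC, commutator_def]; infer_instance
  haveI : (V₀ ⊔ C).Normal := inferInstance
  have hmapeq : (V₀ ⊔ C).map (QuotientGroup.mk' V₀) = C.map (QuotientGroup.mk' V₀) := by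
    rw [Subgroup.map_sup, QuotientGroup.map_mk'_self, bot_sup_eq]
  have hnil' : Group.IsNilpotent ↥((V₀ ⊔ C).map (QuotientGroup.mk' V₀)) := by
    rw [hmapeq]; exact hnil
  have hS₀C : S₀ ≤ C := by
    intro x hx
    have h1 : (x : G) ∈ ⁅M, M⁆ := hQc (mem_subgroupOf.mp hx)
    rw [← Subgroup.map_subtype_commutator] at h1
    obtain ⟨w, hw, hwx⟩ := h1
    have : w = x := Subtype.ext hwx
    rw [← this]; exact hw
  have hS₀q : IsPGroup q S₀ := hQq.comap_subtype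
  have hidx0 : ¬ q ∣ S₀.index := hQi
  have hidx : ¬ q ∣ S₀.relIndex (V₀ ⊔ C) := fun h =>
    hidx0 (h.trans (Subgroup.relIndex_dvd_index_of_le (hS₀C.trans le_sup_right)))
  haveI hnorm : (V₀ ⊔ S₀).Normal :=
    Cfsg.Agent.Lib.Helper48.Ward.sup_sylow_normal V₀ (V₀ ⊔ C) S₀ hq.out le_sup_left hnil'
      (hS₀C.trans le_sup_right) hS₀q hidx
  have hidx2 : ¬ q ∣ S₀.relIndex (V₀ ⊔ S₀) := fun h =>
    hidx0 (h.trans (Subgroup.relIndex_dvd_index_of_le le_sup_right))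
  intro m hm
  obtain ⟨w, hw, n, hn, hl⟩ := frattini_rel (L := (⊤ : Subgroup ↥M)) (M := V₀ ⊔ S₀) (I := S₀)
    le_top (fun x _ => by
      rw [normalizer_eq_top_iff.mpr hnorm]; exact mem_top x) le_sup_right hS₀q hidx2
    (l := (⟨m, hm⟩ : ↥M)) (mem_top _)
  obtain ⟨v, hv, y, hy, hvy⟩ := Subgroup.mem_sup_of_normal_left.mp hw
  refine ⟨(v : G), ⟨v, hv, rfl⟩, ((y * n : ↥M) : G), ⟨(y * n : ↥M).2, ?_⟩, ?_⟩
  · have hyn : y * n ∈ normalizer (S₀ : Set ↥M) :=
      Subgroup.mul_mem _ (le_normalizer hy) hn.2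
    apply Cfsg.Agent.Lib.Helper21.mem_normalizer_of_conj_le
    intro x hx
    have hxM : x ∈ M := hQle hx
    have h1 : (⟨x, hxM⟩ : ↥M) ∈ S₀ := mem_subgroupOf.mpr hx
    have h2 := (mem_normalizer_iff.mp hyn ⟨x, hxM⟩).mp h1
    exact mem_subgroupOf.mp h2
  · have := congrArg (Subtype.val) hl
    rw [← hvy] at this
    simp only [Subgroup.coe_mul] at this ⊢
    rw [this, mul_assoc]

/-- **F3 for a Sylow subgroup of `M` inside `M'`** whose `M`-normalizer lies in `L ≠ M`. -/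
theorem f3' (hG : IsMinSimpleOddOrder G) {M L : Subgroup G} (hM : IsCoatom M) (hL : IsCoatom L)
    (hne : M ≠ L) {q : ℕ} [hq : Fact q.Prime] {Q : Subgroup G} (hQle : Q ≤ M)
    (hQq : IsPGroup q Q) (hQi : ¬ q ∣ Q.relIndex M) (hQc : Q ≤ ⁅M, M⁆)
    (hNQ : M ⊓ normalizer (Q : Set G) ≤ L) :
    q ∉ alpha M ∧ (∀ s : ℕ, s ∈ alpha M → s ∈ beta M) ∧ alphaCore M ≠ ⊥ := by
  have hQL : Q ≤ L := fun x hx => hNQ ⟨hQle hx, le_normalizer hx⟩
  have hqα : q ∉ alpha M := by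
    intro hα
    obtain ⟨A, hAM, hAq, hA⟩ :=
      ((Cfsg.Agent.Lib.Helper21.not_pRankLE_iff q 2 M).mp hα.2).isPGroup_witness
    obtain ⟨c, hc, hcA⟩ := sylow_sub hQle hQq hQi hAM hAq
    have h1 : cj c A ≤ M := hcA.trans hQle
    have h2 : cj c A ≤ L := hcA.trans hQL
    exact hne (eq_of_rankGT_le hG hM hL hq.out (hA.conj c) h1 h2)
  refine ⟨hqα, ?_, ?_⟩
  · intro s hsα
    by_contra hsβ
    haveI : Fact s.Prime := ⟨hsα.1⟩
    obtain ⟨A, hAM, hAs, hA⟩ :=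
      ((Cfsg.Agent.Lib.Helper21.not_pRankLE_iff s 2 M).mp hsα.2).isPGroup_witness
    have hA1 : A ≠ ⊥ := by
      rintro rfl
      obtain ⟨B, hB, -, -, hlt⟩ := hA
      have hB' : B = ⊥ := le_bot_iff.mp hB
      rw [hB', Subgroup.card_bot] at hlt
      have := hsα.1.pos
      have : 1 ≤ s ^ 2 := Nat.one_le_pow _ _ this
      omega
    have hsd : s ∣ Nat.card M :=
      (dvd_card_of_isPGroup_ne_bot hAs hA1).trans (Subgroup.card_dvd_of_le hAM)
    have hsq : s ≠ q := fun h => hqα (h ▸ hsα)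
    obtain ⟨hnpc, -, -⟩ := (Cfsg.Agent.S1414.result hG M hM).2.2.2.2 s hsα.1 hsd hsβ
    obtain ⟨C, hCH, hHC, hCcop, k, hCk⟩ := Cfsg.Agent.Lib.Helper68.BG1215.npc_data hnpc
    have hM'M : ⁅M, M⁆ ≤ M := Subgroup.commutator_le_self M
    have hCM : C ≤ M := hCH.trans hM'M
    have hQC : Q ≤ C := by
      refine Cfsg.Agent.Lib.Helper68.BG1215.le_of_isPGroup_of_not_dvd hCH hHC hQc hQq ?_
      rw [hCk]
      intro h
      exact hsq ((Nat.prime_dvd_prime_iff_eq hq.out hsα.1).mp (hq.out.dvd_of_dvd_pow h)).symm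
    have hMC : M ≤ normalizer (C : Set G) := by
      intro m hm
      apply Cfsg.Agent.Lib.Helper21.mem_normalizer_of_conj_le
      have hle : cj m C ≤ C := by
        refine Cfsg.Agent.Lib.Helper68.BG1215.le_of_coprime_relIndex hCH hHC ?_ ?_
        · intro y hy
          obtain ⟨c, hc, rfl⟩ := mem_cj'.mp hy
          have : (MulAut.conj m) c ∈ ⁅M, M⁆ := by
            have hnorm : (⁅M, M⁆ : Subgroup G).map (MulAut.conj m).toMonoidHom = ⁅M, M⁆ := by
              rw [Subgroup.map_commutator]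
              have hmm : M.map (MulAut.conj m).toMonoidHom = M :=
                cj_eq_self_iff.mpr (le_normalizer hm)
              rw [hmm]
            rw [← hnorm]
            exact Subgroup.mem_map_of_mem _ (hCH hc)
          simpa using this
        · rw [card_cj, hCk]
          exact Nat.Coprime.pow_right k hCcop
      intro x hx
      exact hle (mem_cj'.mpr ⟨x, hx, rfl⟩)
    have hQiC : ¬ q ∣ Q.relIndex C := fun h =>
      hQi (h.trans (Dvd.intro _ (Subgroup.relIndex_mul_relIndex Q C M hQC hCM)))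
    have hprod : ∀ x ∈ M, ∃ c ∈ C, ∃ t ∈ M ⊓ normalizer (Q : Set G), x = c * t := by
      intro x hx
      obtain ⟨c, hc, n, hn, hxe⟩ := frattini_rel hCM hMC hQC hQq hQiC hx
      exact ⟨c, hc, n, hn, hxe⟩
    have hcop : (Nat.card C).Coprime (Nat.card A) := by
      obtain ⟨j, hj⟩ := IsPGroup.iff_card.mp hAs
      rw [hj]
      exact Nat.Coprime.pow_right j hCcop
    haveI : Group.IsSolvable ↥A := by
      haveI := hAs.isNilpotent
      infer_instance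
    obtain ⟨a, ha, haA⟩ :=
      conj_into_supplement hCM hMC inf_le_left hprod hAM hcop (Or.inr inferInstance)
    have h1 : cj a A ≤ M := by
      have := cj_mono (g := a) hAM
      rwa [cj_eq_self_iff.mpr (le_normalizer (hCM ha))] at this
    exact hne (eq_of_rankGT_le hG hM hL hsα.1 (hA.conj a) h1 (haA.trans hNQ))
  · intro hbot
    have hML : M ≤ L := by
      intro m hm
      obtain ⟨a, ha, n, hn, rfl⟩ := f2' hG hM hQle hQq hQi hQc m hm
      rw [hbot, Subgroup.mem_bot] at ha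
      rw [ha, one_mul]
      exact hNQ hn
    rcases eq_or_lt_of_le hML with h | h
    · exact hne h
    · exact hL.1 (hM.2 L h)

/-- a group of prime order is commutative: `P ≤ C_G(P)` -/
theorem le_centralizer_self_of_card_prime {p : ℕ} [hp : Fact p.Prime] {P : Subgroup G}
    (hP : Nat.card P = p) : P ≤ centralizer (P : Set G) := by
  haveI : IsCyclic ↥P := isCyclic_of_prime_card hP
  intro x hx y hy
  obtain ⟨g, hg⟩ := IsCyclic.exists_generator (α := ↥P)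
  obtain ⟨m, hm⟩ := Subgroup.mem_zpowers_iff.mp (hg ⟨x, hx⟩)
  obtain ⟨n, hn⟩ := Subgroup.mem_zpowers_iff.mp (hg ⟨y, hy⟩)
  have h := (Commute.zpow_zpow_self g n m).eq
  rw [hm, hn] at h
  exact congrArg Subtype.val h

/-- **One side of the asymmetry configuration** (B&G 13.8, step (1)). -/
theorem asym_side (hG : IsMinSimpleOddOrder G) {M L : Subgroup G} (hM : IsCoatom M)
    (hL : IsCoatom L) (hne : M ≠ L) {p q : ℕ} [hp : Fact p.Prime] [hq : Fact q.Prime]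
    (hp1 : p ∈ tau1 M) {P Q : Subgroup G} (hP : Nat.card P = p) (hPB : P ≤ M ⊓ L)
    (hQB : Q ≤ M ⊓ L) (hQq : IsPGroup q Q) (hQs : ¬ q ∣ Q.relIndex (M ⊓ L))
    (hPQ : P ≤ normalizer (Q : Set G)) (hreg : Q ⊓ centralizer (P : Set G) = ⊥)
    (hNQ : normalizer (Q : Set G) ≤ L) :
    ¬ q ∣ Q.relIndex M ∧ q ≠ p ∧ Q ≤ ⁅Q, P⁆ ∧ q ∉ alpha M ∧
      (∀ s : ℕ, s ∈ alpha M → s ∈ beta M) ∧
      alphaCore M ⊓ centralizer (P : Set G) ≠ ⊥ ∧
      alphaCore M ⊓ centralizer ((Q ⊔ P : Subgroup G) : Set G) = ⊥ ∧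
      ∀ m ∈ M, ∃ a ∈ alphaCore M, ∃ b ∈ M ⊓ L, m = a * b := by
  have hQM : Q ≤ M := hQB.trans inf_le_left
  have hPM : P ≤ M := hPB.trans inf_le_left
  have hQ1 : Q ≠ ⊥ := by
    rintro rfl
    have : normalizer (((⊥ : Subgroup G) : Subgroup G) : Set G) = ⊤ :=
      normalizer_eq_top_iff.mpr inferInstance
    rw [this] at hNQ
    exact hL.1 (top_le_iff.mp hNQ)
  -- `Q` is a Sylow subgroup of `M`
  have hSyl : ¬ q ∣ Q.relIndex M := by
    intro h
    obtain ⟨x, hxM, hxN, hxQ, hT⟩ :=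
      Cfsg.Agent.Lib.Helper23.exists_normalizing_of_dvd_relIndex hQM hQq h
    have hTB : Q ⊔ Subgroup.zpowers x ≤ M ⊓ L :=
      sup_le hQB ((Subgroup.zpowers_le).mpr ⟨hxM, hNQ hxN⟩)
    have hle := Cfsg.Agent.Lib.Helper50.BG117.le_of_sylow_le (le_sup_left) hTB hT hQs
    exact hxQ (hle (Subgroup.mem_sup_right (Subgroup.mem_zpowers x)))
  -- `q ≠ p`
  have hqp : q ≠ p := by
    rintro rfl
    have hd := Cfsg.Agent.Lib.Helper23.card_sup_dvd_of_le_normalizer P Q hPQ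
    obtain ⟨k, hk⟩ := IsPGroup.iff_card.mp hQq
    rw [hP, hk, ← pow_succ'] at hd
    obtain ⟨j, -, hj⟩ := (Nat.dvd_prime_pow hp.out).1 hd
    have hT : IsPGroup q ↥(P ⊔ Q) := IsPGroup.of_card hj
    have hTB : P ⊔ Q ≤ M ⊓ L := sup_le hPB hQB
    have hle := Cfsg.Agent.Lib.Helper50.BG117.le_of_sylow_le (le_sup_right) hTB hT hQs
    have hPQ' : P ≤ Q := le_sup_left.trans hle
    have hPbot : P ≤ ⊥ := hreg ▸ le_inf hPQ' (le_centralizer_self_of_card_prime hP)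
    have : P = ⊥ := le_bot_iff.mp hPbot
    rw [this, Subgroup.card_bot] at hP
    exact hp.out.one_lt.ne hP
  have hcop : (Nat.card P).Coprime (Nat.card Q) := by
    rw [hP]
    obtain ⟨k, hk⟩ := IsPGroup.iff_card.mp hQq
    rw [hk]
    exact Nat.Coprime.pow_right _ ((Nat.coprime_primes hp.out hq.out).mpr (Ne.symm hqp))
  have hsolv : Group.IsSolvable P ∨ Group.IsSolvable Q := by
    right
    haveI := hQq.isNilpotent
    infer_instance
  have hcomm : Q ≤ ⁅Q, P⁆ := by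
    have h := Cfsg.Agent.Lib.Helper24.commutator_sup_centralizer_eq P Q hPQ hcop hsolv
    rw [hreg, sup_bot_eq] at h
    exact h.ge
  have hQc : Q ≤ ⁅M, M⁆ := hcomm.trans (Subgroup.commutator_mono hQM hPM)
  have hNQ' : M ⊓ normalizer (Q : Set G) ≤ L := inf_le_right.trans hNQ
  obtain ⟨hqα, hαβ, hα1⟩ := f3' hG hM hL hne hQM hQq hSyl hQc hNQ'
  have hnu : ∃ L' : Subgroup G, IsCoatom L' ∧ L' ≠ M ∧ M ⊓ centralizer (Q : Set G) ≤ L' :=
    ⟨L, hL, Ne.symm hne, inf_le_right.trans ((Subgroup.centralizer_le_normalizer _).trans hNQ)⟩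
  have h1 := Cfsg.Agent.Lib.Helper47.BG12.bg_12_17_a hG hM hp1.2.1 hp1.2.2.2.2 hPM hP hQM hQq
    hqα hPQ hreg hnu
  have h2 := Cfsg.Agent.Lib.Helper47.BG12.bg_12_17_a_ne hG hM hPM hP hQM hQq hqα
    (Cfsg.Agent.Lib.Helper47.BG12.t_not_alpha hp1.2.2.2.2) hPQ hreg hnu hα1
  refine ⟨hSyl, hqp, hcomm, hqα, hαβ, h2, h1, ?_⟩
  intro m hm
  obtain ⟨a, ha, n, hn, rfl⟩ := f2' hG hM hQM hQq hSyl hQc m hm
  exact ⟨a, ha, n, ⟨hn.1, hNQ hn.2⟩, rfl⟩

/-- **Regularity** (B&G 13.8, step (2)): `P` acts regularly on `M_α ∩ L`.  Here `Q = [Q, P] ≤ M ⊓ L`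
is a `q`-group with `q ∉ α(M)` and `C_{M_α}(QP) = 1`; `α(M) ∩ α(L) = ∅`. -/
theorem asym_reg (hG : IsMinSimpleOddOrder G) {M L : Subgroup G} (hM : IsCoatom M)
    (hL : IsCoatom L) (hdisj : ∀ u : ℕ, u ∈ alpha M → u ∈ alpha L → False)
    {q : ℕ} [hq : Fact q.Prime] {P Q : Subgroup G} (hPL : P ≤ L) (hQL : Q ≤ L) (hQM : Q ≤ M)
    (hQq : IsPGroup q Q) (hcomm : Q ≤ ⁅Q, P⁆) (hqα : q ∉ alpha M)
    (hreg2 : alphaCore M ⊓ centralizer ((Q ⊔ P : Subgroup G) : Set G) = ⊥) :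
    (alphaCore M ⊓ L) ⊓ centralizer (P : Set G) = ⊥ := by
  obtain ⟨⟨-, hαLπ, -⟩, -, -, -, hnil⟩ := Cfsg.Agent.S1405.result hG L hL
  obtain ⟨⟨-, hαMπ, -⟩, -, -, -, -⟩ := Cfsg.Agent.S1405.result hG M hM
  set F : Subgroup G := alphaCore M ⊓ L with hF
  -- the normal subgroup `T` of `L`
  set V₀ : Subgroup ↥L := piCore (alpha L) ↥L with hV₀
  set C : Subgroup ↥L := commutator ↥L with hC
  haveI : C.Normal := by rw [hC, commutator_def]; infer_instance
  haveI : (V₀ ⊔ C).Normal := inferInstance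
  have hmapeq : (V₀ ⊔ C).map (QuotientGroup.mk' V₀) = C.map (QuotientGroup.mk' V₀) := by
    rw [Subgroup.map_sup, QuotientGroup.map_mk'_self, bot_sup_eq]
  have hnil' : Group.IsNilpotent ↥((V₀ ⊔ C).map (QuotientGroup.mk' V₀)) := by
    rw [hmapeq]; exact hnil
  have hQc : Q ≤ ⁅L, L⁆ := hcomm.trans (Subgroup.commutator_mono hQL hPL)
  set Q' : Subgroup ↥L := Q.subgroupOf L with hQ'
  have hQ'C : Q' ≤ C := by
    intro x hx
    have h1 : (x : G) ∈ ⁅L, L⁆ := hQc (mem_subgroupOf.mp hx)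
    rw [← Subgroup.map_subtype_commutator] at h1
    obtain ⟨w, hw, hwx⟩ := h1
    have : w = x := Subtype.ext hwx
    rw [← this]; exact hw
  have hQ'R : Q' ≤ V₀ ⊔ C := hQ'C.trans le_sup_right
  have hQ''q : IsPGroup q ↥(Q'.subgroupOf (V₀ ⊔ C)) := (hQq.comap_subtype).comap_subtype
  obtain ⟨S'', hS''⟩ := hQ''q.exists_le_sylow
  obtain ⟨hS₀R, hS₀q, hS₀i⟩ := Cfsg.Agent.Lib.Helper24.sylow_map_facts (V₀ ⊔ C) S''
  set S₀ : Subgroup ↥L := (S'' : Subgroup ↥(V₀ ⊔ C)).map (V₀ ⊔ C).subtype with hS₀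
  have hQ'S₀ : Q' ≤ S₀ := by
    intro x hx
    exact ⟨⟨x, hQ'R hx⟩, hS'' (mem_subgroupOf.mpr hx), rfl⟩
  haveI hnorm : (V₀ ⊔ S₀).Normal :=
    Cfsg.Agent.Lib.Helper48.Ward.sup_sylow_normal V₀ (V₀ ⊔ C) S₀ hq.out le_sup_left hnil'
      hS₀R hS₀q hS₀i
  set T : Subgroup G := (V₀ ⊔ S₀).map L.subtype with hT
  have hLT : L ≤ normalizer (T : Set G) :=
    Cfsg.Agent.Lib.Helper19.BG124.le_normalizer_map_of_normal L (V₀ ⊔ S₀)
  have hQT : Q ≤ T := by
    intro x hx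
    exact ⟨⟨x, hQL hx⟩, Subgroup.mem_sup_right (hQ'S₀ (mem_subgroupOf.mpr hx)), rfl⟩
  -- `|T|` is an `(α(L) ∪ {q})`-number
  have hTcard : ∀ u : ℕ, u.Prime → u ∣ Nat.card T → u ∈ alpha L ∨ u = q := by
    intro u hu hd
    have h1 : Nat.card T = Nat.card ↥(V₀ ⊔ S₀) :=
      Nat.card_congr (Subgroup.equivMapOfInjective _ _ L.subtype_injective).symm.toEquiv
    rw [h1] at hd
    have h2 : Nat.card ↥(V₀ ⊔ S₀) ∣ Nat.card V₀ * Nat.card S₀ := by
      rw [sup_comm, mul_comm]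
      exact Cfsg.Agent.Lib.Helper23.card_sup_dvd_of_le_normalizer S₀ V₀
        (by rw [normalizer_eq_top_iff.mpr inferInstance]; exact le_top)
    rcases (Nat.Prime.dvd_mul hu).mp (hd.trans h2) with h | h
    · left
      apply hαLπ u hu
      have h3 : Nat.card (alphaCore L) = Nat.card V₀ :=
        Nat.card_congr (Subgroup.equivMapOfInjective _ _ L.subtype_injective).symm.toEquiv
      rw [h3]; exact h
    · right
      obtain ⟨k, hk⟩ := IsPGroup.iff_card.mp hS₀q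
      rw [hk] at h
      exact (Nat.prime_dvd_prime_iff_eq hu hq.out).mp (hu.dvd_of_dvd_pow h)
  have hFT : F ⊓ T = ⊥ := by
    apply (Subgroup.disjoint_of_coprime_natCard _).eq_bot
    apply Nat.coprime_of_dvd
    intro u hu huF huT
    have huα : u ∈ alpha M :=
      hαMπ u hu (huF.trans (Subgroup.card_dvd_of_le inf_le_left))
    rcases hTcard u hu huT with h | h
    · exact hdisj u huα h
    · exact hqα (h ▸ huα)
  -- `Q` normalizes `F`
  have hMα : M ≤ normalizer ((alphaCore M : Subgroup G) : Set G) :=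
    Cfsg.Agent.Lib.Helper19.BG124.le_normalizer_map_of_normal M (piCore (alpha M) ↥M)
  have hQF : Q ≤ normalizer (F : Set G) := by
    intro g hg
    have h1 := hMα (hQM hg)
    have h2 : g ∈ normalizer (L : Set G) := le_normalizer (hQL hg)
    rw [mem_normalizer_iff] at h1 h2 ⊢
    intro x
    rw [hF, Subgroup.mem_inf, Subgroup.mem_inf, h1 x, h2 x]
  have h1 : ⁅F, Q⁆ ≤ F := Cfsg.Agent.Lib.Helper24.commutator_le_of_le_normalizer F Q hQF
  have h2 : ⁅F, Q⁆ ≤ T := by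
    rw [Subgroup.commutator_comm]
    exact (Subgroup.commutator_mono hQT (inf_le_right : F ≤ L)).trans
      (Cfsg.Agent.Lib.Helper24.commutator_le_of_le_normalizer T L hLT)
  have h3 : ⁅F, Q⁆ = ⊥ := le_bot_iff.mp (hFT ▸ le_inf h1 h2)
  have hFQ : F ≤ centralizer (Q : Set G) := Subgroup.commutator_eq_bot_iff_le_centralizer.mp h3
  rw [eq_bot_iff, ← hreg2]
  refine le_inf (inf_le_left.trans inf_le_left) ?_
  rw [Subgroup.le_centralizer_iff]
  exact sup_le (Subgroup.le_centralizer_iff.mp (inf_le_left.trans hFQ))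
    (Subgroup.le_centralizer_iff.mp inf_le_right)

end Cfsg.Agent.Lib.Helper50.BG138
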