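import Mathlib
import Cfsg.Prelude.Def_OddOrderLocal
import Cfsg.Agent.S1354
import Cfsg.Agent.S1355
import Cfsg.Agent.S1364
import Cfsg.Agent.S1365
import Cfsg.Agent.S1366
import Cfsg.Agent.S1368
import Cfsg.Agent.S1370
import Cfsg.Agent.Lib.Helper24.BG121
import Cfsg.Agent.Lib.Helper47.BG11e
import Cfsg.Agent.Lib.Helper47.BG11a
import Cfsg.Agent.Lib.Helper63.BG13a
import Cfsg.Agent.Lib.Helper23.TypeP
import Cfsg.Agent.Lib.Helper24.BG152A
import Cfsg.Agent.Lib.Helper24.BG152C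
import Cfsg.Agent.Lib.Helper50.TildeConj
import Cfsg.Agent.Lib.Helper24.BG152G
import Cfsg.Agent.Lib.Helper24.Coprime
import Cfsg.Agent.Lib.Helper23.LargeFitA
import Cfsg.Agent.Lib.Helper23.FitUniqueB
import Cfsg.Agent.S1360
import Cfsg.Agent.S1372
import Cfsg.Agent.S1357
import Cfsg.Agent.Lib.Helper21.RelCompl
import Cfsg.Agent.Lib.Helper50.BG156

set_option autoImplicit false
set_option linter.style.haveILetI false
set_option linter.unusedSectionVars false
set_option linter.unusedVariables false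

/-!
# Type-P data of a maximal subgroup with `κ(M) ≠ ∅` (assembly for B&G Theorems II, III/IV)

For a maximal subgroup `M = K U M_σ` of a minimal simple group of odd order with `K ≠ 1`, and a
nilpotent `K`-invariant complement `U'` of `M_F` in `M'`, the quadruple `(M, K, U', K*)`,
`K* = C_{M_σ}(K)`, is type-P data in the sense of `IsTypePWith`.  The conclusion of B&G Theorem 15.2(a)
(`M'' ≤ F(M) = C_M(M_F) M_F ≤ M'`) is taken as a hypothesis.
-/

namespace Cfsg.Agent.Lib.Helper50.BGTypes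

open Subgroup Cfsg

universe u

variable {G : Type u} [Group G]

/-- elements of `N ⊔ H` are products `n * h` when `H` normalizes `N` -/
theorem exists_mul_of_sup {N H : Subgroup G} (hHN : H ≤ normalizer (N : Set G)) {u : G}
    (hu : u ∈ N ⊔ H) : ∃ n ∈ N, ∃ h ∈ H, u = n * h := by
  rw [Subgroup.sup_eq_closure] at hu
  induction hu using Subgroup.closure_induction with
  | mem x hx =>
    rcases hx with hx | hx
    · exact ⟨x, hx, 1, H.one_mem, by simp⟩
    · exact ⟨1, N.one_mem, x, hx, by simp⟩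
  | one => exact ⟨1, N.one_mem, 1, H.one_mem, by simp⟩
  | mul x y _ _ hx hy =>
    obtain ⟨n₁, hn₁, h₁, hh₁, rfl⟩ := hx
    obtain ⟨n₂, hn₂, h₂, hh₂, rfl⟩ := hy
    refine ⟨n₁ * (h₁ * n₂ * h₁⁻¹), N.mul_mem hn₁ ((mem_normalizer_iff.1 (hHN hh₁) n₂).1 hn₂),
      h₁ * h₂, H.mul_mem hh₁ hh₂, by group⟩
  | inv x _ hx =>
    obtain ⟨n, hn, h, hh, rfl⟩ := hx
    refine ⟨h⁻¹ * n⁻¹ * h⁻¹⁻¹, (mem_normalizer_iff.1 (hHN (H.inv_mem hh)) n⁻¹).1 (N.inv_mem hn),
      h⁻¹, H.inv_mem hh, by group⟩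

/-- elements of `H ⊔ N` are products `h * n` when `H` normalizes `N` -/
theorem exists_mul_of_sup' {N H : Subgroup G} (hHN : H ≤ normalizer (N : Set G)) {u : G}
    (hu : u ∈ H ⊔ N) : ∃ h ∈ H, ∃ n ∈ N, u = h * n := by
  rw [sup_comm] at hu
  obtain ⟨n, hn, h, hh, rfl⟩ := exists_mul_of_sup hHN hu
  refine ⟨h, hh, h⁻¹ * n * h⁻¹⁻¹, (mem_normalizer_iff.1 (hHN (H.inv_mem hh)) n).1 hn, by group⟩

/-- a subgroup whose order has no prime divisor is trivial -/
theorem eq_bot_of_no_prime [Finite G] {H : Subgroup G}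
    (h : ∀ p : ℕ, p.Prime → ¬ p ∣ Nat.card H) : H = ⊥ :=
  Subgroup.card_eq_one.1 (Nat.eq_one_iff_not_exists_prime_dvd.2 h)

variable [Finite G]

/-- `K ∩ M_σ = 1` for a `κ(M)`-subgroup `K` -/
theorem inf_sigmaCore_eq_bot {M K : Subgroup G}
    (hK : ∀ p : ℕ, p.Prime → p ∣ Nat.card K → p ∈ kappa M) : K ⊓ sigmaCore M = ⊥ := by
  apply eq_bot_of_no_prime
  intro p hp hd
  have h1 : p ∈ kappa M := hK p hp (hd.trans (Subgroup.card_dvd_of_le inf_le_left))
  have h2 : p ∈ sigma M := Cfsg.Agent.Lib.Helper24.BG.mem_sigma_of_dvd_card_sigmaCore M hp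
    (hd.trans (Subgroup.card_dvd_of_le inf_le_right))
  exact h1.2.2.1 h2

/-- a Hall `π`-subgroup in the sense of `IsPiHallOf` has order prime to its index -/
theorem coprime_of_isPiHallOf {π : Set ℕ} {K M : Subgroup G} (h : IsPiHallOf π K M) :
    (Nat.card K).Coprime (K.relIndex M) :=
  Nat.coprime_of_dvd fun p hp hd => h.2.2 p hp (h.2.1 p hp hd)

/-- `M_σ ≤ M` -/
theorem sigmaCore_le' (M : Subgroup G) : sigmaCore M ≤ M := by
  rintro _ ⟨y, -, rfl⟩; exact y.2

/-- **normalizers of nilpotent Hall subgroups inside `M_σ`**: a nontrivial nilpotent subgroup `V` of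
`M_σ` whose order is prime to its index in `M` has `N_G(V) ≤ M`. -/
theorem normalizer_le_of_hall {M V : Subgroup G} (hVs : V ≤ sigmaCore M) (hV1 : V ≠ ⊥)
    (hVn : Group.IsNilpotent V) (hVh : (Nat.card V).Coprime (V.relIndex M)) :
    normalizer (V : Set G) ≤ M := by
  have hc : Nat.card V ≠ 1 := fun h => hV1 (Subgroup.card_eq_one.1 h)
  obtain ⟨p, hp, hd⟩ := Nat.exists_prime_and_dvd hc
  haveI : Fact p.Prime := ⟨hp⟩
  have hpσ : p ∈ sigma M := Cfsg.Agent.Lib.Helper24.BG.mem_sigma_of_dvd_card_sigmaCore M hp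
    (hd.trans (Subgroup.card_dvd_of_le hVs))
  have hVM : V ≤ M := hVs.trans (sigmaCore_le' M)
  let P : Sylow p V := default
  have hQV : (P : Subgroup V).map V.subtype ≤ V := by
    rintro _ ⟨y, -, rfl⟩; exact y.2
  have hQp : IsPGroup p ((P : Subgroup V).map V.subtype) := P.isPGroup'.map _
  have hQi : ¬ p ∣ ((P : Subgroup V).map V.subtype).relIndex M := by
    rw [← relIndex_mul_relIndex _ V M hQV hVM]
    intro h
    rcases (Nat.Prime.dvd_mul hp).1 h with h | h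
    · have h1 : ((P : Subgroup V).map V.subtype).relIndex V = (P : Subgroup V).index := by
        show (((P : Subgroup V).map V.subtype).comap V.subtype).index = _
        rw [Subgroup.comap_map_eq_self_of_injective (Subgroup.subtype_injective V)]
      rw [h1] at h
      exact P.not_dvd_index h
    · have := Nat.dvd_gcd hd h
      rw [Nat.Coprime.gcd_eq_one hVh] at this
      exact hp.one_lt.ne' (Nat.dvd_one.1 this)
  have hNQ := Cfsg.Agent.Lib.Helper47.BG11.normalizer_le_of_sigma hpσ (hQV.trans hVM) hQp hQi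
  exact (Cfsg.Agent.Lib.Helper63.BG13.le_normalizer_sylow_of_nilpotent le_rfl hVn P).trans hNQ

/-- `|H| · |K : H| = |K|` for `H ≤ K` -/
theorem card_mul_relIndex' {H K : Subgroup G} (h : H ≤ K) :
    Nat.card H * H.relIndex K = Nat.card K := by
  rw [Subgroup.relIndex, ← Nat.card_congr (Subgroup.subgroupOfEquivOfLe h).toEquiv]
  exact Subgroup.card_mul_index _

/-- **`π(W₁) ⊆ κ(M)`** for type-P data with `W₁` of prime order. -/
theorem mem_kappa_of_typeP (hG : IsMinSimpleOddOrder G) {M W₁ U' W₂ : Subgroup G}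
    (hM : IsCoatom M) (hP : IsTypePWith M W₁ U' W₂) (hpr : (Nat.card W₁).Prime) :
    Nat.card W₁ ∈ kappa M := by
  have h55 := Cfsg.Agent.S1355.result hG M hM
  have hσ : IsPiHallOf (sigma M) (sigmaCore M) M :=
    Cfsg.Agent.Lib.Helper47.BG11.sigmaHallIn_of_coatom hG hM
  haveI : Fact (Nat.card W₁).Prime := ⟨hpr⟩
  have hW₁M : W₁ ≤ M := hP.W₁_compl.2.1
  have hcard : Nat.card ↥⁅M, M⁆ * Nat.card W₁ = Nat.card M :=
    Cfsg.Agent.Lib.Helper23.card_isComplIn hP.W₁_compl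
  have hrel : W₁.relIndex M = Nat.card ↥⁅M, M⁆ := by
    have h1 := card_mul_relIndex' hW₁M
    rw [← hcard, mul_comm] at h1
    exact Nat.eq_of_mul_eq_mul_right hpr.pos h1
  have hcop : (Nat.card W₁).Coprime (Nat.card ↥⁅M, M⁆) := by rw [← hrel]; exact hP.W₁_hall
  have hndvd : ¬ Nat.card W₁ ∣ Nat.card ↥⁅M, M⁆ := (Nat.Prime.coprime_iff_not_dvd hpr).1 hcop
  have hdvdM : Nat.card W₁ ∣ Nat.card M := Subgroup.card_dvd_of_le hW₁M
  refine ⟨hpr, hdvdM, ?_, ?_⟩
  · intro hpσ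
    have h1 : ¬ Nat.card W₁ ∣ (sigmaCore M).relIndex M := hσ.2.2 _ hpr hpσ
    have h2 := card_mul_relIndex' (sigmaCore_le' M)
    rw [← h2] at hdvdM
    rcases (Nat.Prime.dvd_mul hpr).1 hdvdM with h | h
    · exact hndvd (h.trans (Subgroup.card_dvd_of_le h55.2.2.1))
    · exact h1 h
  · intro P
    have hfac : (Nat.card M).factorization (Nat.card W₁) = 1 := by
      rw [← hcard, Nat.factorization_mul (Nat.card_pos.ne') hpr.ne_zero]
      simp [Nat.factorization_eq_zero_of_not_dvd hndvd, hpr.factorization_self]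
    have hPc : Nat.card (P : Subgroup M) = Nat.card W₁ := by
      rw [P.card_eq_multiplicity, hfac, pow_one]
    refine ⟨isCyclic_of_prime_card hPc, ?_⟩
    have hB : IsPGroup (Nat.card W₁) (W₁.subgroupOf M) := by
      apply IsPGroup.of_card (n := 1)
      rw [pow_one]
      exact Nat.card_congr (Subgroup.subgroupOfEquivOfLe hW₁M).toEquiv
    obtain ⟨a, ha⟩ := Cfsg.Agent.Lib.Helper50.exists_conj_mem_sylow P hB
    obtain ⟨⟨w, hw⟩, hw1⟩ := (Subgroup.ne_bot_iff_exists_ne_one).1 hP.W₁_ne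
    obtain ⟨⟨y₀, hy₀⟩, hy₀1⟩ := (Subgroup.ne_bot_iff_exists_ne_one).1 hP.selfNormalizing.2.1
    have hw1' : w ≠ 1 := fun h => hw1 (Subtype.ext h)
    have hy₀1' : y₀ ≠ 1 := fun h => hy₀1 (Subtype.ext h)
    have hwy : w * y₀ = y₀ * w := hP.selfNormalizing.2.2.2.1 w hw y₀ hy₀
    have hy₀σ : y₀ ∈ sigmaCore M := h55.2.1 (hP.W₂_le hy₀).1
    refine ⟨a * ⟨w, hW₁M hw⟩ * a⁻¹, ha _ (Subgroup.mem_subgroupOf.2 hw), ?_,
      (a : G) * y₀ * (a : G)⁻¹, Cfsg.Agent.Lib.Helper24.BG.sigmaCore_conj_mem M a.2 hy₀σ, ?_, ?_⟩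
    · intro h
      apply hw1'
      have h2 : (⟨w, hW₁M hw⟩ : M) = 1 := by
        have := congrArg (fun z => a⁻¹ * z * a) h
        simpa [mul_assoc] using this
      exact congrArg Subtype.val h2
    · intro h
      apply hy₀1'
      have := congrArg (fun z => (a : G)⁻¹ * z * (a : G)) h
      simpa [mul_assoc] using this
    · show ((a : G) * w * (a : G)⁻¹) * ((a : G) * y₀ * (a : G)⁻¹)
        = ((a : G) * y₀ * (a : G)⁻¹) * ((a : G) * w * (a : G)⁻¹)
      calc ((a : G) * w * (a : G)⁻¹) * ((a : G) * y₀ * (a : G)⁻¹)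
          = (a : G) * (w * y₀) * (a : G)⁻¹ := by group
        _ = (a : G) * (y₀ * w) * (a : G)⁻¹ := by rw [hwy]
        _ = ((a : G) * y₀ * (a : G)⁻¹) * ((a : G) * w * (a : G)⁻¹) := by group

/-- the Hall subgroup of `M` in `κ(M)` is nontrivial for type-P data with `W₁` of prime order -/
theorem K_ne_bot_of_typeP (hG : IsMinSimpleOddOrder G) {M K W₁ U' W₂ : Subgroup G}
    (hM : IsCoatom M) (hK : IsPiHallOf (kappa M) K M) (hP : IsTypePWith M W₁ U' W₂)
    (hpr : (Nat.card W₁).Prime) : K ≠ ⊥ := by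
  have hκ := mem_kappa_of_typeP hG hM hP hpr
  intro hK0
  have := hK.2.2 _ hpr hκ
  rw [hK0, Subgroup.relIndex_bot_left] at this
  exact this hκ.2.1

/-- `M` normalizes `M_F` -/
theorem le_normalizer_fittingHallOf' (M : Subgroup G) :
    M ≤ normalizer ((fittingHallOf M : Subgroup G) : Set G) := by
  apply Cfsg.Agent.Lib.Helper50.BG156.le_normalizer_of_conj
  rintro m hm _ ⟨y, hy, rfl⟩
  have hn : (fittingHall ↥M).Normal := inferInstance
  exact ⟨(⟨m, hm⟩ : M) * y * (⟨m, hm⟩ : M)⁻¹, hn.conj_mem y hy ⟨m, hm⟩, by simp⟩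

/-- `M_F` is a Hall subgroup of `M` -/
theorem hall_fittingHallOf (M : Subgroup G) :
    (Nat.card (fittingHallOf M)).Coprime ((fittingHallOf M).relIndex M) := by
  have h := Cfsg.Agent.Lib.Helper23.fittingHall_coprime ↥M
  rw [Cfsg.Agent.Lib.Helper23.card_fittingHallOf]
  have : (fittingHallOf M).relIndex M = (fittingHall ↥M).index := by
    show (((fittingHall ↥M).map M.subtype).comap M.subtype).index = _
    rw [Subgroup.comap_map_eq_self_of_injective (Subgroup.subtype_injective M)]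
  rwa [this]

/-- `(M')_F = M_F`-type statement: a normal Hall subgroup `D` of `M` containing `M_F` has
`D_F = M_F`. -/
theorem fittingHallOf_eq_of_normal_hall {M D : Subgroup G} (hDM : D ≤ M)
    (hMD : M ≤ normalizer (D : Set G)) (hcop : (Nat.card D).Coprime (D.relIndex M))
    (hFD : fittingHallOf M ≤ D) : fittingHallOf D = fittingHallOf M := by
  apply le_antisymm
  · have hQD : fittingHallOf D ≤ D := Cfsg.Agent.Lib.Helper23.fittingHallOf_le D
    apply Cfsg.Agent.Lib.Helper24.BG152.a_le_fittingHallOf (hQD.trans hDM)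
    · intro m hm
      have h1 : Cfsg.Agent.Lib.Helper33.cj m D = D :=
        Cfsg.Agent.Lib.Helper33.cj_eq_self_iff.2 (hMD hm)
      have h2 := Cfsg.Agent.Lib.Helper50.Tilde.fittingHallOf_cj m D
      rw [h1] at h2
      exact Cfsg.Agent.Lib.Helper33.cj_eq_self_iff.1 h2.symm
    · exact Cfsg.Agent.Lib.Helper24.BG152.c_fittingHallOf_isNilpotent D
    · rw [← relIndex_mul_relIndex _ D M hQD hDM]
      apply Nat.Coprime.mul_right (hall_fittingHallOf D)
      exact Nat.Coprime.coprime_dvd_left (Subgroup.card_dvd_of_le hQD) hcop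
  · apply Cfsg.Agent.Lib.Helper24.BG152.a_le_fittingHallOf hFD
    · exact hDM.trans (le_normalizer_fittingHallOf' M)
    · exact Cfsg.Agent.Lib.Helper24.BG152.c_fittingHallOf_isNilpotent M
    · have h := hall_fittingHallOf M
      rw [← relIndex_mul_relIndex _ D M hFD hDM] at h
      exact Nat.Coprime.coprime_mul_right_right h

/-- membership in `fittingHall ↥D` in terms of `fittingHallOf D` -/
theorem mem_fittingHall_iff {D : Subgroup G} {x : D} :
    x ∈ fittingHall ↥D ↔ (x : G) ∈ fittingHallOf D := by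
  constructor
  · intro h; exact ⟨x, h, rfl⟩
  · rintro ⟨y, hy, h⟩
    have : y = x := Subtype.ext h
    rwa [← this]

/-- **Frobenius type**: a solvable subgroup `D` of odd order with `D_F ≠ 1`, an abelian complement
`U ≠ 1` of `D_F` in `D`, and a subgroup `U₀ ≤ U` of the same exponent acting regularly on `D_F`, is of
Frobenius type. -/
theorem typeF_of {D U U₀ : Subgroup G} (hsolv : Group.IsSolvable D) (hodd : Odd (Nat.card D))
    (hH1 : fittingHallOf D ≠ ⊥) (hU1 : U ≠ ⊥) (hc : IsComplIn (fittingHallOf D) U D)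
    (hUab : IsMulCommutative U) (hU₀U : U₀ ≤ U)
    (hexp : Monoid.exponent U₀ = Monoid.exponent U)
    (hreg : ∀ u ∈ U₀, u ≠ 1 → ∀ x ∈ fittingHallOf D, u * x = x * u → x = 1) :
    IsOfTypeF ↥D := by
  have hUD : U ≤ D := hc.2.1
  refine ⟨hsolv, hodd, ?_, ?_, U.subgroupOf D, ?_, ?_, ?_, ?_⟩
  · intro h
    apply hH1
    rw [fittingHallOf, h, Subgroup.map_bot]
  · intro h
    apply hU1
    rw [eq_bot_iff]
    intro u hu
    have h1 : (⟨u, hUD hu⟩ : D) ∈ fittingHall ↥D := by rw [h]; exact mem_top _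
    have h2 : u ∈ fittingHallOf D ⊓ U := ⟨mem_fittingHall_iff.1 h1, hu⟩
    rwa [hc.2.2.1] at h2
  · intro h
    apply hU1
    rw [eq_bot_iff]
    intro u hu
    have h1 : (⟨u, hUD hu⟩ : D) ∈ U.subgroupOf D := Subgroup.mem_subgroupOf.2 hu
    rw [h, mem_bot] at h1
    rw [mem_bot]
    exact congrArg Subtype.val h1
  · apply Subgroup.isComplement'_of_disjoint_and_mul_eq_univ
    · rw [disjoint_iff, eq_bot_iff]
      rintro x ⟨hx1, hx2⟩
      have h2 : (x : G) ∈ fittingHallOf D ⊓ U :=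
        ⟨mem_fittingHall_iff.1 hx1, Subgroup.mem_subgroupOf.1 hx2⟩
      rw [hc.2.2.1, mem_bot] at h2
      rw [mem_bot]
      exact Subtype.ext h2
    · apply Set.eq_univ_of_forall
      intro d
      obtain ⟨a, ha, b, hb, hab⟩ := hc.2.2.2 d d.2
      rw [Set.mem_mul]
      refine ⟨⟨a, hc.1 ha⟩, mem_fittingHall_iff.2 ha, ⟨b, hUD hb⟩, Subgroup.mem_subgroupOf.2 hb, ?_⟩
      exact Subtype.ext hab.symm
  · refine ⟨U.subgroupOf D, le_rfl, Subgroup.le_normalizer, ?_, fun x _ _ => inf_le_left⟩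
    refine ⟨⟨fun a b => ?_⟩⟩
    have := hUab.is_comm.comm (⟨(a : D), Subgroup.mem_subgroupOf.1 a.2⟩ : U)
      ⟨(b : D), Subgroup.mem_subgroupOf.1 b.2⟩
    have h2 : ((a : D) : G) * ((b : D) : G) = ((b : D) : G) * ((a : D) : G) :=
      congrArg Subtype.val this
    exact Subtype.ext (Subtype.ext h2)
  · refine ⟨U₀.subgroupOf D, (fun x hx => Subgroup.mem_subgroupOf.2 (hU₀U (Subgroup.mem_subgroupOf.1 hx))), ?_, ?_⟩
    · rw [Monoid.exponent_eq_of_mulEquiv (Subgroup.subgroupOfEquivOfLe (hU₀U.trans hUD)),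
        Monoid.exponent_eq_of_mulEquiv (Subgroup.subgroupOfEquivOfLe hUD), hexp]
    · intro u hu hu1 x hx hux
      have h1 : ((u : D) : G) ≠ 1 := fun h => hu1 (Subtype.ext h)
      have h2 := hreg u (Subgroup.mem_subgroupOf.1 hu) h1 x (mem_fittingHall_iff.1 hx)
        (congrArg Subtype.val hux)
      exact Subtype.ext h2

/-- a subgroup `V ≤ M'` meeting `M_F` trivially is nilpotent when `M'/M_F` is. -/
theorem isNilpotent_of_compl {M V : Subgroup G} (hVD : V ≤ ⁅M, M⁆)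
    (hVF : fittingHallOf M ⊓ V = ⊥)
    (hnil : Group.IsNilpotent
      ↥((_root_.commutator ↥M).map (QuotientGroup.mk' (fittingHall ↥M)))) :
    Group.IsNilpotent V := by
  have hVM : V ≤ M := hVD.trans (Subgroup.commutator_le_self M)
  have hmem : ∀ v : V, Subgroup.inclusion hVM v ∈ _root_.commutator ↥M := by
    intro v
    have h1 : (v : G) ∈ (_root_.commutator ↥M).map M.subtype := by
      rw [Subgroup.map_subtype_commutator]; exact hVD v.2
    obtain ⟨y, hy, hyv⟩ := h1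
    have : y = Subgroup.inclusion hVM v := Subtype.ext hyv
    rwa [← this]
  let f : V →* ↥((_root_.commutator ↥M).map (QuotientGroup.mk' (fittingHall ↥M))) :=
    ((QuotientGroup.mk' (fittingHall ↥M)).comp (Subgroup.inclusion hVM)).codRestrict _
      (fun v => ⟨_, hmem v, rfl⟩)
  haveI := hnil
  apply Subgroup.isNilpotent_of_ker_le_center f
  intro v hv
  have h1 : f v = 1 := hv
  have h2 : QuotientGroup.mk' (fittingHall ↥M) (Subgroup.inclusion hVM v) = 1 :=
    congrArg Subtype.val h1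
  have h3 : Subgroup.inclusion hVM v ∈ fittingHall ↥M := by
    rwa [QuotientGroup.mk'_apply, QuotientGroup.eq_one_iff] at h2
  have h4 : (v : G) ∈ fittingHallOf M ⊓ V := ⟨⟨_, h3, rfl⟩, v.2⟩
  rw [hVF, mem_bot] at h4
  have : v = 1 := Subtype.ext h4
  rw [this]
  exact Subgroup.one_mem _

section decomp

variable {M K U : Subgroup G}

/-- `U ≤ M` -/
theorem U_le (hKU : IsSigmaDecomposition M K U) : U ≤ M := hKU.compl.1

/-- `U ∩ M_σ = 1` -/
theorem U_inf_sigmaCore (hKU : IsSigmaDecomposition M K U) : U ⊓ sigmaCore M = ⊥ := by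
  rw [eq_bot_iff, ← hKU.compl.2.2.1]
  exact inf_le_inf_left U le_sup_right

/-- `U ∩ K = 1` -/
theorem U_inf_K (hKU : IsSigmaDecomposition M K U) : U ⊓ K = ⊥ := by
  rw [eq_bot_iff, ← hKU.compl.2.2.1]
  exact inf_le_inf_left U le_sup_left

/-- `(U M_σ) ∩ K = 1` -/
theorem sup_inf_K (hKU : IsSigmaDecomposition M K U) : (U ⊔ sigmaCore M) ⊓ K = ⊥ := by
  have hUN : U ≤ normalizer ((sigmaCore M : Subgroup G) : Set G) :=
    (U_le hKU).trans (Cfsg.Agent.Lib.Helper24.BG.le_normalizer_sigmaCore M)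
  have hKs : K ⊓ sigmaCore M = ⊥ := inf_sigmaCore_eq_bot hKU.hall.2.1
  rw [eq_bot_iff]
  rintro g ⟨hg1, hg2⟩
  obtain ⟨u, hu, s, hs, rfl⟩ := exists_mul_of_sup' hUN hg1
  have hu1 : u ∈ U ⊓ (K ⊔ sigmaCore M) := by
    refine ⟨hu, ?_⟩
    have : u = (u * s) * s⁻¹ := by group
    rw [this]
    exact mul_mem (mem_sup_left hg2) (mem_sup_right (inv_mem hs))
  rw [hKU.compl.2.2.1, mem_bot] at hu1
  subst hu1
  rw [one_mul] at hg2 ⊢
  have : s ∈ K ⊓ sigmaCore M := ⟨hg2, hs⟩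
  rwa [hKs] at this

/-- `K` is a complement of `U M_σ` in `M` -/
theorem isComplIn_sup_K (hKU : IsSigmaDecomposition M K U) :
    IsComplIn (U ⊔ sigmaCore M) K M := by
  have hKN : K ≤ normalizer ((sigmaCore M : Subgroup G) : Set G) :=
    hKU.hall.1.trans (Cfsg.Agent.Lib.Helper24.BG.le_normalizer_sigmaCore M)
  refine ⟨sup_le (U_le hKU) (sigmaCore_le' M), hKU.hall.1, sup_inf_K hKU, fun m hm => ?_⟩
  obtain ⟨u, hu, x, hx, rfl⟩ := hKU.compl.2.2.2 m hm
  rw [sup_comm] at hx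
  obtain ⟨s, hs, k, hk, rfl⟩ := exists_mul_of_sup hKN hx
  exact ⟨u * s, mul_mem (mem_sup_left hu) (mem_sup_right hs), k, hk, by group⟩

/-- `M_σ` has a complement `U` in `U M_σ` -/
theorem isComplIn_sigmaCore_U (hKU : IsSigmaDecomposition M K U) :
    IsComplIn (sigmaCore M) U (U ⊔ sigmaCore M) := by
  have hUN : U ≤ normalizer ((sigmaCore M : Subgroup G) : Set G) :=
    (U_le hKU).trans (Cfsg.Agent.Lib.Helper24.BG.le_normalizer_sigmaCore M)
  refine ⟨le_sup_right, le_sup_left, by rw [inf_comm]; exact U_inf_sigmaCore hKU, fun m hm => ?_⟩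
  rw [sup_comm] at hm
  exact exists_mul_of_sup hUN hm

/-- the conclusion of B&G Theorem 15.2(a) (statement S1356) -/
def Concl1356 (M : Subgroup G) : Prop :=
  ⁅⁅M, M⁆, ⁅M, M⁆⁆ ≤ fittingOf M ∧
    fittingOf M = (M ⊓ centralizer ((fittingHallOf M : Subgroup G) : Set G)) ⊔ fittingHallOf M ∧
    ((kappa M).Nonempty → fittingOf M ≤ ⁅M, M⁆)

/-- `κ(M) ≠ ∅` when `K ≠ 1` -/
theorem kappa_nonempty {M K : Subgroup G} (hK : IsPiHallOf (kappa M) K M) (hK1 : K ≠ ⊥) :
    (kappa M).Nonempty := by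
  have hc : Nat.card K ≠ 1 := fun h => hK1 (Subgroup.card_eq_one.1 h)
  obtain ⟨p, hp, hd⟩ := Nat.exists_prime_and_dvd hc
  exact ⟨p, hK.2.1 p hp hd⟩

/-- the normalizer clause of `IsSelfNormalizingCyclic` from a TI-subset with known normalizer -/
theorem normalizer_eq_of_ti {Z : Subgroup G} {T : Set G} (hTZ : T ⊆ (Z : Set G))
    (h1 : (1 : G) ∉ T) (hcomm : ∀ a ∈ Z, ∀ b ∈ Z, a * b = b * a)
    (hTI : IsTISubset T) (hN : normalizer T = Z) {X : Set G} (hX : X ⊆ T) (hXne : X.Nonempty) :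
    normalizer X = Z := by
  apply le_antisymm
  · intro g hg
    by_contra hgZ
    obtain ⟨x, hx⟩ := hXne
    have hgx : g * x * g⁻¹ ∈ X := (mem_set_normalizer_iff.1 hg x).1 hx
    have := hTI g (by rw [hN]; exact hgZ) x (hX hx) (hX hgx)
    exact h1 (this ▸ hX hx)
  · intro g hg
    rw [mem_set_normalizer_iff]
    intro x
    constructor
    · intro hx
      have : g * x * g⁻¹ = x := by
        rw [hcomm g hg x (hTZ (hX hx)), mul_inv_cancel_right]
      rwa [this]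
    · intro hx
      have h2 : g⁻¹ * (g * x * g⁻¹) = (g * x * g⁻¹) * g⁻¹ :=
        hcomm _ (Z.inv_mem hg) _ (hTZ (hX hx))
      have : x = g * x * g⁻¹ := by
        have h3 : x * g⁻¹ = g * x * g⁻¹ * g⁻¹ := by
          rw [← h2]; group
        exact mul_right_cancel h3
      rwa [this]

/-- **type-P data**: for `K ≠ 1` and a nilpotent `K`-invariant complement `U'` of `M_F` in `M'`,
`(K, U', K*)` is type-P data for `M`. -/
theorem typeP_of (hG : IsMinSimpleOddOrder G) {M K U U' : Subgroup G} (hM : IsCoatom M)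
    (hKU : IsSigmaDecomposition M K U) (hK1 : K ≠ ⊥) (h56 : Concl1356 M)
    (hUn : Group.IsNilpotent U') (hUK : K ≤ normalizer (U' : Set G))
    (hUc : IsComplIn (fittingHallOf M) U' ⁅M, M⁆) :
    IsTypePWith M K U' (sigmaCore M ⊓ centralizer (K : Set G)) := by
  have h54 := Cfsg.Agent.S1354.result hG M hM K hKU.cyclic hKU.hall
  have h55 := Cfsg.Agent.S1355.result hG M hM
  have h64 := Cfsg.Agent.S1364.result hG M hM K U hKU hK1
  have h65 := Cfsg.Agent.S1365.result hG M hM K U hKU hK1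
  obtain ⟨Mst, ⟨hMst, hKst, hKstH⟩, -⟩ := Cfsg.Agent.S1366.result hG M hM K U hKU hK1
  have h68 := Cfsg.Agent.S1368.result hG M hM K U hKU hK1 Mst hMst hKst hKstH
  have h70 := Cfsg.Agent.S1370.result hG M hM K U hKU hK1
  set Ks := sigmaCore M ⊓ centralizer (K : Set G) with hKs
  have hcomm : ∀ a ∈ K, ∀ b ∈ Ks, a * b = b * a := fun a ha b hb => hb.2 a ha
  have hKsK : K ⊓ Ks = ⊥ := by
    rw [eq_bot_iff, ← inf_sigmaCore_eq_bot (M := M) hKU.hall.2.1]
    exact inf_le_inf_left K inf_le_left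
  have hcompl : IsComplIn ⁅M, M⁆ K M := by rw [h65.1]; exact isComplIn_sup_K hKU
  have hKNKs : K ≤ normalizer ((Ks : Subgroup G) : Set G) := by
    apply Cfsg.Agent.Lib.Helper50.BG156.le_normalizer_of_conj
    intro k hk x hx
    have : k * x * k⁻¹ = x := by rw [hcomm k hk x hx, mul_inv_cancel_right]
    rwa [this]
  refine
    { W₁_ne := hK1
      W₁_cyclic := hKU.cyclic
      W₁_hall := coprime_of_isPiHallOf hKU.hall
      W₁_compl := hcompl
      U_nilpotent := hUn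
      U_normal := hUK
      U_compl := hUc
      H_not_cyclic := h64.2.2.2
      derived_two_le := ?_
      fitting_eq := ?_
      fitting_le := h56.2.2 (kappa_nonempty hKU.hall hK1)
      W₂_le := le_inf h64.2.2.1 h65.2
      W₂_centralizer := ?_
      selfNormalizing := ?_ }
  · rw [sup_comm, ← h56.2.1]; exact h56.1
  · rw [sup_comm, ← h56.2.1]
  · intro x hx hx1
    apply le_antisymm
    · rintro g ⟨hg1, hg2⟩
      have hgM : g ∈ M ⊓ centralizer ({x} : Set G) := ⟨hcompl.1 hg1, hg2⟩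
      rw [h54.2 hK1 x hx hx1] at hgM
      obtain ⟨k, hk, s, hs, rfl⟩ := exists_mul_of_sup' hKNKs hgM
      have hsM' : s ∈ ⁅M, M⁆ := h55.2.2.1 hs.1
      have hk' : k ∈ ⁅M, M⁆ ⊓ K := by
        refine ⟨?_, hk⟩
        have : k = (k * s) * s⁻¹ := by group
        rw [this]
        exact Subgroup.mul_mem _ hg1 (Subgroup.inv_mem _ hsM')
      rw [hcompl.2.2.1, mem_bot] at hk'
      subst hk'
      rwa [one_mul]
    · intro s hs
      refine Subgroup.mem_inf.2 ⟨h55.2.2.1 hs.1, ?_⟩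
      rw [mem_centralizer_iff]
      intro y hy
      rw [Set.mem_singleton_iff] at hy
      subst hy
      exact hs.2 y hx
  · refine ⟨hK1, h54.1, hKsK, hcomm, h68.2, ?_⟩
    intro X hX hXne
    have hZcomm : ∀ a ∈ K ⊔ Ks, ∀ b ∈ K ⊔ Ks, a * b = b * a := by
      haveI := h68.2
      have hc : IsMulCommutative ↥(K ⊔ Ks) := IsCyclic.isMulCommutative
      intro a ha b hb
      exact congrArg Subtype.val (hc.is_comm.comm (⟨a, ha⟩ : ↥(K ⊔ Ks)) ⟨b, hb⟩)
    exact normalizer_eq_of_ti (Z := K ⊔ Ks) Set.sdiff_subset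
      (fun h => h.2 (Or.inl K.one_mem)) hZcomm h70.1 h70.2 hX hXne

/-- a commutative group is nilpotent -/
theorem isNilpotent_of_comm' {S : Type*} [Group S] (h : IsMulCommutative S) : Group.IsNilpotent S :=
  ⟨⟨1, Subgroup.upperCentralSeries_one_eq_top_iff.mpr h⟩⟩

/-- a subgroup of a nilpotent subgroup is nilpotent -/
theorem isNilpotent_of_le' {K L : Subgroup G} (hKL : K ≤ L) (hL : Group.IsNilpotent L) :
    Group.IsNilpotent K := by
  haveI := hL
  exact Group.nilpotent_of_mulEquiv (Subgroup.subgroupOfEquivOfLe hKL)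

/-- the conclusion of B&G Corollary 15.9 part (statement S1363) -/
def Concl1363 (M U : Subgroup G) : Prop :=
  IsMulCommutative U ∧ ¬ normalizer (U : Set G) ≤ M

/-- `M'` is a normal Hall subgroup of `M` when `K ≠ 1`: coprimality -/
theorem coprime_commutator (hG : IsMinSimpleOddOrder G) {M K U : Subgroup G} (hM : IsCoatom M)
    (hKU : IsSigmaDecomposition M K U) (hK1 : K ≠ ⊥) :
    (Nat.card ↥⁅M, M⁆).Coprime ((⁅M, M⁆ : Subgroup G).relIndex M) := by
  have h65 := Cfsg.Agent.S1365.result hG M hM K U hKU hK1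
  have hc : IsComplIn ⁅M, M⁆ K M := by rw [h65.1]; exact isComplIn_sup_K hKU
  have hcard := Cfsg.Agent.Lib.Helper23.card_isComplIn hc
  have h1 := card_mul_relIndex' hc.1
  have h2 := card_mul_relIndex' hc.2.1
  have hrel : (⁅M, M⁆ : Subgroup G).relIndex M = Nat.card K := by
    rw [← hcard] at h1
    exact Nat.eq_of_mul_eq_mul_left Nat.card_pos h1
  have hrelK : K.relIndex M = Nat.card ↥⁅M, M⁆ := by
    rw [← hcard, mul_comm] at h2
    exact Nat.eq_of_mul_eq_mul_right Nat.card_pos h2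
  rw [hrel, Nat.coprime_comm, ← hrelK]
  exact coprime_of_isPiHallOf hKU.hall

/-- **Type II** from `K ≠ 1`, `U ≠ 1` (given the conclusions of S1356 and S1363). -/
theorem typeII_of (hG : IsMinSimpleOddOrder G) {M K U : Subgroup G} (hM : IsCoatom M)
    (hKU : IsSigmaDecomposition M K U) (hK1 : K ≠ ⊥) (hU1 : U ≠ ⊥) (h56 : Concl1356 M)
    (h63 : Concl1363 M U) : IsOfTypeII M := by
  have h72 := Cfsg.Agent.S1372.result hG M hM K U hKU hK1 hU1
  have h55 := Cfsg.Agent.S1355.result hG M hM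
  have h65 := Cfsg.Agent.S1365.result hG M hM K U hKU hK1
  obtain ⟨U₀, hU₀U, hexp, hU₀⟩ := Cfsg.Agent.S1360.result hG M hM K U hKU
  have hnil : Group.IsNilpotent (sigmaCore M) :=
    isNilpotent_of_le' h72.2.2 (Cfsg.Agent.Lib.Helper23.isNilpotent_fittingOf M)
  have hFσ : fittingHallOf M = sigmaCore M :=
    Cfsg.Agent.Lib.Helper24.BG152.g_fittingHallOf_eq hG hM hnil
  have hUc : IsComplIn (fittingHallOf M) U ⁅M, M⁆ := by
    rw [hFσ, h65.1]; exact isComplIn_sigmaCore_U hKU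
  have hP := typeP_of hG hM hKU hK1 h56 (isNilpotent_of_comm' h63.1) hKU.normal hUc
  have hM'M : ⁅M, M⁆ ≤ M := Subgroup.commutator_le_self M
  have hFF : fittingHallOf ⁅M, M⁆ = fittingHallOf M :=
    fittingHallOf_eq_of_normal_hall hM'M (Cfsg.Agent.Lib.Helper24.le_normalizer_commutator_left M M)
      (coprime_commutator hG hM hKU hK1) (h55.2.1.trans h55.2.2.1)
  refine ⟨K, U, sigmaCore M ⊓ centralizer (K : Set G), hP, hU1, h72.1, h72.2.1, h63.1, h63.2, ?_,
    hFF⟩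
  have hne : (⁅M, M⁆ : Subgroup G) ≠ ⊤ := fun h => hM.1 (top_le_iff.1 (h ▸ hM'M))
  apply typeF_of (U := U) (U₀ := U₀) (Cfsg.Agent.Lib.Helper23.isSolvable_of_ne_top hG hne)
    (Cfsg.Agent.Lib.Helper23.odd_card_subgroup hG _)
  · rw [hFF]; exact h55.1
  · exact hU1
  · rw [hFF]; exact hUc
  · exact h63.1
  · exact hU₀U
  · exact hexp
  · intro u hu hu1 x hx hux
    by_contra hx1
    apply hu1
    apply hU₀ u hu
    rw [hFF, hFσ] at hx
    exact ⟨U_le hKU (hU₀U hu), x, hx, hx1, hux⟩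

/-- a complement of `M_F` in `M'` is a Hall subgroup of `M` (when `K ≠ 1`) -/
theorem hall_of_compl (hG : IsMinSimpleOddOrder G) {M K U U' : Subgroup G} (hM : IsCoatom M)
    (hKU : IsSigmaDecomposition M K U) (hK1 : K ≠ ⊥)
    (hUc : IsComplIn (fittingHallOf M) U' ⁅M, M⁆) :
    (Nat.card U').Coprime (U'.relIndex M) := by
  have hM'M : ⁅M, M⁆ ≤ M := Subgroup.commutator_le_self M
  have hcard := Cfsg.Agent.Lib.Helper23.card_isComplIn hUc
  have h1 := card_mul_relIndex' hUc.2.1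
  have hrel : U'.relIndex ⁅M, M⁆ = Nat.card (fittingHallOf M) := by
    rw [← hcard, mul_comm] at h1
    exact Nat.eq_of_mul_eq_mul_right Nat.card_pos h1
  rw [← relIndex_mul_relIndex _ _ _ hUc.2.1 hM'M, hrel]
  apply Nat.Coprime.mul_right
  · exact (Cfsg.Agent.Lib.Helper23.coprime_card_of_compl M U' ⁅M, M⁆ hM'M hUc).symm
  · exact Nat.Coprime.coprime_dvd_left (Subgroup.card_dvd_of_le hUc.2.1)
      (coprime_commutator hG hM hKU hK1)

/-- **Type II forces `K ≠ 1` and `U ≠ 1`.** -/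
theorem of_typeII (hG : IsMinSimpleOddOrder G) {M K U : Subgroup G} (hM : IsCoatom M)
    (hKU : IsSigmaDecomposition M K U) (h : IsOfTypeII M) : K ≠ ⊥ ∧ U ≠ ⊥ := by
  obtain ⟨W₁, U', W₂, hP, hU'1, hpr, hTI, hab, hN, hF, hFF⟩ := h
  have hK1 := K_ne_bot_of_typeP hG hM hKU.hall hP hpr
  refine ⟨hK1, ?_⟩
  intro hU0
  apply hN
  have h65 := (Cfsg.Agent.S1365.result hG M hM K U hKU hK1).1
  rw [hU0, bot_sup_eq] at h65
  apply normalizer_le_of_hall (h65 ▸ hP.U_compl.2.1) hU'1 hP.U_nilpotent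
  exact hall_of_compl hG hM hKU hK1 hP.U_compl

/-- **Type III or IV** from `K ≠ 1`, `U = 1`, `M_F ≠ M_σ` (given the conclusion of S1356). -/
theorem typeIII_IV_of (hG : IsMinSimpleOddOrder G) {M K U : Subgroup G} (hM : IsCoatom M)
    (hKU : IsSigmaDecomposition M K U) (hK1 : K ≠ ⊥) (hU0 : U = ⊥)
    (hne : fittingHallOf M ≠ sigmaCore M) (h56 : Concl1356 M) :
    IsOfTypeIII M ∨ IsOfTypeIV M := by
  have h57 := Cfsg.Agent.S1357.result hG M hM K U hKU hne
  have h55 := Cfsg.Agent.S1355.result hG M hM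
  have h65 := (Cfsg.Agent.S1365.result hG M hM K U hKU hK1).1
  rw [hU0, bot_sup_eq] at h65
  have hFM : fittingHallOf M ≤ M := Cfsg.Agent.Lib.Helper23.fittingHallOf_le M
  have hFtop : fittingHallOf M ≠ ⊤ := fun h => hM.1 (top_le_iff.1 (h ▸ hFM))
  have hcopK : (Nat.card K).Coprime (Nat.card (fittingHallOf M)) := by
    apply Nat.coprime_of_dvd
    intro p hp hpK hpF
    have h1 : p ∈ kappa M := hKU.hall.2.1 p hp hpK
    have h2 : p ∈ sigma M := Cfsg.Agent.Lib.Helper24.BG.mem_sigma_of_dvd_card_sigmaCore M hp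
      (hpF.trans (Subgroup.card_dvd_of_le h55.2.1))
    exact h1.2.2.1 h2
  obtain ⟨E, hE, hKE⟩ := Cfsg.Agent.Lib.Helper21.exists_compl_ge_of_coprime hFM
    (le_normalizer_fittingHallOf' M) (hall_fittingHallOf M)
    (Or.inl (Cfsg.Agent.Lib.Helper23.isSolvable_of_ne_top hG hFtop)) hKU.hall.1 hcopK
  have hM'M : ⁅M, M⁆ ≤ M := Subgroup.commutator_le_self M
  have hFM' : fittingHallOf M ≤ ⁅M, M⁆ := h55.2.1.trans h55.2.2.1
  have hUc : IsComplIn (fittingHallOf M) (E ⊓ ⁅M, M⁆) ⁅M, M⁆ := by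
    refine ⟨hFM', inf_le_right, ?_, ?_⟩
    · rw [eq_bot_iff, ← hE.2.2.1]
      exact fun x hx => ⟨hx.2.1, hx.1⟩
    · intro m hm
      obtain ⟨e, he, f, hf, hef⟩ := hE.2.2.2 m⁻¹ (M.inv_mem (hM'M hm))
      have hm' : m = f⁻¹ * e⁻¹ := by
        have : m = (e * f)⁻¹ := by rw [← hef, inv_inv]
        rw [this, mul_inv_rev]
      refine ⟨f⁻¹, Subgroup.inv_mem _ hf, e⁻¹, Subgroup.mem_inf.2 ⟨Subgroup.inv_mem _ he, ?_⟩, hm'⟩
      have : e⁻¹ = f * m := by rw [hm']; group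
      rw [this]; exact Subgroup.mul_mem _ (hFM' hf) hm
  have hUK : K ≤ normalizer ((E ⊓ ⁅M, M⁆ : Subgroup G) : Set G) := by
    apply Cfsg.Agent.Lib.Helper50.BG156.le_normalizer_of_conj
    intro k hk x hx
    refine ⟨E.mul_mem (E.mul_mem (hKE hk) hx.1) (E.inv_mem (hKE hk)), ?_⟩
    exact (mem_normalizer_iff.1
      (Cfsg.Agent.Lib.Helper24.le_normalizer_commutator_left M M (hKU.hall.1 hk)) x).1 hx.2
  have hUn : Group.IsNilpotent ↥(E ⊓ ⁅M, M⁆) :=
    isNilpotent_of_compl inf_le_right hUc.2.2.1 h55.2.2.2.2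
  have hP := typeP_of hG hM hKU hK1 h56 hUn hUK hUc
  have hU'1 : E ⊓ ⁅M, M⁆ ≠ ⊥ := by
    intro h0
    apply hne
    apply le_antisymm h55.2.1
    rw [← h65]
    intro m hm
    obtain ⟨a, ha, b, hb, rfl⟩ := hUc.2.2.2 m hm
    rw [h0, mem_bot] at hb
    subst hb; rwa [mul_one]
  have hN : normalizer ((E ⊓ ⁅M, M⁆ : Subgroup G) : Set G) ≤ M :=
    normalizer_le_of_hall (h65 ▸ inf_le_right) hU'1 hUn (hall_of_compl hG hM hKU hK1 hUc)
  by_cases hab : IsMulCommutative ↥(E ⊓ ⁅M, M⁆)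
  · exact Or.inl ⟨K, _, _, hP, hU'1, h57.2.2, h57.2.1, hab, hN⟩
  · exact Or.inr ⟨K, _, _, hP, hU'1, h57.2.2, h57.2.1, hab, hN⟩

/-- **Types III, IV force `K ≠ 1`, `U = 1`, `M_F ≠ M_σ`** (given the conclusion of S1363). -/
theorem of_typeIII_IV (hG : IsMinSimpleOddOrder G) {M K U : Subgroup G} (hM : IsCoatom M)
    (hKU : IsSigmaDecomposition M K U) (h63 : K ≠ ⊥ → Concl1363 M U)
    (h : IsOfTypeIII M ∨ IsOfTypeIV M) :
    K ≠ ⊥ ∧ U = ⊥ ∧ fittingHallOf M ≠ sigmaCore M := by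
  have hdata : ∃ W₁ U' W₂ : Subgroup G, IsTypePWith M W₁ U' W₂ ∧ U' ≠ ⊥ ∧ (Nat.card W₁).Prime ∧
      normalizer (U' : Set G) ≤ M := by
    rcases h with ⟨W₁, U', W₂, hP, h1, h2, -, -, h3⟩ | ⟨W₁, U', W₂, hP, h1, h2, -, -, h3⟩ <;>
      exact ⟨W₁, U', W₂, hP, h1, h2, h3⟩
  obtain ⟨W₁, U', W₂, hP, hU'1, hpr, hN⟩ := hdata
  have hK1 := K_ne_bot_of_typeP hG hM hKU.hall hP hpr
  have h65 := (Cfsg.Agent.S1365.result hG M hM K U hKU hK1).1
  have hM'M : ⁅M, M⁆ ≤ M := Subgroup.commutator_le_self M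
  have hU0 : U = ⊥ := by
    by_contra hU1
    have h72 := Cfsg.Agent.S1372.result hG M hM K U hKU hK1 hU1
    have hnil : Group.IsNilpotent (sigmaCore M) :=
      isNilpotent_of_le' h72.2.2 (Cfsg.Agent.Lib.Helper23.isNilpotent_fittingOf M)
    have hFσ : fittingHallOf M = sigmaCore M :=
      Cfsg.Agent.Lib.Helper24.BG152.g_fittingHallOf_eq hG hM hnil
    have hUc : IsComplIn (fittingHallOf M) U ⁅M, M⁆ := by
      rw [hFσ, h65]; exact isComplIn_sigmaCore_U hKU
    have hne : (⁅M, M⁆ : Subgroup G) ≠ ⊤ := fun h => hM.1 (top_le_iff.1 (h ▸ hM'M))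
    obtain ⟨c, hc, hcj⟩ := Cfsg.Agent.Lib.Helper24.BG152.a_compl_conj
      (Cfsg.Agent.Lib.Helper23.isSolvable_of_ne_top hG hne) hP.U_compl hUc
      (Cfsg.Agent.Lib.Helper23.coprime_card_of_compl M U' ⁅M, M⁆ hM'M hP.U_compl)
    apply (h63 hK1).2
    have h1 := Cfsg.Agent.Lib.Helper33.normalizer_cj c U
    rw [hcj] at h1
    intro g hg
    have h2 : c * g * c⁻¹ ∈ M := hN (by rw [h1]; exact Cfsg.Agent.Lib.Helper33.conj_mem_cj hg)
    have hcM : c ∈ M := hM'M hc
    have : g = c⁻¹ * (c * g * c⁻¹) * c := by group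
    rw [this]; exact M.mul_mem (M.mul_mem (M.inv_mem hcM) h2) hcM
  refine ⟨hK1, hU0, ?_⟩
  intro hFσ
  apply hU'1
  rw [hU0, bot_sup_eq] at h65
  rw [eq_bot_iff, ← hP.U_compl.2.2.1]
  intro x hx
  refine ⟨?_, hx⟩
  rw [hFσ, ← h65]
  exact hP.U_compl.2.1 hx

end decomp

end Cfsg.Agent.Lib.Helper50.BGTypes
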