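import Cfsg.Agent.Lib.Helper50.CD

set_option autoImplicit false

namespace Cfsg.Agent.Lib.Helper50

open Subgroup
open scoped Pointwise

variable {G : Type*} [Group G]

/-- `Z(R)` viewed in the ambient group. -/
def zOf (R : Subgroup G) : Subgroup G := R ⊓ centralizer (R : Set G)

theorem map_center_subtype (R : Subgroup G) :
    (Subgroup.center ↥R).map R.subtype = zOf R := by
  ext x
  constructor
  · rintro ⟨y, hy, rfl⟩
    have hy' : y ∈ Subgroup.center ↥R := hy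
    rw [mem_center_iff] at hy'
    refine ⟨y.2, ?_⟩
    show R.subtype y ∈ centralizer (R : Set G)
    rw [mem_centralizer_iff]
    intro r hr
    exact congrArg Subtype.val (hy' ⟨r, hr⟩)
  · rintro ⟨hx, hc⟩
    have hc' : x ∈ centralizer (R : Set G) := hc
    rw [mem_centralizer_iff] at hc'
    refine ⟨⟨x, hx⟩, ?_, rfl⟩
    show (⟨x, hx⟩ : R) ∈ Subgroup.center ↥R
    rw [mem_center_iff]
    intro r
    apply Subtype.ext
    exact hc' r r.2

theorem card_center_eq (R : Subgroup G) :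
    Nat.card (Subgroup.center ↥R) = Nat.card (zOf R) := by
  rw [← map_center_subtype, card_map_of_injective R.subtype_injective]

theorem zOf_le_centralizer (R : Subgroup G) : zOf R ≤ centralizer (R : Set G) := inf_le_right

theorem zOf_le (R : Subgroup G) : zOf R ≤ R := inf_le_left

theorem clm_le_cdm [Finite G] (R : Subgroup G) :
    Nat.card R * Nat.card (Subgroup.center ↥R) ≤ cdm R := by
  rw [card_center_eq]
  exact Nat.mul_le_mul_left _ (card_le_of_le (zOf_le_centralizer R))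

theorem clm_bddAbove [Finite G] :
    BddAbove {k : ℕ | ∃ R : Subgroup G, Nat.card ↥R * Nat.card ↥(Subgroup.center ↥R) = k} := by
  refine ⟨Cfsg.maxCentralizerProduct G, ?_⟩
  rintro k ⟨R, rfl⟩
  exact (clm_le_cdm R).trans (cdm_le_max R)

theorem clm_le_max [Finite G] (R : Subgroup G) :
    Nat.card R * Nat.card (Subgroup.center ↥R) ≤ Cfsg.maxCentralProduct G :=
  le_csSup clm_bddAbove ⟨R, rfl⟩

/-- If `R` has the largest measure then `R * C(R)` is centrally large with the same measure. -/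
theorem clm_sup_centralizer [Finite G] {R : Subgroup G} (hR : Cfsg.IsCentralizerLarge R) :
    Nat.card (R ⊔ centralizer (R : Set G) : Subgroup G) *
      Nat.card (Subgroup.center ↥(R ⊔ centralizer (R : Set G) : Subgroup G)) =
      Cfsg.maxCentralizerProduct G := by
  obtain ⟨hC, hRC⟩ := cd_centralizer hR
  obtain ⟨-, hsup, -, -, -⟩ := cd_pair hR hC
  rw [isCentralizerLarge_iff] at hsup
  rw [← hsup, card_center_eq]
  unfold cdm
  have h1 : centralizer ((R ⊔ centralizer (R : Set G) : Subgroup G) : Set G) =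
      centralizer (R : Set G) ⊓ R := by
    rw [centralizer_sup_eq, ← hRC]
  have h2 : zOf (R ⊔ centralizer (R : Set G)) =
      centralizer ((R ⊔ centralizer (R : Set G) : Subgroup G) : Set G) := by
    unfold zOf
    rw [h1]
    apply le_antisymm
    · exact inf_le_right
    · exact le_inf (inf_le_right.trans le_sup_left) le_rfl
  rw [h2]

theorem maxCentralProduct_eq [Finite G] :
    Cfsg.maxCentralProduct G = Cfsg.maxCentralizerProduct G := by
  apply le_antisymm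
  · apply csSup_le (s := {k : ℕ | ∃ R : Subgroup G, Nat.card ↥R * Nat.card ↥(Subgroup.center ↥R) = k}) ⟨_, ⟨⊥, rfl⟩⟩
    rintro k ⟨R, rfl⟩
    exact (clm_le_cdm R).trans (cdm_le_max R)
  · obtain ⟨R, hR⟩ := exists_cdm_eq_max (G := G)
    rw [← clm_sup_centralizer ((isCentralizerLarge_iff R).mpr hR)]
    exact clm_le_max _

theorem isCentrallyLarge_iff [Finite G] (Q : Subgroup G) :
    Cfsg.IsCentrallyLarge Q ↔ Cfsg.IsCentralizerLarge Q ∧ centralizer (Q : Set G) ≤ Q := by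
  unfold Cfsg.IsCentrallyLarge
  rw [maxCentralProduct_eq, isCentralizerLarge_iff]
  constructor
  · intro h
    have h1 := clm_le_cdm Q
    have h2 := cdm_le_max Q
    have h3 : cdm Q = Cfsg.maxCentralizerProduct G := le_antisymm h2 (h ▸ h1)
    refine ⟨h3, ?_⟩
    rw [← h3, card_center_eq] at h
    unfold cdm at h
    have h4 : Nat.card (zOf Q) = Nat.card (centralizer (Q : Set G)) :=
      Nat.eq_of_mul_eq_mul_left Nat.card_pos h
    have h5 : zOf Q = centralizer (Q : Set G) :=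
      eq_of_le_of_card_ge (zOf_le_centralizer Q) (le_of_eq h4.symm)
    rw [← h5]
    exact zOf_le Q
  · rintro ⟨h1, h2⟩
    rw [← h1, card_center_eq]
    unfold cdm zOf
    rw [inf_eq_right.mpr h2]

theorem centralizer_eq_zOf_of_cl [Finite G] {Q : Subgroup G} (hQ : Cfsg.IsCentrallyLarge Q) :
    centralizer (Q : Set G) = zOf Q := by
  obtain ⟨-, h⟩ := (isCentrallyLarge_iff Q).mp hQ
  unfold zOf
  rw [inf_eq_right.mpr h]

theorem cl_sup [Finite G] {Q R : Subgroup G} (hQ : Cfsg.IsCentrallyLarge Q)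
    (hR : Cfsg.IsCentrallyLarge R) :
    ((Q ⊔ R : Subgroup G) : Set G) = (Q : Set G) * (R : Set G) ∧ Cfsg.IsCentrallyLarge (Q ⊔ R) := by
  obtain ⟨hQ1, hQ2⟩ := (isCentrallyLarge_iff Q).mp hQ
  obtain ⟨hR1, hR2⟩ := (isCentrallyLarge_iff R).mp hR
  obtain ⟨-, hsup, hset, -, -⟩ := cd_pair hQ1 hR1
  refine ⟨hset, (isCentrallyLarge_iff _).mpr ⟨hsup, ?_⟩⟩
  rw [centralizer_sup_eq]
  exact inf_le_left.trans (hQ2.trans le_sup_left)

theorem exists_cl [Finite G] : ∃ Q : Subgroup G, Cfsg.IsCentrallyLarge Q := by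
  obtain ⟨R, hR⟩ := exists_cdm_eq_max (G := G)
  refine ⟨R ⊔ centralizer (R : Set G), ?_⟩
  unfold Cfsg.IsCentrallyLarge
  rw [maxCentralProduct_eq]
  exact clm_sup_centralizer ((isCentralizerLarge_iff R).mpr hR)

/-- The join of a nonempty family of centrally large subgroups is centrally large. -/
theorem cl_sSup [Finite G] {𝒮 : Set (Subgroup G)} (hne : 𝒮.Nonempty)
    (h : ∀ R ∈ 𝒮, Cfsg.IsCentrallyLarge R) : Cfsg.IsCentrallyLarge (sSup 𝒮) := by
  obtain ⟨R₀, hR₀⟩ := hne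
  let 𝒯 : Set (Subgroup G) := {T | Cfsg.IsCentrallyLarge T ∧ T ≤ sSup 𝒮}
  have h𝒯fin : 𝒯.Finite := Set.toFinite 𝒯
  have h𝒯ne : 𝒯.Nonempty := ⟨R₀, h R₀ hR₀, le_sSup hR₀⟩
  obtain ⟨T₀, hT₀, hmax⟩ := Set.exists_max_image 𝒯 (fun T => Nat.card T) h𝒯fin h𝒯ne
  have hle : sSup 𝒮 ≤ T₀ := by
    apply sSup_le
    intro R hR
    have h1 : Cfsg.IsCentrallyLarge (R ⊔ T₀) := (cl_sup (h R hR) hT₀.1).2
    have h2 : R ⊔ T₀ ∈ 𝒯 := ⟨h1, sup_le (le_sSup hR) hT₀.2⟩
    have h3 := hmax _ h2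
    have h4 : T₀ = R ⊔ T₀ := eq_of_le_of_card_ge le_sup_right h3
    rw [h4]
    exact le_sup_left
  have : sSup 𝒮 = T₀ := le_antisymm hle hT₀.2
  rw [this]
  exact hT₀.1

/-- Below every centrally large subgroup there is a minimal one. -/
theorem exists_mcl_le [Finite G] {Q : Subgroup G} (hQ : Cfsg.IsCentrallyLarge Q) :
    ∃ R : Subgroup G, Cfsg.IsMinimalCentrallyLarge R ∧ R ≤ Q := by
  let 𝒯 : Set (Subgroup G) := {T | Cfsg.IsCentrallyLarge T ∧ T ≤ Q}
  have h𝒯fin : 𝒯.Finite := Set.toFinite 𝒯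
  have h𝒯ne : 𝒯.Nonempty := ⟨Q, hQ, le_rfl⟩
  obtain ⟨T₀, hT₀, hmin⟩ := Set.exists_min_image 𝒯 (fun T => Nat.card T) h𝒯fin h𝒯ne
  refine ⟨T₀, ⟨hT₀.1, ?_⟩, hT₀.2⟩
  intro R' hR' hcl
  have h1 : R' ∈ 𝒯 := ⟨hcl, hR'.trans hT₀.2⟩
  exact eq_of_le_of_card_ge hR' (hmin _ h1)

theorem exists_mcl [Finite G] : ∃ R : Subgroup G, Cfsg.IsMinimalCentrallyLarge R := by
  obtain ⟨Q, hQ⟩ := exists_cl (G := G)
  obtain ⟨R, hR, -⟩ := exists_mcl_le hQ
  exact ⟨R, hR⟩

theorem cl_centrallyLargeJoin [Finite G] : Cfsg.IsCentrallyLarge (Cfsg.centrallyLargeJoin G) :=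
  cl_sSup exists_cl (fun _ h => h)

theorem cl_minimalCentrallyLargeJoin [Finite G] :
    Cfsg.IsCentrallyLarge (Cfsg.minimalCentrallyLargeJoin G) :=
  cl_sSup exists_mcl (fun _ h => h.1)

end Cfsg.Agent.Lib.Helper50
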