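import Mathlib
import Cfsg.Agent.Lib.Helper50.Alperin
import Cfsg.Prelude.Def_Transfer

/-!
# Normal elementary abelian subgroups of order `p⁴` (`p` odd) -- helper50

Tools for: a `p`-group (`p` odd) containing an elementary abelian subgroup of order `p⁴` has a
normal one.
-/

set_option autoImplicit false
set_option linter.unusedSectionVars false

namespace Cfsg.Agent.Lib.Helper50.ElemAbFour

open scoped Pointwise commutatorElement
open Cfsg.Agent.Lib.Helper50.Alperin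

variable {G : Type*} [Group G] [Finite G] {p : ℕ} [hpf : Fact p.Prime]

/-- Counting with commutator fibres: if the commutators `⁅k, a⁆`, `k ∈ K`, lie in `B` and the
elements of `K` commuting with `a` lie in `L`, then `|K| ≤ |B| |L|`. -/
theorem card_le_of_commutator_fibers (K B L : Subgroup G) (a : G)
    (h1 : ∀ k ∈ K, ⁅k, a⁆ ∈ B) (h2 : ∀ k ∈ K, k * a = a * k → k ∈ L) :
    Nat.card K ≤ Nat.card B * Nat.card L := by
  classical
  -- representative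
  have hex : ∀ k : K, ∃ r : G, r ∈ K ∧ ⁅r, a⁆ = ⁅(k : G), a⁆ := fun k => ⟨k, k.2, rfl⟩
  have hrep : ∀ b : G, ∃ r : G, (∃ k ∈ K, ⁅k, a⁆ = b) → (r ∈ K ∧ ⁅r, a⁆ = b) := by
    intro b
    by_cases h : ∃ k ∈ K, ⁅k, a⁆ = b
    · obtain ⟨k, hk, hkb⟩ := h
      exact ⟨k, fun _ => ⟨hk, hkb⟩⟩
    · exact ⟨1, fun h' => absurd h' h⟩
  choose rep hrep' using hrep
  have hrepK : ∀ k : K, rep ⁅(k : G), a⁆ ∈ K ∧ ⁅rep ⁅(k : G), a⁆, a⁆ = ⁅(k : G), a⁆ :=
    fun k => hrep' _ ⟨k, k.2, rfl⟩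
  have hL : ∀ k : K, (rep ⁅(k : G), a⁆)⁻¹ * (k : G) ∈ L := by
    intro k
    obtain ⟨hr, hre⟩ := hrepK k
    apply h2 _ (mul_mem (inv_mem hr) k.2)
    rw [commutatorElement_def, commutatorElement_def] at hre
    have h3 : rep ⁅(k : G), a⁆ * a * (rep ⁅(k : G), a⁆)⁻¹ = (k : G) * a * (k : G)⁻¹ :=
      mul_right_cancel hre
    calc (rep ⁅(k : G), a⁆)⁻¹ * (k : G) * a
        = (rep ⁅(k : G), a⁆)⁻¹ * ((k : G) * a * (k : G)⁻¹) * (k : G) := by group
      _ = (rep ⁅(k : G), a⁆)⁻¹ * (rep ⁅(k : G), a⁆ * a * (rep ⁅(k : G), a⁆)⁻¹) * (k : G) := by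
          rw [h3]
      _ = a * ((rep ⁅(k : G), a⁆)⁻¹ * (k : G)) := by group
  let f : K → B × L := fun k => (⟨⁅(k : G), a⁆, h1 k k.2⟩, ⟨(rep ⁅(k : G), a⁆)⁻¹ * (k : G), hL k⟩)
  have hf : Function.Injective f := by
    intro k k' hkk
    have e1 : ⁅(k : G), a⁆ = ⁅(k' : G), a⁆ := congrArg (fun x => ((x.1 : B) : G)) hkk
    have e2 : (rep ⁅(k : G), a⁆)⁻¹ * (k : G) = (rep ⁅(k' : G), a⁆)⁻¹ * (k' : G) :=
      congrArg (fun x => ((x.2 : L) : G)) hkk
    rw [e1] at e2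
    exact Subtype.ext (mul_left_cancel e2)
  calc Nat.card K ≤ Nat.card (B × L) := Nat.card_le_card_of_injective f hf
    _ = Nat.card B * Nat.card L := Nat.card_prod _ _

/-- If `e` centralizes the normal subgroup `B` and moves `a` by a non-trivial element `z = ⁅e, a⁆`
of order `p` commuting with `a`, where `a ^ p = 1`, then every element of `B ⊔ ⟨a⟩` centralized by
`e` lies in `B`. -/
theorem mem_of_commute_of_mem_sup (B : Subgroup G) [hBn : B.Normal] (a e : G) (hap : a ^ p = 1)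
    (hz1 : ⁅e, a⁆ ≠ 1) (hzp : ⁅e, a⁆ ^ p = 1) (hza : Commute ⁅e, a⁆ a)
    (heB : ∀ b ∈ B, e * b = b * e) :
    ∀ x ∈ B ⊔ Subgroup.zpowers a, e * x = x * e → x ∈ B := by
  intro x hx hex
  have hpp : p.Prime := hpf.out
  obtain ⟨b, hb, t, rfl⟩ := exists_eq_mul_zpow_of_mem_sup B a hx
  have h1 : e * a ^ t = a ^ t * e := by
    have h2 : b * (e * a ^ t) = b * (a ^ t * e) := by
      calc b * (e * a ^ t) = (b * e) * a ^ t := by group
        _ = (e * b) * a ^ t := by rw [heB b hb]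
        _ = e * (b * a ^ t) := by group
        _ = b * a ^ t * e := hex
        _ = b * (a ^ t * e) := by group
    exact mul_left_cancel h2
  have h3 : e * a * e⁻¹ = ⁅e, a⁆ * a := by rw [commutatorElement_def]; group
  have h4 : e * a ^ t * e⁻¹ = ⁅e, a⁆ ^ t * a ^ t := by
    rw [← conj_zpow, h3, hza.mul_zpow]
  have h5 : ⁅e, a⁆ ^ t = 1 := by
    have h6 : e * a ^ t * e⁻¹ = a ^ t := by rw [h1]; group
    rw [h6] at h4
    exact (mul_eq_right.mp h4.symm)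
  have hord : orderOf ⁅e, a⁆ = p := orderOf_eq_prime hzp hz1
  have hdvd : (p : ℤ) ∣ t := by
    rw [← hord]; exact orderOf_dvd_iff_zpow_eq_one.mpr h5
  obtain ⟨s, rfl⟩ := hdvd
  have h7 : a ^ ((p : ℤ) * s) = 1 := by
    rw [zpow_mul, zpow_natCast, hap, one_zpow]
  rw [h7, mul_one]
  exact hb

/-- centralizing `B` and `a` means centralizing `B ⊔ ⟨a⟩` -/
theorem commute_of_mem_sup_zpowers (B : Subgroup G) [hBn : B.Normal] (a e : G)
    (heB : ∀ b ∈ B, e * b = b * e) (he : e * a = a * e) :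
    ∀ x ∈ B ⊔ Subgroup.zpowers a, e * x = x * e := by
  intro x hx
  obtain ⟨b, hb, t, rfl⟩ := exists_eq_mul_zpow_of_mem_sup B a hx
  have h1 : e * b = b * e := heB b hb
  have h2 : Commute e (a ^ t) := (show Commute e a from he).zpow_right t
  calc e * (b * a ^ t) = (e * b) * a ^ t := by group
    _ = (b * e) * a ^ t := by rw [h1]
    _ = b * (e * a ^ t) := by group
    _ = b * (a ^ t * e) := by rw [h2.eq]
    _ = b * a ^ t * e := by group

/-- strict growth of the order along `H ≤ K`, in a `p`-group -/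
theorem pow_succ_le_card (hG : IsPGroup p G) (K : Subgroup G) {n : ℕ}
    (h : p ^ n < Nat.card K) : p ^ (n + 1) ≤ Nat.card K := by
  have hpp : p.Prime := hpf.out
  obtain ⟨j, hj⟩ := (hG.to_subgroup K).exists_card_eq
  rw [hj] at h ⊢
  have : n < j := (Nat.pow_lt_pow_iff_right hpp.one_lt).mp h
  exact Nat.pow_le_pow_right hpp.pos this

theorem card_lt_card_of_mem_not_mem {H K : Subgroup G} (hHK : H ≤ K) {x : G} (hxK : x ∈ K)
    (hxH : x ∉ H) : Nat.card H < Nat.card K := by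
  by_contra h
  have := Subgroup.eq_of_le_of_card_ge hHK (not_lt.mp h)
  exact hxH (this ▸ hxK)

theorem card_sup_zpowers_le (B : Subgroup G) [hBn : B.Normal] (a : G) (hap : a ^ p = 1) :
    Nat.card (B ⊔ Subgroup.zpowers a : Subgroup G) ≤ Nat.card B * p := by
  have hpp : p.Prime := hpf.out
  have h1 : Nat.card (B ⊔ Subgroup.zpowers a : Subgroup G) =
      Nat.card ((B : Set G) * (Subgroup.zpowers a : Set G) : Set G) := by
    rw [← Subgroup.normal_mul]; rfl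
  rw [h1]
  refine Set.natCard_mul_le.trans ?_
  apply Nat.mul_le_mul_left
  show Nat.card (Subgroup.zpowers a) ≤ p
  rw [Nat.card_zpowers]
  exact Nat.le_of_dvd hpp.pos (orderOf_dvd_of_pow_eq_one hap)

/-- A conjugation identity for commuting `e`, `e₀`. -/
theorem conj_commutator_of_commute {e e₀ a : G} (h : e₀ * e = e * e₀) :
    e₀ * ⁅e, a⁆ * e₀⁻¹ = (e * ⁅e₀, a⁆ * e⁻¹) * ⁅e, a⁆ * ⁅e₀, a⁆⁻¹ := by
  calc e₀ * ⁅e, a⁆ * e₀⁻¹ = (e₀ * e) * a * (e₀ * e)⁻¹ * (e₀ * a⁻¹ * e₀⁻¹) := by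
        rw [commutatorElement_def]; group
    _ = (e * e₀) * a * (e * e₀)⁻¹ * (e₀ * a⁻¹ * e₀⁻¹) := by rw [h]
    _ = (e * ⁅e₀, a⁆ * e⁻¹) * ⁅e, a⁆ * ⁅e₀, a⁆⁻¹ := by
        simp only [commutatorElement_def]; group

/-- The configuration: a chain `A₁ < A₂ < A` of normal subgroups inside the elementary abelian
normal subgroup `A`, with `Ω₁(C(A)) = A`. -/
structure Config (p : ℕ) (A A₁ A₂ : Subgroup G) (a₂ a₃ : G) : Prop where
  hAc : ∀ a ∈ A, ∀ b ∈ A, a * b = b * a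
  hAe : ∀ a ∈ A, a ^ p = 1
  hA3 : Nat.card A ≤ p ^ 3
  hL : ∀ x ∈ Subgroup.centralizer (A : Set G), x ^ p = 1 → x ∈ A
  hA₁Z : A₁ ≤ Subgroup.center G
  hA₁c : Nat.card A₁ ≤ p
  hA₂ : A₂ = A₁ ⊔ Subgroup.zpowers a₂
  hA : A = A₂ ⊔ Subgroup.zpowers a₃
  h2 : ∀ g : G, ⁅g, a₂⁆ ∈ A₁
  h3 : ∀ g : G, ⁅g, a₃⁆ ∈ A₂

namespace Config

variable {A A₁ A₂ : Subgroup G} {a₂ a₃ : G}

theorem A₂_le (c : Config p A A₁ A₂ a₂ a₃) : A₂ ≤ A := by rw [c.hA]; exact le_sup_left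

theorem A₁_le (c : Config p A A₁ A₂ a₂ a₃) : A₁ ≤ A₂ := by rw [c.hA₂]; exact le_sup_left

theorem a₂_mem (c : Config p A A₁ A₂ a₂ a₃) : a₂ ∈ A₂ := by
  rw [c.hA₂]; exact (le_sup_right : Subgroup.zpowers a₂ ≤ _) (Subgroup.mem_zpowers a₂)

theorem a₃_mem (c : Config p A A₁ A₂ a₂ a₃) : a₃ ∈ A := by
  rw [c.hA]; exact (le_sup_right : Subgroup.zpowers a₃ ≤ _) (Subgroup.mem_zpowers a₃)

/-- centralizing `a₂` means centralizing `A₂` -/
theorem cent_A₂ (c : Config p A A₁ A₂ a₂ a₃) [A₁.Normal] {e : G} (he : e * a₂ = a₂ * e) :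
    ∀ b ∈ A₂, e * b = b * e := by
  intro b hb
  rw [c.hA₂] at hb
  obtain ⟨a, ha, t, rfl⟩ := exists_eq_mul_zpow_of_mem_sup A₁ a₂ hb
  have h1 : e * a = a * e := Subgroup.mem_center_iff.mp (c.hA₁Z ha) e
  have h2 : Commute e (a₂ ^ t) := (show Commute e a₂ from he).zpow_right t
  calc e * (a * a₂ ^ t) = (e * a) * a₂ ^ t := by group
    _ = (a * e) * a₂ ^ t := by rw [h1]
    _ = a * (e * a₂ ^ t) := by group
    _ = a * (a₂ ^ t * e) := by rw [h2.eq]
    _ = a * a₂ ^ t * e := by group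

/-- centralizing `A₂` and `a₃` means centralizing `A` -/
theorem cent_A (c : Config p A A₁ A₂ a₂ a₃) [A₂.Normal] {e : G}
    (he2 : ∀ b ∈ A₂, e * b = b * e) (he : e * a₃ = a₃ * e) :
    ∀ x ∈ A, e * x = x * e := by
  intro x hx
  rw [c.hA] at hx
  obtain ⟨a, ha, t, rfl⟩ := exists_eq_mul_zpow_of_mem_sup A₂ a₃ hx
  have h1 : e * a = a * e := he2 a ha
  have h2 : Commute e (a₃ ^ t) := (show Commute e a₃ from he).zpow_right t
  calc e * (a * a₃ ^ t) = (e * a) * a₃ ^ t := by group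
    _ = (a * e) * a₃ ^ t := by rw [h1]
    _ = a * (e * a₃ ^ t) := by group
    _ = a * (a₃ ^ t * e) := by rw [h2.eq]
    _ = a * a₃ ^ t * e := by group

/-- an element of order dividing `p` centralizing `A₂` and `a₃` lies in `A` -/
theorem mem_A (c : Config p A A₁ A₂ a₂ a₃) [A₂.Normal] {e : G} (hep : e ^ p = 1)
    (he2 : ∀ b ∈ A₂, e * b = b * e) (he : e * a₃ = a₃ * e) : e ∈ A := by
  apply c.hL e _ hep
  rw [Subgroup.mem_centralizer_iff]
  intro x hx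
  exact (c.cent_A he2 he x hx).symm

/-- **Key structural fact.** Every elementary abelian subgroup `E` of order `p⁴` centralizes `A₂`
and meets `A` inside `A₂`. -/
theorem key (c : Config p A A₁ A₂ a₂ a₃) [hA₁n : A₁.Normal] [hA₂n : A₂.Normal]
    (E : Subgroup G) (hE : Cfsg.IsElementaryAbelian p E) (hE4 : Nat.card E = p ^ 4) :
    (∀ e ∈ E, ∀ b ∈ A₂, e * b = b * e) ∧ E ⊓ A ≤ A₂ := by
  classical
  have hpp : p.Prime := hpf.out
  have hp1 : 1 < p := hpp.one_lt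
  have hEc : ∀ x ∈ E, ∀ y ∈ E, x * y = y * x := by
    intro x hx y hy
    exact congrArg Subtype.val (hE.1.is_comm.comm ⟨x, hx⟩ ⟨y, hy⟩)
  have hEe : ∀ x ∈ E, x ^ p = 1 := hE.2
  -- (α)
  have hα : ∀ e ∈ E, ∀ b ∈ A₂, e * b = b * e := by
    by_contra hα
    have hex : ∃ e₀ ∈ E, e₀ * a₂ ≠ a₂ * e₀ := by
      by_contra h
      apply hα
      intro e he b hb
      refine c.cent_A₂ ?_ b hb
      by_contra h'
      exact h ⟨e, he, h'⟩
    obtain ⟨e₀, he₀, hne₀⟩ := hex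
    have hz₀A₁ : ⁅e₀, a₂⁆ ∈ A₁ := c.h2 e₀
    have hz₀1 : ⁅e₀, a₂⁆ ≠ 1 := by
      intro h
      exact hne₀ (commutatorElement_eq_one_iff_mul_comm.mp h)
    have hz₀p : ⁅e₀, a₂⁆ ^ p = 1 := c.hAe _ (c.A₂_le (c.A₁_le hz₀A₁))
    have hz₀c : Commute ⁅e₀, a₂⁆ a₂ :=
      (Subgroup.mem_center_iff.mp (c.hA₁Z hz₀A₁) a₂).symm
    have he₀A₁ : ∀ b ∈ A₁, e₀ * b = b * e₀ := fun b hb =>
      Subgroup.mem_center_iff.mp (c.hA₁Z hb) e₀
    have hap₂ : a₂ ^ p = 1 := c.hAe _ (c.A₂_le c.a₂_mem)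
    -- K-lemma for `e₀`
    have hK₀ : ∀ x ∈ A₂, e₀ * x = x * e₀ → x ∈ A₁ := by
      intro x hx
      rw [c.hA₂] at hx
      exact mem_of_commute_of_mem_sup A₁ a₂ e₀ hap₂ hz₀1 hz₀p hz₀c he₀A₁ x hx
    obtain ⟨E₂, hE₂def⟩ : ∃ E₂ : Subgroup G, E₂ = E ⊓ Subgroup.centralizer ({a₂} : Set G) :=
      ⟨_, rfl⟩
    have hE₂mem : ∀ e, e ∈ E₂ ↔ e ∈ E ∧ e * a₂ = a₂ * e := by
      intro e
      rw [hE₂def, Subgroup.mem_inf, Subgroup.mem_centralizer_singleton_iff]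
    have hE₂E : E₂ ≤ E := hE₂def ▸ inf_le_left
    have hE₂cent : ∀ e ∈ E₂, ∀ b ∈ A₂, e * b = b * e := fun e he =>
      c.cent_A₂ ((hE₂mem e).mp he).2
    have hCL₁ : Nat.card E ≤ Nat.card A₁ * Nat.card E₂ :=
      card_le_of_commutator_fibers E A₁ E₂ a₂ (fun k _ => c.h2 k)
        (fun k hk hka => (hE₂mem k).mpr ⟨hk, hka⟩)
    -- (γ)
    have hγ : ∀ e ∈ E₂, ⁅e, a₃⁆ ∈ A₁ := by
      intro e he
      have heE : e ∈ E := hE₂E he
      apply hK₀ _ (c.h3 e)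
      have hd : ⁅e₀, a₃⁆ ∈ A₂ := c.h3 e₀
      have hcA : ⁅e, a₃⁆ ∈ A₂ := c.h3 e
      have h1 : e * ⁅e₀, a₃⁆ * e⁻¹ = ⁅e₀, a₃⁆ := by
        rw [hE₂cent e he _ hd]; group
      have h2 := conj_commutator_of_commute (a := a₃) (hEc e₀ he₀ e heE)
      rw [h1, c.hAc _ (c.A₂_le hd) _ (c.A₂_le hcA)] at h2
      have h3 : e₀ * ⁅e, a₃⁆ * e₀⁻¹ = ⁅e, a₃⁆ := by rw [h2]; group
      calc e₀ * ⁅e, a₃⁆ = (e₀ * ⁅e, a₃⁆ * e₀⁻¹) * e₀ := by group
        _ = ⁅e, a₃⁆ * e₀ := by rw [h3]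
    have hCL₂ : Nat.card E₂ ≤ Nat.card A₁ * Nat.card (E ⊓ A : Subgroup G) :=
      card_le_of_commutator_fibers E₂ A₁ (E ⊓ A) a₃ hγ
        (fun k hk hka => Subgroup.mem_inf.mpr ⟨hE₂E hk,
          c.mem_A (hEe k (hE₂E hk)) (hE₂cent k hk) hka⟩)
    have hA₁pos : 0 < Nat.card A₁ := Nat.card_pos
    by_cases hsub : ∀ e ∈ E₂, e * a₃ = a₃ * e
    · -- E₂ ≤ A, so E₂ = A
      have hE₂A : E₂ ≤ A := fun e he =>
        c.mem_A (hEe e (hE₂E he)) (hE₂cent e he) (hsub e he)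
      have h1 : p ^ 4 ≤ p * Nat.card E₂ := by
        calc p ^ 4 = Nat.card E := hE4.symm
          _ ≤ Nat.card A₁ * Nat.card E₂ := hCL₁
          _ ≤ p * Nat.card E₂ := Nat.mul_le_mul_right _ c.hA₁c
      have h2 : p ^ 3 ≤ Nat.card E₂ := by
        have : p * p ^ 3 ≤ p * Nat.card E₂ := by
          calc p * p ^ 3 = p ^ 4 := by ring
            _ ≤ p * Nat.card E₂ := h1
        exact Nat.le_of_mul_le_mul_left this hpp.pos
      have h3 : E₂ = A := Subgroup.eq_of_le_of_card_ge hE₂A (c.hA3.trans h2)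
      have h4 : a₂ ∈ E₂ := h3 ▸ c.A₂_le c.a₂_mem
      exact hne₀ (hEc e₀ he₀ a₂ (hE₂E h4))
    · have hex2 : ∃ e ∈ E₂, e * a₃ ≠ a₃ * e := by
        by_contra h
        apply hsub
        intro e he
        by_contra h'
        exact h ⟨e, he, h'⟩
      obtain ⟨e, he, hne⟩ := hex2
      have heE : e ∈ E := hE₂E he
      have hz1 : ⁅e, a₃⁆ ≠ 1 := fun h => hne (commutatorElement_eq_one_iff_mul_comm.mp h)
      have hzA₁ : ⁅e, a₃⁆ ∈ A₁ := hγ e he
      have hzp : ⁅e, a₃⁆ ^ p = 1 := c.hAe _ (c.A₂_le (c.A₁_le hzA₁))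
      have hzc : Commute ⁅e, a₃⁆ a₃ :=
        (Subgroup.mem_center_iff.mp (c.hA₁Z hzA₁) a₃).symm
      have hap₃ : a₃ ^ p = 1 := c.hAe _ c.a₃_mem
      have hHA₁ : (E ⊓ A : Subgroup G) ≤ A₁ := by
        intro h hh
        obtain ⟨hhE, hhA⟩ := Subgroup.mem_inf.mp hh
        have hh2 : h ∈ A₂ := by
          rw [c.hA] at hhA
          exact mem_of_commute_of_mem_sup A₂ a₃ e hap₃ hz1 hzp hzc (hE₂cent e he) h hhA
            (hEc e heE h hhE)
        exact hK₀ h hh2 (hEc e₀ he₀ h hhE)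
      have h1 : Nat.card (E ⊓ A : Subgroup G) ≤ p :=
        (Subgroup.card_le_of_le hHA₁).trans c.hA₁c
      have h2 : p ^ 4 ≤ p * (p * Nat.card (E ⊓ A : Subgroup G)) := by
        calc p ^ 4 = Nat.card E := hE4.symm
          _ ≤ Nat.card A₁ * Nat.card E₂ := hCL₁
          _ ≤ p * Nat.card E₂ := Nat.mul_le_mul_right _ c.hA₁c
          _ ≤ p * (Nat.card A₁ * Nat.card (E ⊓ A : Subgroup G)) :=
              Nat.mul_le_mul_left _ hCL₂
          _ ≤ p * (p * Nat.card (E ⊓ A : Subgroup G)) :=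
              Nat.mul_le_mul_left _ (Nat.mul_le_mul_right _ c.hA₁c)
      have h3 : p ^ 4 ≤ p * (p * p) := h2.trans
        (Nat.mul_le_mul_left _ (Nat.mul_le_mul_left _ h1))
      have h4 : p * (p * p) < p ^ 4 := by
        have : p ^ 4 = p * (p * (p * p)) := by ring
        rw [this]
        have hp3 : 0 < p * p := Nat.mul_pos hpp.pos hpp.pos
        nlinarith
      omega
  refine ⟨hα, ?_⟩
  -- (β)
  by_cases hall : ∀ e ∈ E, e * a₃ = a₃ * e
  · exfalso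
    have hEA : E ≤ A := fun e he => c.mem_A (hEe e he) (hα e he) (hall e he)
    have h1 : p ^ 4 ≤ p ^ 3 := by
      calc p ^ 4 = Nat.card E := hE4.symm
        _ ≤ Nat.card A := Subgroup.card_le_of_le hEA
        _ ≤ p ^ 3 := c.hA3
    have h2 : p ^ 3 < p ^ 4 := Nat.pow_lt_pow_right hp1 (by norm_num)
    omega
  · have hex : ∃ e ∈ E, e * a₃ ≠ a₃ * e := by
      by_contra h
      apply hall
      intro e he
      by_contra h'
      exact h ⟨e, he, h'⟩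
    obtain ⟨e, he, hne⟩ := hex
    have hz1 : ⁅e, a₃⁆ ≠ 1 := fun h => hne (commutatorElement_eq_one_iff_mul_comm.mp h)
    have hzA₂ : ⁅e, a₃⁆ ∈ A₂ := c.h3 e
    have hzp : ⁅e, a₃⁆ ^ p = 1 := c.hAe _ (c.A₂_le hzA₂)
    have hzc : Commute ⁅e, a₃⁆ a₃ := c.hAc _ (c.A₂_le hzA₂) _ c.a₃_mem
    have hap₃ : a₃ ^ p = 1 := c.hAe _ c.a₃_mem
    intro h hh
    obtain ⟨hhE, hhA⟩ := Subgroup.mem_inf.mp hh
    rw [c.hA] at hhA
    exact mem_of_commute_of_mem_sup A₂ a₃ e hap₃ hz1 hzp hzc (hα e he) h hhA (hEc e he h hhE)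

end Config

/-- **Main theorem.** For `p` odd, a finite `p`-group containing an elementary abelian subgroup of
order `p⁴` has a normal elementary abelian subgroup of order `p⁴`. -/
theorem exists_normal_card_pow_four (hp2 : p ≠ 2) (hG : IsPGroup p G) (E : Subgroup G)
    (hE : Cfsg.IsElementaryAbelian p E) (hE4 : Nat.card E = p ^ 4) :
    ∃ A : Subgroup G, A.Normal ∧ Cfsg.IsElementaryAbelian p A ∧ Nat.card A = p ^ 4 := by
  classical
  by_contra hno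
  have hpp : p.Prime := hpf.out
  have hp1 : 1 < p := hpp.one_lt
  have hEc : ∀ x ∈ E, ∀ y ∈ E, x * y = y * x := by
    intro x hx y hy
    exact congrArg Subtype.val (hE.1.is_comm.comm ⟨x, hx⟩ ⟨y, hy⟩)
  have hEe : ∀ x ∈ E, x ^ p = 1 := hE.2
  have mkEA : ∀ B : Subgroup G, (∀ a ∈ B, ∀ b ∈ B, a * b = b * a) → (∀ a ∈ B, a ^ p = 1) →
      Cfsg.IsElementaryAbelian p B := fun B hc he =>
    ⟨⟨⟨fun a b => Subtype.ext (hc a a.2 b b.2)⟩⟩, he⟩
  -- Step A: choose `A`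
  obtain ⟨S, hSdef⟩ : ∃ S : Set (Subgroup G), S = {A : Subgroup G | A.Normal ∧
      (∀ a ∈ A, ∀ b ∈ A, a * b = b * a) ∧ (∀ a ∈ A, a ^ p = 1) ∧ Nat.card A ≤ p ^ 4} := ⟨_, rfl⟩
  have hSne : S.Nonempty := by
    refine ⟨⊥, ?_⟩
    rw [hSdef]
    refine ⟨inferInstance, ?_, ?_, ?_⟩
    · intro a ha b hb
      rw [Subgroup.mem_bot.mp ha, Subgroup.mem_bot.mp hb]
    · intro a ha
      rw [Subgroup.mem_bot.mp ha, one_pow]
    · rw [Subgroup.card_bot]; exact Nat.one_le_pow _ _ hpp.pos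
  obtain ⟨A, hAS, hAmax⟩ := Set.exists_max_image S (fun A => Nat.card A) (Set.toFinite S) hSne
  rw [hSdef] at hAS
  obtain ⟨hAn, hAc, hAe, hA4⟩ := hAS
  have hAn' : A.Normal := hAn
  have hAne : Nat.card A ≠ p ^ 4 := fun h => hno ⟨A, hAn, mkEA A hAc hAe, h⟩
  obtain ⟨k, hk⟩ := (hG.to_subgroup A).exists_card_eq
  have hk3 : k ≤ 3 := by
    rw [hk] at hA4 hAne
    have h1 : k ≤ 4 := (Nat.pow_le_pow_iff_right hp1).mp hA4
    have h2 : k ≠ 4 := fun h => hAne (by rw [h])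
    omega
  have hA3 : Nat.card A ≤ p ^ 3 := hk ▸ Nat.pow_le_pow_right hpp.pos hk3
  -- Step B: `A` is a maximal normal elementary abelian subgroup
  have hext : ∀ B : Subgroup G, B.Normal → A ≤ B → (∀ a ∈ B, ∀ b ∈ B, a * b = b * a) →
      (∀ a ∈ B, a ^ p = 1) → B ≤ A := by
    intro B hBn hAB hBc hBe
    by_contra hBA
    obtain ⟨y, hyB, hyA, hyc⟩ := exists_mem_not_mem_commutator_mem hG A B hBA
    have hA'n : (A ⊔ Subgroup.zpowers y).Normal := normal_sup_zpowers A y hyc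
    have hA'B : A ⊔ Subgroup.zpowers y ≤ B := sup_le hAB (Subgroup.zpowers_le.mpr hyB)
    have hcard : Nat.card (A ⊔ Subgroup.zpowers y : Subgroup G) ≤ p ^ 4 := by
      refine (card_sup_zpowers_le A y (hBe y hyB)).trans ?_
      rw [hk, ← pow_succ]
      exact Nat.pow_le_pow_right hpp.pos (by omega)
    have hA'S : A ⊔ Subgroup.zpowers y ∈ S := by
      rw [hSdef]
      exact ⟨hA'n, fun a ha b hb => hBc a (hA'B ha) b (hA'B hb), fun a ha => hBe a (hA'B ha),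
        hcard⟩
    have h1 : Nat.card (A ⊔ Subgroup.zpowers y : Subgroup G) ≤ Nat.card A := hAmax _ hA'S
    have h2 : A = A ⊔ Subgroup.zpowers y := Subgroup.eq_of_le_of_card_ge le_sup_left h1
    apply hyA
    rw [h2]
    exact (le_sup_right : Subgroup.zpowers y ≤ A ⊔ Subgroup.zpowers y) (Subgroup.mem_zpowers y)
  -- Step C: Alperin's lemma
  have hL : ∀ x ∈ Subgroup.centralizer (A : Set G), x ^ p = 1 → x ∈ A :=
    mem_of_mem_centralizer_of_pow_eq_one hp2 hG A hAc hAe hext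
  -- `E` does not centralize `A`
  have hcent : ¬ ∀ e ∈ E, ∀ a ∈ A, e * a = a * e := by
    intro h
    have hEA : E ≤ A := by
      intro e he
      apply hL e _ (hEe e he)
      rw [Subgroup.mem_centralizer_iff]
      intro a ha
      exact (h e he a ha).symm
    have h1 : p ^ 4 ≤ p ^ 3 := by
      calc p ^ 4 = Nat.card E := hE4.symm
        _ ≤ Nat.card A := Subgroup.card_le_of_le hEA
        _ ≤ p ^ 3 := hA3
    have h2 : p ^ 3 < p ^ 4 := Nat.pow_lt_pow_right hp1 (by norm_num)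
    omega
  -- Step D: the chain
  -- `a₁`
  have hAbot : ¬ A ≤ (⊥ : Subgroup G) := by
    intro h
    apply hcent
    intro e _ a ha
    rw [Subgroup.mem_bot.mp (h ha), mul_one, one_mul]
  obtain ⟨a₁, ha₁A, ha₁1, ha₁c⟩ := exists_mem_not_mem_commutator_mem hG ⊥ A hAbot
  have ha₁ne : a₁ ≠ 1 := fun h => ha₁1 (Subgroup.mem_bot.mpr h)
  have ha₁Z : a₁ ∈ Subgroup.center G := by
    rw [Subgroup.mem_center_iff]
    intro g
    exact commutatorElement_eq_one_iff_mul_comm.mp (Subgroup.mem_bot.mp (ha₁c g))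
  obtain ⟨A₁, hA₁def⟩ : ∃ A₁ : Subgroup G, A₁ = Subgroup.zpowers a₁ := ⟨_, rfl⟩
  have hA₁Z : A₁ ≤ Subgroup.center G := by
    rw [hA₁def]; exact Subgroup.zpowers_le.mpr ha₁Z
  have hA₁n : A₁.Normal := by
    constructor
    intro x hx g
    have h1 : g * x = x * g := Subgroup.mem_center_iff.mp (hA₁Z hx) g
    have h2 : g * x * g⁻¹ = x := by rw [h1]; group
    rw [h2]; exact hx
  have hA₁A : A₁ ≤ A := by rw [hA₁def]; exact Subgroup.zpowers_le.mpr ha₁A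
  have hA₁card : Nat.card A₁ = p := by
    rw [hA₁def, Nat.card_zpowers]
    exact orderOf_eq_prime (hAe a₁ ha₁A) ha₁ne
  -- `a₂`
  have hAA₁ : ¬ A ≤ A₁ := by
    intro h
    apply hcent
    intro e _ a ha
    exact Subgroup.mem_center_iff.mp (hA₁Z (h ha)) e
  obtain ⟨a₂, ha₂A, ha₂A₁, ha₂c⟩ := exists_mem_not_mem_commutator_mem hG A₁ A hAA₁
  obtain ⟨A₂, hA₂def⟩ : ∃ A₂ : Subgroup G, A₂ = A₁ ⊔ Subgroup.zpowers a₂ := ⟨_, rfl⟩
  have hA₂n : A₂.Normal := by rw [hA₂def]; exact normal_sup_zpowers A₁ a₂ ha₂c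
  have hA₂A : A₂ ≤ A := by
    rw [hA₂def]; exact sup_le hA₁A (Subgroup.zpowers_le.mpr ha₂A)
  have hA₁A₂ : A₁ ≤ A₂ := by rw [hA₂def]; exact le_sup_left
  have ha₂A₂ : a₂ ∈ A₂ := by
    rw [hA₂def]
    exact (le_sup_right : Subgroup.zpowers a₂ ≤ _) (Subgroup.mem_zpowers a₂)
  have hA₂card : Nat.card A₂ ≤ p * p := by
    rw [hA₂def]
    refine (card_sup_zpowers_le A₁ a₂ (hAe a₂ ha₂A)).trans ?_
    rw [hA₁card]
  have hA₂card' : p ^ 2 ≤ Nat.card A₂ := by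
    apply pow_succ_le_card hG A₂
    rw [pow_one, ← hA₁card]
    exact card_lt_card_of_mem_not_mem hA₁A₂ ha₂A₂ ha₂A₁
  -- `a₃`
  have hAA₂ : ¬ A ≤ A₂ := by
    intro h
    have hCL : Nat.card E ≤ Nat.card A₁ * Nat.card A := by
      apply card_le_of_commutator_fibers E A₁ A a₂ (fun k _ => ha₂c k)
      intro e he hea
      apply hL e _ (hEe e he)
      rw [Subgroup.mem_centralizer_iff]
      intro a ha
      have haA₂ : a ∈ A₁ ⊔ Subgroup.zpowers a₂ := hA₂def ▸ h ha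
      exact (commute_of_mem_sup_zpowers A₁ a₂ e
        (fun b hb => Subgroup.mem_center_iff.mp (hA₁Z hb) e) hea a haA₂).symm
    have h1 : Nat.card A ≤ p * p := (Subgroup.card_le_of_le h).trans hA₂card
    have h2 : p ^ 4 ≤ p * (p * p) := by
      calc p ^ 4 = Nat.card E := hE4.symm
        _ ≤ Nat.card A₁ * Nat.card A := hCL
        _ = p * Nat.card A := by rw [hA₁card]
        _ ≤ p * (p * p) := Nat.mul_le_mul_left _ h1
    have h3 : p * (p * p) = p ^ 3 := by ring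
    have h4 : p ^ 3 < p ^ 4 := Nat.pow_lt_pow_right hp1 (by norm_num)
    omega
  obtain ⟨a₃, ha₃A, ha₃A₂, ha₃c⟩ := exists_mem_not_mem_commutator_mem hG A₂ A hAA₂
  have hA₃A : A₂ ⊔ Subgroup.zpowers a₃ ≤ A := sup_le hA₂A (Subgroup.zpowers_le.mpr ha₃A)
  have hA₃card : p ^ 3 ≤ Nat.card (A₂ ⊔ Subgroup.zpowers a₃ : Subgroup G) := by
    apply pow_succ_le_card hG
    refine lt_of_le_of_lt hA₂card' ?_
    exact card_lt_card_of_mem_not_mem le_sup_left
      ((le_sup_right : Subgroup.zpowers a₃ ≤ _) (Subgroup.mem_zpowers a₃)) ha₃A₂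
  have hAeq : A = A₂ ⊔ Subgroup.zpowers a₃ :=
    (Subgroup.eq_of_le_of_card_ge hA₃A (hA3.trans hA₃card)).symm
  have c : Config p A A₁ A₂ a₂ a₃ :=
    { hAc := hAc, hAe := hAe, hA3 := hA3, hL := hL, hA₁Z := hA₁Z, hA₁c := hA₁card.le,
      hA₂ := hA₂def, hA := hAeq, h2 := ha₂c, h3 := ha₃c }
  -- Step E: the normalizer argument
  have hEnn : ¬ E.Normal := fun h => hno ⟨E, h, hE, hE4⟩
  have hNtop : Subgroup.normalizer (E : Set G) ≠ ⊤ := fun h =>
    hEnn (Subgroup.normalizer_eq_top_iff.mp h)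
  have hnil : Group.IsNilpotent G := hG.isNilpotent
  have hnc := Group.normalizerCondition_of_isNilpotent (G := G) (Subgroup.normalizer (E : Set G))
    (lt_top_iff_ne_top.mpr hNtop)
  obtain ⟨g, hgNN, hgN⟩ := SetLike.exists_of_lt hnc
  obtain ⟨E', hE'def⟩ : ∃ E' : Subgroup G, E' = E.map (MulAut.conj g).toMonoidHom := ⟨_, rfl⟩
  have hE'mem : ∀ x, x ∈ E' ↔ ∃ y ∈ E, g * y * g⁻¹ = x := by
    intro x
    rw [hE'def, Subgroup.mem_map]
    rfl
  have hE'c : ∀ x ∈ E', ∀ y ∈ E', x * y = y * x := by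
    intro x hx y hy
    obtain ⟨x₀, hx₀, rfl⟩ := (hE'mem x).mp hx
    obtain ⟨y₀, hy₀, rfl⟩ := (hE'mem y).mp hy
    have := hEc x₀ hx₀ y₀ hy₀
    calc g * x₀ * g⁻¹ * (g * y₀ * g⁻¹) = g * (x₀ * y₀) * g⁻¹ := by group
      _ = g * (y₀ * x₀) * g⁻¹ := by rw [this]
      _ = g * y₀ * g⁻¹ * (g * x₀ * g⁻¹) := by group
  have hE'e : ∀ x ∈ E', x ^ p = 1 := by
    intro x hx
    obtain ⟨x₀, hx₀, rfl⟩ := (hE'mem x).mp hx
    rw [conj_pow, hEe x₀ hx₀]; group
  have hE'EA : Cfsg.IsElementaryAbelian p E' := mkEA E' hE'c hE'e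
  have hE'4 : Nat.card E' = p ^ 4 := by
    rw [hE'def, Subgroup.card_map_of_injective (MulAut.conj g).injective, hE4]
  have hEN : E ≤ Subgroup.normalizer (E : Set G) := Subgroup.le_normalizer
  have hE'N : E' ≤ Subgroup.normalizer (E : Set G) := by
    intro x hx
    obtain ⟨x₀, hx₀, rfl⟩ := (hE'mem x).mp hx
    exact (Subgroup.mem_normalizer_iff.mp hgNN x₀).mp (hEN hx₀)
  have hE'ne : ¬ E' ≤ E := by
    intro h
    have h1 : E' = E := Subgroup.eq_of_le_of_card_ge h (by rw [hE4, hE'4])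
    apply hgN
    rw [Subgroup.mem_normalizer_iff]
    intro x
    constructor
    · intro hx
      rw [← h1]
      exact (hE'mem _).mpr ⟨x, hx, rfl⟩
    · intro hx
      rw [← h1] at hx
      obtain ⟨y, hy, hyx⟩ := (hE'mem _).mp hx
      have : y = x := by
        have h2 : g * y = g * x := mul_right_cancel hyx
        exact mul_left_cancel h2
      rw [← this]; exact hy
  -- `E` normalizes `E'`
  have hconjE' : ∀ x ∈ E, ∀ y ∈ E', x * y * x⁻¹ ∈ E' := by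
    intro x hx y hy
    obtain ⟨y₀, hy₀, rfl⟩ := (hE'mem y).mp hy
    have hginv : g⁻¹ ∈ Subgroup.normalizer ((Subgroup.normalizer (E : Set G) : Subgroup G) : Set G) :=
      inv_mem hgNN
    have hn : g⁻¹ * x * g⁻¹⁻¹ ∈ Subgroup.normalizer (E : Set G) :=
      (Subgroup.mem_normalizer_iff.mp hginv x).mp (hEN hx)
    have h1 : (g⁻¹ * x * g⁻¹⁻¹) * y₀ * (g⁻¹ * x * g⁻¹⁻¹)⁻¹ ∈ E :=
      (Subgroup.mem_normalizer_iff.mp hn y₀).mp hy₀
    refine (hE'mem _).mpr ⟨_, h1, ?_⟩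
    group
  have hconjE : ∀ y ∈ E', ∀ x ∈ E, y * x * y⁻¹ ∈ E := fun y hy x hx =>
    (Subgroup.mem_normalizer_iff.mp (hE'N hy) x).mp hx
  -- `T = E E'`
  obtain ⟨T, hTdef⟩ : ∃ T : Subgroup G, T = E ⊔ E' := ⟨_, rfl⟩
  have hET : E ≤ T := hTdef ▸ le_sup_left
  have hE'T : E' ≤ T := hTdef ▸ le_sup_right
  have hTmem : ∀ t ∈ T, ∃ x ∈ E, ∃ y ∈ E', t = x * y := by
    intro t ht
    have ht' : t ∈ ((E ⊔ E' : Subgroup G) : Set G) := hTdef ▸ ht
    rw [Subgroup.coe_mul_of_right_le_normalizer_left E E' hE'N, Set.mem_mul] at ht'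
    obtain ⟨x, hx, y, hy, rfl⟩ := ht'
    exact ⟨x, hx, y, hy, rfl⟩
  have hTe : ∀ t ∈ T, t ^ p = 1 := by
    intro t ht
    obtain ⟨x, hx, y, hy, rfl⟩ := hTmem t ht
    have hcE : ⁅y, x⁆ ∈ E := by
      rw [commutatorElement_def]
      exact mul_mem (hconjE y hy x hx) (inv_mem hx)
    have hcE' : ⁅y, x⁆ ∈ E' := by
      have h1 : ⁅y, x⁆ = y * (x * y⁻¹ * x⁻¹) := by rw [commutatorElement_def]; group
      rw [h1]
      exact mul_mem hy (hconjE' x hx y⁻¹ (inv_mem hy))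
    have hcx : Commute ⁅y, x⁆ x := hEc _ hcE x hx
    have hcy : Commute ⁅y, x⁆ y := hE'c _ hcE' y hy
    rw [Cfsg.Agent.Lib.Helper2.mul_pow_prime_of_commutator_central hpp hp2 x y hcx hcy
      (hEe _ hcE), hEe x hx, hE'e y hy, one_mul]
  obtain ⟨hEα, hEβ⟩ := c.key E hE hE4
  obtain ⟨hE'α, -⟩ := c.key E' hE'EA hE'4
  have hTα : ∀ t ∈ T, ∀ b ∈ A₂, t * b = b * t := by
    intro t ht b hb
    obtain ⟨x, hx, y, hy, rfl⟩ := hTmem t ht
    calc x * y * b = x * (y * b) := by group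
      _ = x * (b * y) := by rw [hE'α y hy b hb]
      _ = (x * b) * y := by group
      _ = (b * x) * y := by rw [hEα x hx b hb]
      _ = b * (x * y) := by group
  have hCLT : Nat.card T ≤ Nat.card A₂ * Nat.card (T ⊓ A : Subgroup G) :=
    card_le_of_commutator_fibers T A₂ (T ⊓ A) a₃ (fun k _ => ha₃c k)
      (fun k hk hka => Subgroup.mem_inf.mpr ⟨hk, c.mem_A (hTe k hk) (hTα k hk) hka⟩)
  have hT5 : p ^ 5 ≤ Nat.card T := by
    apply pow_succ_le_card hG T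
    rw [← hE4]
    obtain ⟨x, hxE', hxE⟩ := SetLike.not_le_iff_exists.mp hE'ne
    exact card_lt_card_of_mem_not_mem hET (hE'T hxE') hxE
  have hTA3 : p ^ 3 ≤ Nat.card (T ⊓ A : Subgroup G) := by
    have h1 : p * p * p ^ 3 ≤ p * p * Nat.card (T ⊓ A : Subgroup G) := by
      calc p * p * p ^ 3 = p ^ 5 := by ring
        _ ≤ Nat.card T := hT5
        _ ≤ Nat.card A₂ * Nat.card (T ⊓ A : Subgroup G) := hCLT
        _ ≤ p * p * Nat.card (T ⊓ A : Subgroup G) := Nat.mul_le_mul_right _ hA₂card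
    exact Nat.le_of_mul_le_mul_left h1 (Nat.mul_pos hpp.pos hpp.pos)
  have hTAeq : T ⊓ A = A := Subgroup.eq_of_le_of_card_ge inf_le_right (hA3.trans hTA3)
  have hAT : A ≤ T := hTAeq ▸ inf_le_left
  have hT5' : Nat.card T ≤ p ^ 5 := by
    calc Nat.card T ≤ Nat.card A₂ * Nat.card (T ⊓ A : Subgroup G) := hCLT
      _ ≤ (p * p) * p ^ 3 := Nat.mul_le_mul hA₂card (by rw [hTAeq]; exact hA3)
      _ = p ^ 5 := by ring
  -- `|E ∩ E'| ≥ p³`
  have hint : p ^ 3 ≤ Nat.card (E' ⊓ E : Subgroup G) := by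
    have h1 : Nat.card (E' ⊓ E : Subgroup G) * (E' ⊓ E).relIndex E = Nat.card E := by
      have := Subgroup.relIndex_mul_relIndex (⊥ : Subgroup G) (E' ⊓ E) E bot_le inf_le_right
      rwa [Subgroup.relIndex_bot_left, Subgroup.relIndex_bot_left] at this
    have h2 : (E' ⊓ E).relIndex E = E'.relIndex E := Subgroup.inf_relIndex_right E' E
    have h4 : Nat.card E' * E'.relIndex T = Nat.card T := by
      have := Subgroup.relIndex_mul_relIndex (⊥ : Subgroup G) E' T bot_le hE'T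
      rwa [Subgroup.relIndex_bot_left, Subgroup.relIndex_bot_left] at this
    have h40 : E'.relIndex T ≠ 0 := by
      intro h0
      rw [h0, mul_zero] at h4
      have : 0 < Nat.card T := Nat.card_pos
      omega
    have h3 : E'.relIndex E ≤ E'.relIndex T := Subgroup.relIndex_le_of_le_right hET h40
    have h5 : E'.relIndex T ≤ p := by
      have h6 : p ^ 4 * E'.relIndex T ≤ p ^ 4 * p := by
        calc p ^ 4 * E'.relIndex T = Nat.card T := by rw [← hE'4, h4]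
          _ ≤ p ^ 5 := hT5'
          _ = p ^ 4 * p := by ring
      exact Nat.le_of_mul_le_mul_left h6 (pow_pos hpp.pos 4)
    have h7 : p * p ^ 3 ≤ p * Nat.card (E' ⊓ E : Subgroup G) := by
      calc p * p ^ 3 = p ^ 4 := by ring
        _ = Nat.card (E' ⊓ E : Subgroup G) * (E' ⊓ E).relIndex E := by rw [h1, hE4]
        _ ≤ Nat.card (E' ⊓ E : Subgroup G) * p := by
            rw [h2]; exact Nat.mul_le_mul_left _ (h3.trans h5)
        _ = p * Nat.card (E' ⊓ E : Subgroup G) := Nat.mul_comm _ _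
    exact Nat.le_of_mul_le_mul_left h7 hpp.pos
  -- the final contradiction
  have hex : ∃ y ∈ E' ⊓ E, y ∉ A₂ := by
    by_contra h
    have hle : E' ⊓ E ≤ A₂ := by
      intro y hy
      by_contra hy'
      exact h ⟨y, hy, hy'⟩
    have h1 : p ^ 3 ≤ p * p := hint.trans ((Subgroup.card_le_of_le hle).trans hA₂card)
    have h2 : p * p < p ^ 3 := by
      have : p ^ 3 = p * (p * p) := by ring
      rw [this]
      have hp3 : 0 < p * p := Nat.mul_pos hpp.pos hpp.pos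
      nlinarith
    omega
  obtain ⟨y, hyI, hyA₂⟩ := hex
  obtain ⟨hyE', hyE⟩ := Subgroup.mem_inf.mp hyI
  have hyT : ∀ t ∈ T, y * t = t * y := by
    intro t ht
    obtain ⟨x, hx, z, hz, rfl⟩ := hTmem t ht
    calc y * (x * z) = (y * x) * z := by group
      _ = (x * y) * z := by rw [hEc y hyE x hx]
      _ = x * (y * z) := by group
      _ = x * (z * y) := by rw [hE'c y hyE' z hz]
      _ = x * z * y := by group
  have hyA : y ∈ A := by
    apply hL y _ (hEe y hyE)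
    rw [Subgroup.mem_centralizer_iff]
    intro a ha
    exact (hyT a (hAT ha)).symm
  exact hyA₂ (hEβ (Subgroup.mem_inf.mpr ⟨hyE, hyA⟩))

end Cfsg.Agent.Lib.Helper50.ElemAbFour
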