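import Mathlib.GroupTheory.Nilpotent
import Cfsg.Prelude.Def_SubgroupEmbedding
import Cfsg.Agent.Lib.Helper50.Basic

set_option autoImplicit false

namespace Cfsg.Agent.Lib.Helper50

variable {G : Type*} [Group G]

/-- key consequence of extreme closure -/
theorem extClosed_key {H : Subgroup G} (hcl : Cfsg.IsExtremelyClosed H) (g x : G) (hx : x ∈ H)
    (hn : g * x * g⁻¹ ∈ Subgroup.normalizer (H : Set G)) : g * x * g⁻¹ ∈ H := by
  have h1 : g * x * g⁻¹ ∈ (H ⊔ H.map (MulAut.conj g).toMonoidHom) ⊓ Subgroup.normalizer (H : Set G) :=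
    ⟨Subgroup.mem_sup_right ⟨x, hx, rfl⟩, hn⟩
  rw [hcl g] at h1
  exact h1

/-- An extremely closed subgroup is normal in every `p`-subgroup containing it. -/
theorem extClosed_le_normalizer [Finite G] {p : ℕ} [Fact p.Prime] {H : Subgroup G}
    (hcl : Cfsg.IsExtremelyClosed H) (Q : Subgroup G) (hQ : IsPGroup p Q) (hHQ : H ≤ Q) :
    Q ≤ Subgroup.normalizer (H : Set G) := by
  have : Group.IsNilpotent Q := hQ.isNilpotent
  have hnc : NormalizerCondition Q := Group.normalizerCondition_of_isNilpotent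
  set N := Q ⊓ Subgroup.normalizer (H : Set G) with hN
  by_contra hcon
  have hK : N.subgroupOf Q < ⊤ := by
    rw [lt_top_iff_ne_top, Ne, Subgroup.subgroupOf_eq_top]
    intro h
    exact hcon (h.trans inf_le_right)
  have h2 := hnc _ hK
  obtain ⟨x, hx1, hx2⟩ := SetLike.exists_of_lt h2
  apply hx2
  rw [Subgroup.mem_subgroupOf]
  refine ⟨x.2, ?_⟩
  apply mem_normalizer_of_conj_mem
  intro h hh
  apply extClosed_key hcl (x : G) h hh
  have h3 : (⟨h, hHQ hh⟩ : Q) ∈ N.subgroupOf Q := by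
    rw [Subgroup.mem_subgroupOf]
    exact ⟨hHQ hh, Subgroup.le_normalizer hh⟩
  have h4 : x * ⟨h, hHQ hh⟩ * x⁻¹ ∈ N.subgroupOf Q := (hx1 _).mp h3
  rw [Subgroup.mem_subgroupOf] at h4
  exact h4.2

end Cfsg.Agent.Lib.Helper50
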