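import Cfsg.Agent.Lib.Helper50.CL
import Cfsg.Prelude.Def_PLocal

set_option autoImplicit false

namespace Cfsg.Agent.Lib.Helper50

open Subgroup
open scoped Pointwise

variable {G : Type*} [Group G]

theorem isMulCommutative_iff_le_centralizer (K : Subgroup G) :
    IsMulCommutative K ↔ K ≤ centralizer (K : Set G) :=
  le_centralizer_iff_isMulCommutative.symm

theorem zpowers_le_centralizer_zpowers (x : G) :
    zpowers x ≤ centralizer ((zpowers x : Subgroup G) : Set G) := by
  rw [zpowers_le, mem_centralizer_iff]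
  intro h hh
  obtain ⟨k, rfl⟩ := mem_zpowers_iff.mp hh
  exact (Commute.zpow_left (Commute.refl x) k).eq

/-- An abelian subgroup of largest order is self-centralizing. -/
theorem centralizer_eq_of_maxAbelian [Finite G] {A : Subgroup G}
    (hA : A ∈ Cfsg.maxAbelianSubgroups G) : centralizer (A : Set G) = A := by
  obtain ⟨hab, hmax⟩ := hA
  have hAC : A ≤ centralizer (A : Set G) := (isMulCommutative_iff_le_centralizer A).mp hab
  apply le_antisymm _ hAC
  intro x hx
  have hz : zpowers x ≤ centralizer (A : Set G) := by rw [zpowers_le]; exact hx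
  have hab' : IsMulCommutative (A ⊔ zpowers x : Subgroup G) := by
    rw [isMulCommutative_iff_le_centralizer, centralizer_sup_eq]
    apply sup_le
    · exact le_inf hAC (le_centralizer_iff.mp hz)
    · exact le_inf hz (zpowers_le_centralizer_zpowers x)
  have h1 := hmax _ hab'
  have h2 : A = A ⊔ zpowers x := eq_of_le_of_card_ge le_sup_left h1
  rw [h2]
  exact mem_sup_right (mem_zpowers x)

theorem exists_maxAbelian [Finite G] : ∃ A : Subgroup G, A ∈ Cfsg.maxAbelianSubgroups G := by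
  let 𝒯 : Set (Subgroup G) := {T | IsMulCommutative T}
  have h𝒯fin : 𝒯.Finite := Set.toFinite 𝒯
  have hbot : IsMulCommutative (⊥ : Subgroup G) := by
    rw [isMulCommutative_iff_le_centralizer]; exact bot_le
  have h𝒯ne : 𝒯.Nonempty := ⟨⊥, hbot⟩
  obtain ⟨T₀, hT₀, hmax⟩ := Set.exists_max_image 𝒯 (fun T => Nat.card T) h𝒯fin h𝒯ne
  exact ⟨T₀, hT₀, fun B hB => hmax B hB⟩

/-- Main lemma on a centrally large subgroup `Q` and a largest abelian subgroup `A`. -/
theorem cl_sup_maxAbelian [Finite G] {Q A : Subgroup G} (hQ : Cfsg.IsCentrallyLarge Q)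
    (hA : A ∈ Cfsg.maxAbelianSubgroups G) :
    ((Q ⊔ A : Subgroup G) : Set G) = (Q : Set G) * (A : Set G) ∧ Cfsg.IsCentrallyLarge (Q ⊔ A) ∧
      ((A ⊓ Q) ⊔ zOf Q) ∈ Cfsg.maxAbelianSubgroups G := by
  have hCA := centralizer_eq_of_maxAbelian hA
  obtain ⟨hQcd, hCQ⟩ := (isCentrallyLarge_iff Q).mp hQ
  have hCQz : centralizer (Q : Set G) = zOf Q := centralizer_eq_zOf_of_cl hQ
  set Z := zOf Q with hZ
  have hZQ : Z ≤ Q := zOf_le Q
  have hZC : Z ≤ centralizer (Q : Set G) := zOf_le_centralizer Q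
  have hQCZ : Q ≤ centralizer (Z : Set G) := le_centralizer_iff.mp hZC
  obtain ⟨hab, hmax⟩ := hA
  have hAC : A ≤ centralizer (A : Set G) := (isMulCommutative_iff_le_centralizer A).mp hab
  -- A₁ abelian
  set A₁ := (A ⊓ Q) ⊔ Z with hA₁
  have hA₁ab : IsMulCommutative A₁ := by
    rw [isMulCommutative_iff_le_centralizer, hA₁, centralizer_sup_eq]
    apply sup_le
    · apply le_inf
      · exact inf_le_left.trans (hAC.trans (centralizer_le (by exact_mod_cast (inf_le_left : A ⊓ Q ≤ A))))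
      · exact inf_le_right.trans hQCZ
    · apply le_inf
      · exact hZC.trans (centralizer_le (by exact_mod_cast (inf_le_right : A ⊓ Q ≤ Q)))
      · exact hZQ.trans hQCZ
  have hA₁le : Nat.card A₁ ≤ Nat.card A := hmax _ hA₁ab
  -- star
  have hstar : Nat.card (A ⊓ Q : Subgroup G) * Nat.card Z ≤ Nat.card (A ⊓ Z : Subgroup G) * Nat.card A₁ := by
    have := card_mul_card_le (A ⊓ Q) Z
    have h2 : (A ⊓ Q) ⊓ Z = A ⊓ Z := by
      rw [inf_assoc, inf_eq_right.mpr hZQ]
    rw [h2] at this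
    exact this
  -- Q₁
  set Q₁ := Q ⊔ A with hQ₁
  have hCQ₁ : centralizer (Q₁ : Set G) = Z ⊓ A := by
    rw [hQ₁, centralizer_sup_eq, hCQz, hCA]
  have hcdmQ₁ : cdm Q₁ ≤ cdm Q := by
    rw [(isCentralizerLarge_iff Q).mp hQcd]; exact cdm_le_max Q₁
  have hprod := card_mul_card_le Q A
  unfold cdm at hcdmQ₁
  rw [hCQ₁, hCQz] at hcdmQ₁
  -- notation for cardinalities
  have hcomm : A ⊓ Z = Z ⊓ A := inf_comm _ _
  have hcomm2 : A ⊓ Q = Q ⊓ A := inf_comm _ _
  rw [hcomm, hcomm2] at hstar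
  set q := Nat.card Q with hq
  set a := Nat.card A with ha
  set z := Nat.card Z with hz
  set za := Nat.card (Z ⊓ A : Subgroup G) with hza
  set qa := Nat.card (Q ⊓ A : Subgroup G) with hqa
  set q₁ := Nat.card Q₁ with hq₁
  set a₁ := Nat.card A₁ with ha₁
  have hqpos : 0 < q := Nat.card_pos
  have hapos : 0 < a := Nat.card_pos
  have hzapos : 0 < za := Nat.card_pos
  have hqapos : 0 < qa := Nat.card_pos
  have hzpos : 0 < z := Nat.card_pos
  -- chain
  have c1 : qa * z ≤ za * a := hstar.trans (Nat.mul_le_mul_left _ hA₁le)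
  have c2 : (q * a) * za ≤ (qa * q₁) * za := Nat.mul_le_mul_right _ hprod
  have c3 : qa * (q₁ * za) ≤ qa * (q * z) := Nat.mul_le_mul_left _ hcdmQ₁
  have c4 : (a * za) * q ≤ (qa * z) * q := by
    calc (a * za) * q = (q * a) * za := by ring
      _ ≤ (qa * q₁) * za := c2
      _ = qa * (q₁ * za) := by ring
      _ ≤ qa * (q * z) := c3
      _ = (qa * z) * q := by ring
  have c5 : a * za ≤ qa * z := Nat.le_of_mul_le_mul_right c4 hqpos
  have e1 : qa * z = za * a := le_antisymm c1 (by rw [mul_comm za a]; exact c5)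
  -- consequences
  have e2 : a₁ = a := by
    apply le_antisymm hA₁le
    by_contra hlt
    rw [not_le] at hlt
    have : za * a₁ < za * a := Nat.mul_lt_mul_of_pos_left hlt hzapos
    omega
  have e3 : q * a = qa * q₁ := by
    apply le_antisymm hprod
    by_contra hlt
    rw [not_le] at hlt
    have h1 : (q * a) * za < (qa * q₁) * za := Nat.mul_lt_mul_of_pos_right hlt hzapos
    have h2 : (qa * q₁) * za ≤ (qa * z) * q := by
      calc (qa * q₁) * za = qa * (q₁ * za) := by ring
        _ ≤ qa * (q * z) := c3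
        _ = (qa * z) * q := by ring
    have h3 : (q * a) * za = (za * a) * q := by ring
    rw [h3, ← e1] at h1
    omega
  have e4 : q₁ * za = q * z := by
    apply le_antisymm hcdmQ₁
    by_contra hlt
    rw [not_le] at hlt
    have h1 : qa * (q₁ * za) < qa * (q * z) := Nat.mul_lt_mul_of_pos_left hlt hqapos
    have h2 : (q * a) * za ≤ qa * (q₁ * za) := by
      calc (q * a) * za ≤ (qa * q₁) * za := c2
        _ = _ := by ring
    have h3 : (q * a) * za = (za * a) * q := by ring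
    have h4 : qa * (q * z) = (qa * z) * q := by ring
    rw [h3, ← e1] at h2
    rw [h4] at h1
    omega
  refine ⟨coe_sup_eq_mul_of_card_eq Q A e3, ?_, ⟨hA₁ab, ?_⟩⟩
  · rw [isCentrallyLarge_iff]
    refine ⟨?_, ?_⟩
    · rw [isCentralizerLarge_iff]
      rw [← (isCentralizerLarge_iff Q).mp hQcd]
      unfold cdm
      rw [hCQ₁, hCQz]
      exact e4
    · rw [hCQ₁]
      exact inf_le_left.trans (hZQ.trans le_sup_left)
  · intro B hB
    have := hmax B hB
    omega

end Cfsg.Agent.Lib.Helper50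

namespace Cfsg.Agent.Lib.Helper50

open Subgroup
open scoped Pointwise

variable {G : Type*} [Group G]

theorem cl_maxAbelian_centralizer [Finite G] {Q A : Subgroup G} (hQ : Cfsg.IsCentrallyLarge Q)
    (hA : A ∈ Cfsg.maxAbelianSubgroups G) :
    (Q ⊔ A) ⊓ centralizer ((Q ⊓ A : Subgroup G) : Set G) = zOf Q ⊔ A ∧
    ((zOf Q ⊔ A : Subgroup G) : Set G) = (zOf Q : Set G) * (A : Set G) := by
  obtain ⟨hset, hcl, hA₁⟩ := cl_sup_maxAbelian hQ hA
  have hCA₁ := centralizer_eq_of_maxAbelian hA₁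
  have hZQ : zOf Q ≤ Q := zOf_le Q
  have hZC : zOf Q ≤ centralizer (Q : Set G) := zOf_le_centralizer Q
  have hQCZ : Q ≤ centralizer ((zOf Q : Subgroup G) : Set G) := le_centralizer_iff.mp hZC
  have hAC : A ≤ centralizer (A : Set G) := (isMulCommutative_iff_le_centralizer A).mp hA.1
  have hAQA : A ≤ centralizer ((Q ⊓ A : Subgroup G) : Set G) :=
    hAC.trans (centralizer_le (by exact_mod_cast (inf_le_right : Q ⊓ A ≤ A)))
  have hZQA : zOf Q ≤ centralizer ((Q ⊓ A : Subgroup G) : Set G) :=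
    hZC.trans (centralizer_le (by exact_mod_cast (inf_le_left : Q ⊓ A ≤ Q)))
  have key : ∀ x ∈ (Q ⊔ A) ⊓ centralizer ((Q ⊓ A : Subgroup G) : Set G),
      x ∈ (zOf Q : Set G) * (A : Set G) := by
    rintro x ⟨hx1, hx2⟩
    have hx1' : x ∈ ((Q ⊔ A : Subgroup G) : Set G) := hx1
    rw [hset] at hx1'
    obtain ⟨q, hq, a, ha, rfl⟩ := hx1'
    have hq' : q ∈ Q := hq
    have ha' : a ∈ A := ha
    have ha2 : a ∈ centralizer ((Q ⊓ A : Subgroup G) : Set G) := hAQA ha'
    have hx2' : q * a ∈ centralizer ((Q ⊓ A : Subgroup G) : Set G) := hx2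
    have hq2 : q ∈ centralizer ((Q ⊓ A : Subgroup G) : Set G) := by
      have := mul_mem hx2' (inv_mem ha2)
      simpa using this
    have hq3 : q ∈ centralizer (((A ⊓ Q) ⊔ zOf Q : Subgroup G) : Set G) := by
      rw [centralizer_sup_eq]
      refine ⟨?_, hQCZ hq'⟩
      rw [inf_comm]; exact hq2
    rw [hCA₁, sup_comm] at hq3
    have hnorm : zOf Q ≤ normalizer ((A ⊓ Q : Subgroup G) : Set G) :=
      (hZC.trans (centralizer_le (by exact_mod_cast (inf_le_right : A ⊓ Q ≤ Q)))).trans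
        (centralizer_le_normalizer _)
    have hset2 := coe_mul_of_left_le_normalizer_right (zOf Q) (A ⊓ Q) hnorm
    have hq4 : q ∈ ((zOf Q ⊔ (A ⊓ Q) : Subgroup G) : Set G) := hq3
    rw [hset2] at hq4
    obtain ⟨z, hz, a₂, ha₂, rfl⟩ := hq4
    have ha₂' : a₂ ∈ A := ha₂.1
    exact ⟨z, hz, a₂ * a, mul_mem ha₂' ha', by group⟩
  have hle : zOf Q ⊔ A ≤ (Q ⊔ A) ⊓ centralizer ((Q ⊓ A : Subgroup G) : Set G) :=
    le_inf (sup_le (hZQ.trans le_sup_left) le_sup_right) (sup_le hZQA hAQA)
  have hmulle : (zOf Q : Set G) * (A : Set G) ⊆ ((zOf Q ⊔ A : Subgroup G) : Set G) := by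
    rintro _ ⟨z, hz, a, ha, rfl⟩
    exact mul_mem (mem_sup_left hz) (mem_sup_right ha)
  refine ⟨le_antisymm (fun x hx => hmulle (key x hx)) hle, ?_⟩
  apply Set.Subset.antisymm _ hmulle
  intro x hx
  exact key x (hle hx)

/-- If `T` is centrally large and contains every largest abelian subgroup, then it contains
`C(Z(J))`. -/
theorem centralizer_zOf_thompsonA_le [Finite G] {T : Subgroup G} (hT : Cfsg.IsCentrallyLarge T)
    (hA : ∀ A ∈ Cfsg.maxAbelianSubgroups G, A ≤ T) :
    centralizer ((Cfsg.thompsonSubgroupA G ⊓ centralizer (Cfsg.thompsonSubgroupA G : Set G) :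
      Subgroup G) : Set G) ≤ T := by
  set J := Cfsg.thompsonSubgroupA G with hJ
  have hJT : J ≤ T := sSup_le hA
  obtain ⟨A, hAmax⟩ := exists_maxAbelian (G := G)
  have hAJ : A ≤ J := le_sSup hAmax
  have hCJ : centralizer (J : Set G) ≤ J := by
    calc centralizer (J : Set G) ≤ centralizer (A : Set G) := centralizer_le (by exact_mod_cast hAJ)
      _ = A := centralizer_eq_of_maxAbelian hAmax
      _ ≤ J := hAJ
  have hzJ : J ⊓ centralizer (J : Set G) = centralizer (J : Set G) := inf_eq_right.mpr hCJ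
  rw [hzJ]
  obtain ⟨hTcd, -⟩ := (isCentrallyLarge_iff T).mp hT
  obtain ⟨-, hTT⟩ := cd_centralizer hTcd
  have h1 : centralizer (T : Set G) ≤ centralizer (J : Set G) := centralizer_le (by exact_mod_cast hJT)
  calc centralizer ((centralizer (J : Set G) : Subgroup G) : Set G)
      ≤ centralizer ((centralizer (T : Set G) : Subgroup G) : Set G) := centralizer_le (by exact_mod_cast h1)
    _ = T := hTT.symm

theorem centralizer_zOf_thompsonA_le_clJoin [Finite G] :
    centralizer ((Cfsg.thompsonSubgroupA G ⊓ centralizer (Cfsg.thompsonSubgroupA G : Set G) :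
      Subgroup G) : Set G) ≤ Cfsg.centrallyLargeJoin G := by
  apply centralizer_zOf_thompsonA_le cl_centrallyLargeJoin
  intro A hA
  have h1 : Cfsg.IsCentrallyLarge (Cfsg.centrallyLargeJoin G ⊔ A) :=
    (cl_sup_maxAbelian cl_centrallyLargeJoin hA).2.1
  have h2 : Cfsg.centrallyLargeJoin G ⊔ A ≤ Cfsg.centrallyLargeJoin G := le_sSup h1
  exact le_sup_right.trans h2

end Cfsg.Agent.Lib.Helper50
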