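import Mathlib.GroupTheory.Transfer
import Mathlib.GroupTheory.SpecificGroups.Cyclic

set_option autoImplicit false

namespace Cfsg.Agent.Lib.Helper50

open Subgroup

/-- If the intersections of `M` with its other conjugates are killed by `ϕ`, the transfer
restricted to `M` is `ϕ`. -/
theorem transfer_eq_self_of_inter {G : Type*} [Group G] {M : Subgroup G} [M.FiniteIndex]
    {A : Type*} [CommGroup A] (ϕ : M →* A)
    (hB : ∀ t : G, t ∉ M → ∀ (y : G) (hy : y ∈ M), t * y * t⁻¹ ∈ M → ϕ ⟨y, hy⟩ = 1)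
    (x : G) (hx : x ∈ M) : MonoidHom.transfer ϕ x = ϕ ⟨x, hx⟩ := by
  classical
  have : Fintype (Quotient (MulAction.orbitRel (zpowers x) (G ⧸ M))) := Fintype.ofFinite _
  rw [MonoidHom.transfer_eq_prod_quotient_orbitRel_zpowers_quot]
  have hfix : x • ((1 : G) : G ⧸ M) = ((1 : G) : G ⧸ M) := by
    rw [MulAction.Quotient.smul_coe, QuotientGroup.eq]
    simpa using hx
  have hout : ∀ q : Quotient (MulAction.orbitRel (zpowers x) (G ⧸ M)),
      q.out.out ∈ M → q.out = ((1 : G) : G ⧸ M) := by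
    intro q hq
    have h1 : ((q.out.out : G) : G ⧸ M) = q.out := QuotientGroup.out_eq' _
    rw [← h1, QuotientGroup.eq]
    simpa using M.inv_mem hq
  set q₀ : Quotient (MulAction.orbitRel (zpowers x) (G ⧸ M)) :=
    Quotient.mk'' ((1 : G) : G ⧸ M) with hq₀
  have hq₀out : q₀.out = ((1 : G) : G ⧸ M) := by
    have h1 : (MulAction.orbitRel (zpowers x) (G ⧸ M)) q₀.out ((1 : G) : G ⧸ M) :=
      Quotient.exact' (Quotient.out_eq' q₀)
    rw [MulAction.orbitRel_apply] at h1
    obtain ⟨⟨z, hz⟩, hz2⟩ := h1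
    rw [← hz2]
    obtain ⟨k, rfl⟩ := mem_zpowers_iff.1 hz
    change (x ^ k) • ((1 : G) : G ⧸ M) = _
    have : ∀ k : ℤ, (x ^ k) • ((1 : G) : G ⧸ M) = ((1 : G) : G ⧸ M) := by
      intro k
      rw [MulAction.Quotient.smul_coe, QuotientGroup.eq]
      simpa using M.zpow_mem hx k
    exact this k
  rw [Finset.prod_eq_single q₀]
  · have hper : Function.minimalPeriod (x • ·) q₀.out = 1 := by
      rw [Function.minimalPeriod_eq_one_iff_isFixedPt, hq₀out]
      exact hfix
    have hmem : q₀.out.out ∈ M := by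
      have h1 : ((q₀.out.out : G) : G ⧸ M) = ((1 : G) : G ⧸ M) := by
        rw [QuotientGroup.out_eq', hq₀out]
      rw [QuotientGroup.eq] at h1
      simpa using M.inv_mem h1
    have : (⟨q₀.out.out⁻¹ * x ^ Function.minimalPeriod (x • ·) q₀.out * q₀.out.out,
        QuotientGroup.out_conj_pow_minimalPeriod_mem M x q₀.out⟩ : M) =
        (⟨q₀.out.out, hmem⟩ : M)⁻¹ * ⟨x, hx⟩ * ⟨q₀.out.out, hmem⟩ := by
      apply Subtype.ext
      simp [hper]
    rw [this, map_mul, map_mul, map_inv]
    rw [mul_comm, ← mul_assoc, mul_inv_cancel, one_mul]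
  · intro q _ hq
    have hnot : q.out.out ∉ M := by
      intro hmem
      apply hq
      have h1 := hout q hmem
      rw [hq₀, ← h1]
      exact (Quotient.out_eq' q).symm
    apply hB q.out.out hnot
    have h2 := QuotientGroup.out_conj_pow_minimalPeriod_mem M x q.out
    have : q.out.out * (q.out.out⁻¹ * x ^ Function.minimalPeriod (x • ·) q.out * q.out.out) *
        q.out.out⁻¹ = x ^ Function.minimalPeriod (x • ·) q.out := by group
    rw [this]
    exact M.pow_mem hx _
  · intro h
    exact absurd (Finset.mem_univ _) h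

end Cfsg.Agent.Lib.Helper50
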