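import Cfsg.Agent.Lib.Helper50.Basic
import Cfsg.Agent.Lib.Helper50.TransferTI
import Mathlib.GroupTheory.Abelianization.Defs

set_option autoImplicit false

namespace Cfsg.Agent.Lib.Helper50

open Subgroup

variable {G : Type*} [Group G]

/-- interval property of a coatom `H.subgroupOf M` expressed in `G`. -/
theorem le_of_coatom_subgroupOf {H M : Subgroup G}
    (hmaxH : IsCoatom (H.subgroupOf M)) (K : Subgroup G) (hHK : H ≤ K) (hK : ¬ K ⊓ M ≤ H) :
    M ≤ K := by
  obtain ⟨k, hkK, hkH⟩ := SetLike.not_le_iff_exists.1 hK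
  have hle : H.subgroupOf M ≤ K.subgroupOf M := fun x hx => hHK hx
  have hne : H.subgroupOf M ≠ K.subgroupOf M := by
    intro h
    have : (⟨k, hkK.2⟩ : M) ∈ K.subgroupOf M := hkK.1
    rw [← h] at this
    exact hkH this
  have := hmaxH.2 _ (lt_of_le_of_ne hle hne)
  exact Subgroup.subgroupOf_eq_top.1 this

/-- interval property of a coatom `M`. -/
theorem eq_top_of_coatom {M : Subgroup G} (hmaxM : IsCoatom M) (K : Subgroup G) (hMK : M ≤ K)
    (hK : ¬ K ≤ M) : K = ⊤ :=
  hmaxM.2 _ (lt_of_le_not_ge hMK hK)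

/-- Case A: an element of `M ∩ M^g` outside `H` forces `M` to normalize `H ⊔ H^g`. -/
theorem le_normalizer_sup_conj [Finite G] {H M : Subgroup G} (hHM : H ≤ M)
    (hE1 : ∀ m ∈ M, ∀ h ∈ H, m * h * m⁻¹ ∈ H)
    (hmaxH : IsCoatom (H.subgroupOf M))
    (g y : G) (hy : y ∈ M) (hy' : g⁻¹ * y * g ∈ M) (hyH : y ∉ H) :
    M ≤ Subgroup.normalizer ((H ⊔ H.map (MulAut.conj g).toMonoidHom : Subgroup G) : Set G) := by
  set K : Subgroup G := H ⊔ H.map (MulAut.conj g).toMonoidHom with hK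
  have hyN : y ∈ Subgroup.normalizer (K : Set G) := by
    apply mem_normalizer_of_conj_mem
    intro x hx
    have h1 : y * x * y⁻¹ ∈ K.map (MulAut.conj y).toMonoidHom := ⟨x, hx, rfl⟩
    rw [hK, Subgroup.map_sup] at h1
    have h2 : H.map (MulAut.conj y).toMonoidHom ≤ K := by
      rw [map_conj_le_iff]
      intro h hh
      exact (le_sup_left : H ≤ K) (hE1 y hy h hh)
    have h3 : (H.map (MulAut.conj g).toMonoidHom).map (MulAut.conj y).toMonoidHom ≤ K := by
      rw [map_conj_le_iff]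
      intro z hz
      apply (le_sup_right : H.map (MulAut.conj g).toMonoidHom ≤ K)
      rw [mem_map_conj_iff] at hz ⊢
      have := hE1 _ hy' _ hz
      have e : g⁻¹ * (y * z * y⁻¹) * g = g⁻¹ * y * g * (g⁻¹ * z * g) * (g⁻¹ * y * g)⁻¹ := by
        group
      rw [e]
      exact this
    exact (sup_le h2 h3) h1
  apply le_of_coatom_subgroupOf hmaxH
  · exact le_trans (le_sup_left : H ≤ K) Subgroup.le_normalizer
  · intro hle
    exact hyH (hle ⟨hyN, hy⟩)

/-- Case B: if all intersections `M ∩ M^t` (`t ∉ M`) lie in `H`, the transfer into the cyclic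
quotient `M / H` has a kernel meeting `M` in `H`. -/
theorem exists_normal_inter_eq [Finite G] {H M : Subgroup G} (hHM : H ≤ M)
    (hn : (H.subgroupOf M).Normal) (hmaxH : IsCoatom (H.subgroupOf M))
    (hB : ∀ t : G, t ∉ M → ∀ y ∈ M, t * y * t⁻¹ ∈ M → y ∈ H) :
    ∃ N : Subgroup G, N.Normal ∧ N ⊓ M = H ∧ commutator G ≤ N := by
  classical
  have hcyc : IsCyclic (↥M ⧸ H.subgroupOf M) := by
    obtain ⟨x, -, hx⟩ := SetLike.exists_of_lt hmaxH.lt_top
    refine ⟨⟨QuotientGroup.mk' (H.subgroupOf M) x, ?_⟩⟩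
    intro q
    obtain ⟨m, rfl⟩ := QuotientGroup.mk'_surjective _ q
    set Z : Subgroup (↥M ⧸ H.subgroupOf M) :=
      Subgroup.zpowers (QuotientGroup.mk' (H.subgroupOf M) x)
    have hle : H.subgroupOf M ≤ Z.comap (QuotientGroup.mk' (H.subgroupOf M)) := by
      intro h hh
      rw [Subgroup.mem_comap]
      have : QuotientGroup.mk' (H.subgroupOf M) h = 1 := by
        rw [QuotientGroup.mk'_apply, QuotientGroup.eq_one_iff]
        exact hh
      rw [this]
      exact Z.one_mem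
    have hne : H.subgroupOf M ≠ Z.comap (QuotientGroup.mk' (H.subgroupOf M)) := by
      intro h
      apply hx
      rw [h, Subgroup.mem_comap]
      exact Subgroup.mem_zpowers _
    have htop := hmaxH.2 _ (lt_of_le_of_ne hle hne)
    have : m ∈ Z.comap (QuotientGroup.mk' (H.subgroupOf M)) := by
      rw [htop]; exact Subgroup.mem_top _
    exact this
  let _ : CommGroup (↥M ⧸ H.subgroupOf M) := IsCyclic.commGroup
  let ϕ : ↥M →* ↥M ⧸ H.subgroupOf M := QuotientGroup.mk' (H.subgroupOf M)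
  have hϕ : ∀ (y : G) (hy : y ∈ M), ϕ ⟨y, hy⟩ = 1 ↔ y ∈ H := by
    intro y hy
    rw [QuotientGroup.mk'_apply, QuotientGroup.eq_one_iff, Subgroup.mem_subgroupOf]
  have htr : ∀ (x : G) (hx : x ∈ M), MonoidHom.transfer ϕ x = ϕ ⟨x, hx⟩ := by
    intro x hx
    apply transfer_eq_self_of_inter ϕ _ x hx
    intro t ht y hy hty
    exact (hϕ y hy).2 (hB t ht y hy hty)
  refine ⟨(MonoidHom.transfer ϕ).ker, MonoidHom.normal_ker _, ?_, ?_⟩
  · ext x
    rw [Subgroup.mem_inf, MonoidHom.mem_ker]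
    constructor
    · rintro ⟨h1, h2⟩
      rw [htr x h2] at h1
      exact (hϕ x h2).1 h1
    · intro hx
      refine ⟨?_, hHM hx⟩
      rw [htr x (hHM hx)]
      exact (hϕ x (hHM hx)).2 hx
  · exact Abelianization.commutator_subset_ker _

end Cfsg.Agent.Lib.Helper50
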