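import Mathlib

set_option autoImplicit false

namespace Cfsg.Agent.Lib.Helper50.NormPairs

open Finset

section Jacobi

variable {F : Type*} [Field F] [Fintype F]

/-- Every Jacobi sum `J(χ, φ)` with `(χ, φ) ≠ (1, 1)` has absolute value at most `√#F`. -/
lemma norm_jacobiSum_le (χ φ : MulChar F ℂ) (h : ¬ (χ = 1 ∧ φ = 1)) :
    ‖jacobiSum χ φ‖ ≤ Real.sqrt (Fintype.card F) := by
  classical
  have hQ1 : (1:ℝ) ≤ Real.sqrt (Fintype.card F) := by
    rw [Real.one_le_sqrt]; exact_mod_cast Fintype.card_pos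
  by_cases hχ : χ = 1
  · have hφ : φ ≠ 1 := fun h' => h ⟨hχ, h'⟩
    rw [hχ, jacobiSum_one_nontrivial hφ]; simpa using hQ1
  by_cases hφ : φ = 1
  · rw [hφ, jacobiSum_comm, jacobiSum_one_nontrivial hχ]; simpa using hQ1
  by_cases hχφ : χ * φ = 1
  · have : φ = χ⁻¹ := eq_inv_of_mul_eq_one_right hχφ
    rw [this, jacobiSum_nontrivial_inv hχ, norm_neg]
    have h1 : χ (-1) ^ 2 = 1 := by
      rw [← map_pow]; simp
    have h2 : ‖χ (-1)‖ ^ 2 = 1 := by rw [← norm_pow, h1, norm_one]
    have h3 : ‖χ (-1)‖ = 1 := by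
      have := norm_nonneg (χ (-1))
      nlinarith
    rw [h3]; exact hQ1
  · have hchar : ringChar ℂ ≠ ringChar F := by
      rw [ringChar.eq_zero]
      obtain ⟨p, hp⟩ := CharP.exists F
      have := CharP.char_is_prime F p
      rw [ringChar.eq F p]
      exact this.ne_zero.symm
    have key := jacobiSum_mul_jacobiSum_inv hchar hχ hφ hχφ
    have hconj : jacobiSum χ⁻¹ φ⁻¹ = starRingEnd ℂ (jacobiSum χ φ) := by
      rw [← MulChar.star_eq_inv, ← MulChar.star_eq_inv]
      exact jacobiSum_ringHomComp χ φ (starRingEnd ℂ)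
    rw [hconj, Complex.mul_conj] at key
    have h4 : Complex.normSq (jacobiSum χ φ) = Fintype.card F := by exact_mod_cast key
    rw [Complex.normSq_eq_norm_sq] at h4
    rw [← h4, Real.sqrt_sq (norm_nonneg _)]

/-- Values of a multiplicative character have absolute value at most one. -/
lemma norm_apply_le_one (χ : MulChar F ℂ) (x : F) : ‖χ x‖ ≤ 1 := by
  by_cases hx : x = 0
  · rw [hx, MulChar.map_zero, norm_zero]; exact zero_le_one
  · have h1 : (χ x) ^ (Fintype.card F - 1) = 1 := by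
      rw [← map_pow, FiniteField.pow_card_sub_one_eq_one x hx, map_one]
    have h2 : ‖χ x‖ ^ (Fintype.card F - 1) = 1 := by rw [← norm_pow, h1, norm_one]
    have h3 : Fintype.card F - 1 ≠ 0 := by
      have := Fintype.one_lt_card (α := F); omega
    exact le_of_eq ((pow_eq_one_iff_of_nonneg (norm_nonneg _) h3).mp h2)

end Jacobi

section Count

variable {F : Type*} [Field F] [Fintype F] [DecidableEq F]

/-- A character of exact order `n` only takes the value `1` on `n`-th powers,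
i.e. on elements killed by the exponent `(#F - 1) / n`. -/
lemma pow_eq_one_of_apply_eq_one {n : ℕ} (ω : MulChar F ℂ) (hω : orderOf ω = n)
    (hn : n ∣ Fintype.card F - 1) {x : F} (hx : x ≠ 0) (h : ω x = 1) :
    x ^ ((Fintype.card F - 1) / n) = 1 := by
  obtain ⟨g, hg⟩ := IsCyclic.exists_monoid_generator (α := Fˣ)
  set u : Fˣ := Units.mk0 x hx with hu
  obtain ⟨k, hk⟩ := (Submonoid.mem_powers_iff _ _).mp (hg u)
  have h1 : ω (g : F) ^ k = 1 := by
    rw [← map_pow, ← Units.val_pow_eq_pow_val, hk]; exact h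
  have h2 : ω ^ k = 1 := by
    ext v
    obtain ⟨i, hi⟩ := (Submonoid.mem_powers_iff _ _).mp (hg v)
    rw [MulChar.pow_apply_coe, MulChar.one_apply_coe, ← hi, Units.val_pow_eq_pow_val, map_pow,
      ← pow_mul, mul_comm, pow_mul, h1, one_pow]
  have h3 : n ∣ k := hω ▸ orderOf_dvd_of_pow_eq_one h2
  obtain ⟨d, rfl⟩ := h3
  have h4 : u ^ ((Fintype.card F - 1) / n) = 1 := by
    rw [← hk, ← pow_mul, mul_comm n d, mul_assoc, Nat.mul_div_cancel' hn, ← Fintype.card_units,
      pow_mul', pow_card_eq_one, one_pow]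
  have := congrArg Units.val h4
  simpa [hu] using this

omit [Fintype F] in
/-- The sum of the values at `x` of the powers of a character with `ω ^ n = 1` is `n` or `0`. -/
lemma sum_pow_apply {n : ℕ} (ω : MulChar F ℂ) (hω : ω ^ n = 1) (x : F) :
    ∑ j ∈ range n, (ω ^ j) x = if ω x = 1 then (n : ℂ) else 0 := by
  by_cases hx : x = 0
  · subst hx
    have : ω (0 : F) ≠ 1 := by rw [MulChar.map_zero]; exact zero_ne_one
    rw [if_neg this]
    exact Finset.sum_eq_zero (fun j _ => MulChar.map_zero _)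
  have hpow : ∀ j, (ω ^ j) x = (ω x) ^ j := fun j => by
    have := MulChar.pow_apply_coe ω j (Units.mk0 x hx)
    simpa using this
  simp_rw [hpow]
  split_ifs with h
  · simp [h]
  · have h1 : (ω x) ^ n = 1 := by
      rw [← hpow, hω]
      have := MulChar.one_apply_coe (R' := ℂ) (Units.mk0 x hx)
      simpa using this
    have h2 := geom_sum_mul (ω x) n
    rw [h1, sub_self] at h2
    exact (mul_eq_zero.mp h2).resolve_right (sub_ne_zero.mpr h)

omit [DecidableEq F] in
/-- Twisted Jacobi sums: substitute `a = 2 b`. -/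
lemma sum_apply_mul_apply_two_sub (h2 : (2 : F) ≠ 0) (χ φ : MulChar F ℂ) :
    ∑ a : F, χ a * φ (2 - a) = (χ 2 * φ 2) * jacobiSum χ φ := by
  rw [jacobiSum, Finset.mul_sum,
    ← Equiv.sum_comp (Equiv.mulLeft₀ (2 : F) h2) (fun a => χ a * φ (2 - a))]
  refine Finset.sum_congr rfl (fun b _ => ?_)
  have : (2 : F) - 2 * b = 2 * (1 - b) := by ring
  simp only [Equiv.mulLeft₀_apply, this, map_mul]
  ring

/-- If `#F` is large compared to `n`, there is `a ≠ 1` such that `a` and `2 - a` are both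
killed by the exponent `(#F - 1) / n` (i.e. both are `n`-th powers). -/
theorem exists_ne_one_pow_eq_one (n : ℕ) (hn0 : 0 < n) (hn : n ∣ Fintype.card F - 1)
    (h2 : (2 : F) ≠ 0)
    (hbig : (n : ℝ) ^ 2 + 2 + ((n : ℝ) ^ 2 - 1) * Real.sqrt (Fintype.card F) < Fintype.card F) :
    ∃ a : F, a ≠ 1 ∧ a ^ ((Fintype.card F - 1) / n) = 1 ∧
      (2 - a) ^ ((Fintype.card F - 1) / n) = 1 := by
  obtain ⟨ω, hω⟩ := MulChar.exists_mulChar_orderOf F hn (Complex.isPrimitiveRoot_exp n hn0.ne')
  have hωn : ω ^ n = 1 := hω ▸ pow_orderOf_eq_one ω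
  set E' : Finset F := univ.filter (fun a => ω a = 1 ∧ ω (2 - a) = 1) with hE'
  set T : ℕ × ℕ → ℂ := fun jk =>
    ((ω ^ jk.1) 2 * (ω ^ jk.2) 2) * jacobiSum (ω ^ jk.1) (ω ^ jk.2) with hT
  have hS1 : ∑ a : F, (∑ j ∈ range n, (ω ^ j) a) * (∑ k ∈ range n, (ω ^ k) (2 - a)) =
      (n : ℂ) ^ 2 * E'.card := by
    simp_rw [sum_pow_apply ω hωn]
    rw [hE', Finset.card_filter, Nat.cast_sum, Finset.mul_sum]
    refine Finset.sum_congr rfl (fun a _ => ?_)
    by_cases h1 : ω a = 1 <;> by_cases h2' : ω (2 - a) = 1 <;> simp [h1, h2', sq]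
  have hS2 : ∑ a : F, (∑ j ∈ range n, (ω ^ j) a) * (∑ k ∈ range n, (ω ^ k) (2 - a)) =
      ∑ jk ∈ range n ×ˢ range n, T jk := by
    simp_rw [Finset.sum_mul_sum]
    rw [Finset.sum_comm, Finset.sum_product]
    refine Finset.sum_congr rfl (fun j _ => ?_)
    rw [Finset.sum_comm]
    refine Finset.sum_congr rfl (fun k _ => ?_)
    exact sum_apply_mul_apply_two_sub h2 (ω ^ j) (ω ^ k)
  have h00 : ((0 : ℕ), (0 : ℕ)) ∈ range n ×ˢ range n := by
    simp [hn0]
  have hT00 : T (0, 0) = (Fintype.card F : ℂ) - 2 := by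
    have hu : ((1 : MulChar F ℂ)) (2 : F) = 1 := by
      have := MulChar.one_apply_coe (R' := ℂ) (Units.mk0 (2 : F) h2)
      simpa using this
    simp only [hT, pow_zero, hu, one_mul, jacobiSum_one_one]
  have hbound : ∀ jk ∈ (range n ×ˢ range n).erase (0, 0),
      ‖T jk‖ ≤ Real.sqrt (Fintype.card F) := by
    rintro ⟨j, k⟩ hjk
    rw [Finset.mem_erase, Finset.mem_product, Finset.mem_range, Finset.mem_range] at hjk
    obtain ⟨hne, hj, hk⟩ := hjk
    have hnot : ¬ (ω ^ j = 1 ∧ ω ^ k = 1) := by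
      rintro ⟨h1, h2'⟩
      have hj0 : j = 0 :=
        Nat.eq_zero_of_dvd_of_lt (hω ▸ orderOf_dvd_of_pow_eq_one h1) hj
      have hk0 : k = 0 :=
        Nat.eq_zero_of_dvd_of_lt (hω ▸ orderOf_dvd_of_pow_eq_one h2') hk
      exact hne (by rw [hj0, hk0])
    have hJ := norm_jacobiSum_le (ω ^ j) (ω ^ k) hnot
    have h1 := norm_apply_le_one (ω ^ j) 2
    have h2' := norm_apply_le_one (ω ^ k) 2
    simp only [hT, norm_mul]
    have h3 : ‖(ω ^ j) 2‖ * ‖(ω ^ k) 2‖ ≤ 1 := by
      have := mul_le_mul h1 h2' (norm_nonneg _) zero_le_one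
      simpa using this
    calc ‖(ω ^ j) 2‖ * ‖(ω ^ k) 2‖ * ‖jacobiSum (ω ^ j) (ω ^ k)‖
        ≤ 1 * Real.sqrt (Fintype.card F) :=
          mul_le_mul h3 hJ (norm_nonneg _) zero_le_one
      _ = Real.sqrt (Fintype.card F) := one_mul _
  have hR : ‖∑ jk ∈ (range n ×ˢ range n).erase (0, 0), T jk‖ ≤
      ((n : ℝ) ^ 2 - 1) * Real.sqrt (Fintype.card F) := by
    refine (norm_sum_le _ _).trans ?_
    refine (Finset.sum_le_card_nsmul _ _ _ hbound).trans ?_
    rw [Finset.card_erase_of_mem h00, Finset.card_product, Finset.card_range, nsmul_eq_mul]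
    have hn1 : 1 ≤ n * n := Nat.mul_pos hn0 hn0
    rw [Nat.cast_sub hn1]
    push_cast
    rw [sq]
  have hsplit : (n : ℂ) ^ 2 * E'.card - ((Fintype.card F : ℂ) - 2) =
      ∑ jk ∈ (range n ×ˢ range n).erase (0, 0), T jk := by
    rw [← hS1, hS2, ← Finset.add_sum_erase _ _ h00, hT00]; ring
  have hreal : ‖(n : ℂ) ^ 2 * E'.card - ((Fintype.card F : ℂ) - 2)‖ =
      |(n : ℝ) ^ 2 * E'.card - ((Fintype.card F : ℝ) - 2)| := by
    have : ((n : ℂ) ^ 2 * E'.card - ((Fintype.card F : ℂ) - 2)) =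
        (((n : ℝ) ^ 2 * E'.card - ((Fintype.card F : ℝ) - 2) : ℝ) : ℂ) := by
      push_cast; ring
    rw [this, Complex.norm_real, Real.norm_eq_abs]
  rw [hsplit] at hreal
  rw [hreal] at hR
  have hcard : (1 : ℝ) < E'.card := by
    have h1 := (abs_le.mp hR).1
    have hnpos : (0 : ℝ) < (n : ℝ) ^ 2 := by positivity
    by_contra hle
    rw [not_lt] at hle
    have : (n : ℝ) ^ 2 * E'.card ≤ (n : ℝ) ^ 2 * 1 := mul_le_mul_of_nonneg_left hle hnpos.le
    linarith
  have hcard' : 1 < E'.card := by exact_mod_cast hcard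
  obtain ⟨a, haE, ha1⟩ := Finset.exists_mem_ne hcard' 1
  rw [hE', Finset.mem_filter] at haE
  obtain ⟨-, ha, hb⟩ := haE
  have ha0 : a ≠ 0 := by
    rintro rfl
    rw [MulChar.map_zero] at ha
    exact zero_ne_one ha
  have hb0 : 2 - a ≠ 0 := by
    intro h0
    rw [h0, MulChar.map_zero] at hb
    exact zero_ne_one hb
  exact ⟨a, ha1, pow_eq_one_of_apply_eq_one ω hω hn ha0 ha,
    pow_eq_one_of_apply_eq_one ω hω hn hb0 hb⟩

end Count

section Cubic

open Polynomial

/-- In `AdjoinRoot f` with `f` monic, `N(t - root f) = f(t)`. -/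
lemma norm_algebraMap_sub_root {K : Type*} [Field K] {f : K[X]} (hf : f.Monic) (t : K) :
    Algebra.norm K (algebraMap K (AdjoinRoot f) t - AdjoinRoot.root f) = f.eval t := by
  classical
  have hf0 : f ≠ 0 := hf.ne_zero
  set pb := AdjoinRoot.powerBasis hf0 with hpb
  have hgen : pb.gen = AdjoinRoot.root f := AdjoinRoot.powerBasis_gen hf0
  have hmin : minpoly K pb.gen = f := by
    rw [hgen, AdjoinRoot.minpoly_root hf0, hf.leadingCoeff, inv_one, C_1, mul_one]
  have key := Matrix.eval_charpoly (Algebra.leftMulMatrix pb.basis pb.gen) t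
  rw [charpoly_leftMulMatrix pb, hmin] at key
  rw [Algebra.norm_eq_matrix_det pb.basis, map_sub, AlgHom.commutes, ← hgen, key]
  rfl

/-- The case `q = 3`: the pigeonhole principle gives an irreducible cubic `X³ - X + c`, a root
`z` of which satisfies `N(z - 1) = N(z) = N(z + 1)`. -/
theorem exists_ne_one_norm_cubic (p : ℕ) [Fact p.Prime] :
    ∃ a : GaloisField p 3, a ≠ 1 ∧ Algebra.norm (ZMod p) a = 1 ∧
      Algebra.norm (ZMod p) (2 - a) = 1 := by
  classical
  have hninj : ¬ Function.Injective (fun t : ZMod p => t ^ 3 - t) := by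
    intro h
    have : (0 : ZMod p) = 1 := h (by simp)
    exact zero_ne_one this
  have hnsurj : ¬ Function.Surjective (fun t : ZMod p => t ^ 3 - t) :=
    fun h => hninj (Finite.injective_iff_surjective.mpr h)
  obtain ⟨d, hd⟩ := not_forall.mp hnsurj
  set c : ZMod p := -d with hc
  set f : (ZMod p)[X] := X ^ 3 - X + C c with hf
  have hmonic : f.Monic := by
    rw [hf]; monicity!
  have hdeg : f.natDegree = 3 := by
    rw [hf]; compute_degree!
  have heval : ∀ t : ZMod p, f.eval t = t ^ 3 - t + c := by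
    intro t; simp [hf]
  have hroots : f.roots = 0 := by
    rw [Multiset.eq_zero_iff_forall_notMem]
    intro t ht
    have h1 := (mem_roots hmonic.ne_zero).mp ht
    rw [IsRoot, heval] at h1
    exact hd ⟨t, by simp only [hc] at h1; linear_combination h1⟩
  have hirr : Irreducible f :=
    (hmonic.irreducible_iff_roots_eq_zero_of_degree_le_three (by omega) (by omega)).mpr hroots
  have : Fact (Irreducible f) := ⟨hirr⟩
  have hfin : Module.finrank (ZMod p) (AdjoinRoot f) = 3 := by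
    rw [(AdjoinRoot.powerBasis hmonic.ne_zero).finrank, AdjoinRoot.powerBasis_dim, hdeg]
  have : Module.Finite (ZMod p) (AdjoinRoot f) := (AdjoinRoot.powerBasis hmonic.ne_zero).finite
  have hcard : Nat.card (AdjoinRoot f) = p ^ 3 := by
    rw [Module.natCard_eq_pow_finrank (K := ZMod p), Nat.card_zmod, hfin]
  let e := GaloisField.algEquivGaloisField p 3 hcard
  set z : AdjoinRoot f := AdjoinRoot.root f with hz
  have hneg1 : Algebra.norm (ZMod p) (-1 : AdjoinRoot f) = -1 := by
    have : Algebra.norm (ZMod p) (algebraMap (ZMod p) (AdjoinRoot f) (-1)) = _ :=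
      Algebra.norm_algebraMap (-1 : ZMod p)
    rw [hfin] at this
    rw [map_neg, map_one] at this
    rw [this]; ring
  have hN : ∀ t : ZMod p, Algebra.norm (ZMod p) (z - algebraMap _ (AdjoinRoot f) t) =
      -(t ^ 3 - t + c) := by
    intro t
    have h1 : z - algebraMap _ (AdjoinRoot f) t = (-1) * (algebraMap _ (AdjoinRoot f) t - z) := by
      ring
    rw [h1, map_mul, hneg1, norm_algebraMap_sub_root hmonic, heval]; ring
  have hc0 : c ≠ 0 := by
    intro h0
    exact hd ⟨0, by simp only [hc] at h0; show (0 : ZMod p) ^ 3 - 0 = d; linear_combination h0⟩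
  have hNz : Algebra.norm (ZMod p) z = -c := by
    have := hN 0; simpa using this
  have hNz1 : Algebra.norm (ZMod p) (z - 1) = -c := by
    have := hN 1; simpa using this
  have hNz2 : Algebra.norm (ZMod p) (z + 1) = -c := by
    have := hN (-1)
    rw [map_neg, map_one, sub_neg_eq_add] at this
    rw [this]
    have : Odd 3 := by decide
    rw [this.neg_one_pow]; ring
  have hz0 : z ≠ 0 := by
    intro h0
    rw [h0, Algebra.norm_zero] at hNz
    exact hc0 (by linear_combination hNz)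
  have hnc : -c ≠ 0 := neg_ne_zero.mpr hc0
  refine ⟨e ((z + 1) / z), ?_, ?_, ?_⟩
  · intro h1
    have h2 : (z + 1) / z = 1 := by
      apply e.injective; rw [h1, map_one]
    rw [div_eq_one_iff_eq hz0] at h2
    have : (1 : AdjoinRoot f) = 0 := by linear_combination h2
    exact one_ne_zero this
  · rw [Algebra.norm_eq_of_algEquiv, div_eq_mul_inv, map_mul, Algebra.norm_inv, hNz2, hNz,
      mul_inv_cancel₀ hnc]
  · have h1 : (2 : GaloisField p 3) - e ((z + 1) / z) = e ((z - 1) / z) := by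
      have : (z - 1) / z = 2 - (z + 1) / z := by
        field_simp; ring
      rw [this, map_sub, map_ofNat]
    rw [h1, Algebra.norm_eq_of_algEquiv, div_eq_mul_inv, map_mul, Algebra.norm_inv, hNz1, hNz,
      mul_inv_cancel₀ hnc]

end Cubic

end Cfsg.Agent.Lib.Helper50.NormPairs
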