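import Cfsg.Agent.Lib.Helper50.MCL

set_option autoImplicit false

namespace Cfsg.Agent.Lib.Helper50

open Subgroup
open scoped Pointwise commutatorElement

variable {G : Type*} [Group G]

/-- The conjugate `x H x⁻¹`. -/
def conjSub (x : G) (H : Subgroup G) : Subgroup G := H.map (MulAut.conj x).toMonoidHom

theorem mem_conjSub {x : G} {H : Subgroup G} {y : G} :
    y ∈ conjSub x H ↔ ∃ h ∈ H, x * h * x⁻¹ = y := by
  unfold conjSub
  rw [mem_map]
  rfl

theorem conj_mem_conjSub {x : G} {H : Subgroup G} {h : G} (hh : h ∈ H) :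
    x * h * x⁻¹ ∈ conjSub x H := mem_conjSub.mpr ⟨h, hh, rfl⟩

theorem card_conjSub (x : G) (H : Subgroup G) : Nat.card (conjSub x H) = Nat.card H := by
  unfold conjSub
  exact (Nat.card_congr (equivMapOfInjective H (MulAut.conj x).toMonoidHom
    (MulAut.conj x).injective).toEquiv).symm

theorem centralizer_conjSub (x : G) (H : Subgroup G) :
    centralizer ((conjSub x H : Subgroup G) : Set G) = conjSub x (centralizer (H : Set G)) := by
  ext y
  rw [mem_centralizer_iff, mem_conjSub]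
  constructor
  · intro hy
    refine ⟨x⁻¹ * y * x, ?_, by group⟩
    rw [mem_centralizer_iff]
    intro h hh
    have h1 := hy (x * h * x⁻¹) (conj_mem_conjSub hh)
    have h2 : h * (x⁻¹ * y * x) = x⁻¹ * (x * h * x⁻¹ * y) * x := by group
    rw [h2, h1]; group
  · rintro ⟨c, hc, rfl⟩ h hh
    obtain ⟨h₀, hh₀, rfl⟩ := mem_conjSub.mp hh
    rw [mem_centralizer_iff] at hc
    have h1 := hc h₀ hh₀
    have h2 : x * h₀ * x⁻¹ * (x * c * x⁻¹) = x * (h₀ * c) * x⁻¹ := by group
    rw [h2, h1]; group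

theorem cd_conjSub [Finite G] (x : G) {H : Subgroup G} (hH : Cfsg.IsCentralizerLarge H) :
    Cfsg.IsCentralizerLarge (conjSub x H) := by
  rw [isCentralizerLarge_iff] at hH ⊢
  unfold cdm at hH ⊢
  rw [centralizer_conjSub, card_conjSub, card_conjSub]
  exact hH

/-- The join of a nonempty family of members of largest measure has largest measure. -/
theorem cd_sSup [Finite G] {𝒮 : Set (Subgroup G)} (hne : 𝒮.Nonempty)
    (h : ∀ R ∈ 𝒮, Cfsg.IsCentralizerLarge R) : Cfsg.IsCentralizerLarge (sSup 𝒮) := by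
  obtain ⟨R₀, hR₀⟩ := hne
  let 𝒯 : Set (Subgroup G) := {T | Cfsg.IsCentralizerLarge T ∧ T ≤ sSup 𝒮}
  have h𝒯fin : 𝒯.Finite := Set.toFinite 𝒯
  have h𝒯ne : 𝒯.Nonempty := ⟨R₀, h R₀ hR₀, le_sSup hR₀⟩
  obtain ⟨T₀, hT₀, hmax⟩ := Set.exists_max_image 𝒯 (fun T => Nat.card T) h𝒯fin h𝒯ne
  have hle : sSup 𝒮 ≤ T₀ := by
    apply sSup_le
    intro R hR
    have h1 : Cfsg.IsCentralizerLarge (R ⊔ T₀) := (cd_pair (h R hR) hT₀.1).2.1
    have h2 : R ⊔ T₀ ∈ 𝒯 := ⟨h1, sup_le (le_sSup hR) hT₀.2⟩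
    have h3 := hmax _ h2
    have h4 : T₀ = R ⊔ T₀ := eq_of_le_of_card_ge le_sup_right h3
    rw [h4]
    exact le_sup_left
  have : sSup 𝒮 = T₀ := le_antisymm hle hT₀.2
  rw [this]
  exact hT₀.1

theorem conj_mem_commutator_left {H K : Subgroup G} {h : G} (hh : h ∈ H) {g : G}
    (hg : g ∈ ⁅H, K⁆) : h * g * h⁻¹ ∈ ⁅H, K⁆ := by
  have key : ⁅H, K⁆ ≤ (⁅H, K⁆).comap (MulAut.conj h).toMonoidHom := by
    rw [commutator_le]
    intro g₁ h₁ g₂ h₂
    rw [mem_comap]
    show h * ⁅g₁, g₂⁆ * h⁻¹ ∈ ⁅H, K⁆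
    have e : h * ⁅g₁, g₂⁆ * h⁻¹ = ⁅h * g₁, g₂⁆ * ⁅h, g₂⁆⁻¹ := by
      simp only [commutatorElement_def]; group
    rw [e]
    exact mul_mem (commutator_mem_commutator (mul_mem hh h₁) h₂)
      (inv_mem (commutator_mem_commutator hh h₂))
  exact key hg

theorem le_normalizer_of_conj_mem {H K : Subgroup G}
    (h : ∀ g ∈ H, ∀ k ∈ K, g * k * g⁻¹ ∈ K) : H ≤ normalizer (K : Set G) := by
  intro g hg
  rw [mem_normalizer_iff]
  intro k
  constructor
  · exact h g hg k
  · intro hk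
    have := h g⁻¹ (inv_mem hg) _ hk
    simpa [mul_assoc] using this

theorem sup_conj_mem {A B : Subgroup G} {g : G} (hA : ∀ a ∈ A, g * a * g⁻¹ ∈ A)
    (hB : ∀ b ∈ B, g * b * g⁻¹ ∈ B) : ∀ v ∈ A ⊔ B, g * v * g⁻¹ ∈ A ⊔ B := by
  intro v hv
  have key : A ⊔ B ≤ (A ⊔ B).comap (MulAut.conj g).toMonoidHom :=
    sup_le (fun a ha => mem_comap.mpr (mem_sup_left (hA a ha)))
      (fun b hb => mem_comap.mpr (mem_sup_right (hB b hb)))
  exact key hv


theorem retract_arith {v c n w z f M : ℕ} (hc : 0 < c) (hn : 0 < n) (h4 : v * c ≤ n * w)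
    (h5 : v * w ≤ M) (hMF : f * c = M) (hfn : f * n = z * z) (hvz : z ≤ v) :
    v * w = M ∧ v = z := by
  have e0 : n * M = z * z * c := by rw [← hMF, ← hfn]; ring
  have a1 : v * v * c ≤ z * z * c := by
    calc v * v * c = v * (v * c) := by ring
      _ ≤ v * (n * w) := Nat.mul_le_mul_left _ h4
      _ = n * (v * w) := by ring
      _ ≤ n * M := Nat.mul_le_mul_left _ h5
      _ = z * z * c := e0
  have a2 : v * v ≤ z * z := Nat.le_of_mul_le_mul_right a1 hc
  have a3 : v ≤ z := Nat.mul_self_le_mul_self_iff.mp a2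
  have a4 : v = z := le_antisymm a3 hvz
  have a5 : n * M ≤ n * (v * w) := by
    calc n * M = z * z * c := e0
      _ = v * (v * c) := by rw [a4]; ring
      _ ≤ v * (n * w) := Nat.mul_le_mul_left _ h4
      _ = n * (v * w) := by ring
  have a6 : M ≤ v * w := Nat.le_of_mul_le_mul_left a5 hn
  exact ⟨le_antisymm h5 a6, a4⟩

section retract

variable [Finite G] {Q : Subgroup G}

/-- An abelian member of largest measure containing the centre of a minimal centrally large
subgroup `Q` equals that centre. -/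
theorem mcl_zOf_max (hQ : Cfsg.IsMinimalCentrallyLarge Q) {W : Subgroup G}
    (hW : Cfsg.IsCentralizerLarge W) (hWab : W ≤ centralizer (W : Set G)) (hZW : zOf Q ≤ W) :
    W = zOf Q := by
  obtain ⟨hQcd, hCQ⟩ := (isCentrallyLarge_iff Q).mp hQ.1
  have hCQz := centralizer_eq_zOf_of_cl hQ.1
  obtain ⟨hCQcd, hQQ⟩ := cd_centralizer hQcd
  obtain ⟨hCWcd, hWW⟩ := cd_centralizer hW
  have h1 : centralizer (W : Set G) ≤ Q := by
    have h : centralizer (W : Set G) ≤ centralizer ((zOf Q : Subgroup G) : Set G) :=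
      centralizer_le (by exact_mod_cast hZW)
    rw [← hCQz, ← hQQ] at h
    exact h
  have h2 : Cfsg.IsCentrallyLarge (centralizer (W : Set G)) := by
    rw [isCentrallyLarge_iff]
    refine ⟨hCWcd, ?_⟩
    rw [← hWW]; exact hWab
  have h3 := hQ.2 _ h1 h2
  calc W = centralizer ((centralizer (W : Set G) : Subgroup G) : Set G) := hWW
    _ = centralizer (Q : Set G) := by rw [h3]
    _ = zOf Q := hCQz


/-- The retraction lemma: for a minimal centrally large `Q` with centre `Z` and an abelian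
subgroup `X` permuting with `Z` (with `⁅Z, X⁆` abelian), there is a minimal centrally large `Q'`
whose centre contains `⁅Z, X⁆` and the `X`-core of `Z`. -/
theorem retract_mcl (hQ : Cfsg.IsMinimalCentrallyLarge Q) {X : Subgroup G}
    (hXab : X ≤ centralizer (X : Set G))
    (hZX : ((zOf Q ⊔ X : Subgroup G) : Set G) = (zOf Q : Set G) * (X : Set G))
    (hcomm : ⁅zOf Q, X⁆ ≤ centralizer ((⁅zOf Q, X⁆ : Subgroup G) : Set G)) :
    ∃ Q' : Subgroup G, Cfsg.IsMinimalCentrallyLarge Q' ∧ ⁅zOf Q, X⁆ ≤ zOf Q' ∧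
      ∀ n : G, (∀ x ∈ X, x * n * x⁻¹ ∈ zOf Q) → n ∈ zOf Q' := by
  obtain ⟨hQcd, hCQ⟩ := (isCentrallyLarge_iff Q).mp hQ.1
  have hCQz := centralizer_eq_zOf_of_cl hQ.1
  obtain ⟨hZcd, hQQ⟩ := cd_centralizer hQcd
  rw [hCQz] at hZcd hQQ
  generalize hZdef : zOf Q = Z at *
  have hZQ : Z ≤ Q := hZdef ▸ zOf_le Q
  have hZab : Z ≤ centralizer (Z : Set G) := by rw [← hQQ]; exact hZQ
  -- the family of conjugates
  have hFex : ∃ F : Subgroup G, F = sSup (Set.range (fun x : X => conjSub (x : G) Z)) := ⟨_, rfl⟩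
  obtain ⟨F, hF⟩ := hFex
  have hFcd : Cfsg.IsCentralizerLarge F := by
    rw [hF]
    refine cd_sSup ⟨_, ⟨(1 : X), rfl⟩⟩ ?_
    rintro _ ⟨x, rfl⟩
    exact cd_conjSub _ hZcd
  have hRF : ∀ x : G, x ∈ X → conjSub x Z ≤ F := fun x hx => by
    rw [hF]; exact le_sSup ⟨⟨x, hx⟩, rfl⟩
  have hFle : ∀ K : Subgroup G, (∀ x ∈ X, ∀ z ∈ Z, x * z * x⁻¹ ∈ K) → F ≤ K := by
    intro K hK
    rw [hF]
    apply sSup_le
    rintro _ ⟨x, rfl⟩
    intro y hy
    obtain ⟨z, hz, rfl⟩ := mem_conjSub.mp hy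
    exact hK x x.2 z hz
  have hconjF : ∀ x ∈ X, ∀ z ∈ Z, x * z * x⁻¹ ∈ F :=
    fun x hx z hz => hRF x hx (conj_mem_conjSub hz)
  have hZF : Z ≤ F := by
    intro z hz
    have := hconjF 1 (one_mem X) z hz
    simpa using this
  have hFZX : F ≤ Z ⊔ X := hFle _ fun x hx z hz =>
    mul_mem (mul_mem (mem_sup_right hx) (mem_sup_left hz)) (inv_mem (mem_sup_right hx))
  have hXF : ∀ x ∈ X, ∀ f ∈ F, x * f * x⁻¹ ∈ F := by
    intro x hx f hf
    have key : F ≤ F.comap (MulAut.conj x).toMonoidHom := by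
      apply hFle
      intro x' hx' z hz
      rw [mem_comap]
      show x * (x' * z * x'⁻¹) * x⁻¹ ∈ F
      have e : x * (x' * z * x'⁻¹) * x⁻¹ = (x * x') * z * (x * x')⁻¹ := by group
      rw [e]
      exact hconjF _ (mul_mem hx hx') z hz
    exact key hf
  obtain ⟨hCFcd, hFF⟩ := cd_centralizer hFcd
  generalize hCFdef : centralizer (F : Set G) = CF at *
  have hNex : ∃ N : Subgroup G, N = F ⊓ CF := ⟨_, rfl⟩
  obtain ⟨N, hNdef⟩ := hNex
  have hNcd : Cfsg.IsCentralizerLarge N := by rw [hNdef]; exact (cd_pair hFcd hCFcd).1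
  have hNF : N ≤ F := by rw [hNdef]; exact inf_le_left
  have hNCF : N ≤ CF := by rw [hNdef]; exact inf_le_right
  have hCFCZ : CF ≤ centralizer (Z : Set G) := by
    rw [← hCFdef]; exact centralizer_le (by exact_mod_cast hZF)
  have hCFQ : CF ≤ Q := by rw [hQQ]; exact hCFCZ
  have hFCN : F ≤ centralizer (N : Set G) := by
    rw [le_centralizer_iff, hCFdef]; exact hNCF
  have hNZ : N ≤ Z := by
    have hWcd : Cfsg.IsCentralizerLarge (N ⊔ Z) := (cd_pair hNcd hZcd).2.1
    have hWab : N ⊔ Z ≤ centralizer ((N ⊔ Z : Subgroup G) : Set G) := by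
      rw [centralizer_sup_eq]
      exact sup_le (le_inf (hNF.trans hFCN) (hNCF.trans hCFCZ)) (le_inf (hZF.trans hFCN) hZab)
    have h := mcl_zOf_max hQ hWcd hWab (by rw [hZdef]; exact le_sup_right)
    rw [hZdef] at h
    calc N ≤ N ⊔ Z := le_sup_left
      _ = Z := h
  have hXCF : ∀ x ∈ X, ∀ c ∈ CF, x * c * x⁻¹ ∈ CF := by
    intro x hx c hc
    rw [← hCFdef, mem_centralizer_iff] at hc ⊢
    intro f hf
    have hmem : x⁻¹ * f * x ∈ F := by
      have := hXF x⁻¹ (inv_mem hx) f hf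
      simpa using this
    have h1 := hc (x⁻¹ * f * x) hmem
    have e1 : f * (x * c * x⁻¹) = x * (x⁻¹ * f * x * c) * x⁻¹ := by group
    rw [e1, h1]; group
  have hcore : ∀ n : G, (∀ x ∈ X, x * n * x⁻¹ ∈ Z) → n ∈ N := by
    intro n hn
    have hnZ : n ∈ Z := by
      have := hn 1 (one_mem X)
      simpa using this
    have h1 : F ≤ centralizer ({n} : Set G) := by
      apply hFle
      intro x hx z hz
      rw [mem_centralizer_iff]
      intro h hh
      rw [Set.mem_singleton_iff] at hh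
      subst hh
      have hm : x⁻¹ * h * x ∈ Z := by
        have := hn x⁻¹ (inv_mem hx)
        simpa using this
      have h2 := mem_centralizer_iff.mp (hZab hz) _ hm
      have e1 : h * (x * z * x⁻¹) = x * (x⁻¹ * h * x * z) * x⁻¹ := by group
      rw [e1, h2]; group
    have hnCF : n ∈ CF := by
      rw [← hCFdef, mem_centralizer_iff]
      intro f hf
      have := mem_centralizer_iff.mp (h1 hf) n rfl
      exact this.symm
    rw [hNdef]
    exact ⟨hZF hnZ, hnCF⟩
  -- `CF ⊔ Z = Q`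
  have hYcd : Cfsg.IsCentralizerLarge (CF ⊔ Z) := (cd_pair hCFcd hZcd).2.1
  have hYset : ((CF ⊔ Z : Subgroup G) : Set G) = (CF : Set G) * (Z : Set G) :=
    (cd_pair hCFcd hZcd).2.2.1
  have hYQ : CF ⊔ Z ≤ Q := sup_le hCFQ hZQ
  have hYcl : Cfsg.IsCentrallyLarge (CF ⊔ Z) := by
    rw [isCentrallyLarge_iff]
    refine ⟨hYcd, ?_⟩
    rw [centralizer_sup_eq, ← hFF, ← hQQ]
    rintro f ⟨hfF, hfQ⟩
    have hf' : f ∈ ((Z ⊔ X : Subgroup G) : Set G) := hFZX hfF
    rw [hZX] at hf'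
    obtain ⟨z, hz, x, hx, rfl⟩ := hf'
    have hxQ : x ∈ Q := by
      have := mul_mem (inv_mem (hZQ hz)) hfQ
      simpa using this
    have hxC : x ∈ centralizer ((Z ⊔ X : Subgroup G) : Set G) := by
      rw [centralizer_sup_eq]
      refine ⟨?_, hXab hx⟩
      rw [← hQQ]; exact hxQ
    have hxCF : x ∈ CF := by
      rw [← hCFdef]
      exact (centralizer_le (by exact_mod_cast hFZX)) hxC
    exact mul_mem (mem_sup_right hz) (mem_sup_left hxCF)
  have hYeq : CF ⊔ Z = Q := hQ.2 _ hYQ hYcl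
  -- cardinalities
  have hM : Nat.card Z * Nat.card Q = Cfsg.maxCentralizerProduct G := by
    have h := hZcd
    rw [isCentralizerLarge_iff] at h
    unfold cdm at h
    rwa [← hQQ] at h
  have hMF : Nat.card F * Nat.card CF = Cfsg.maxCentralizerProduct G := by
    have h := hFcd
    rw [isCentralizerLarge_iff] at h
    unfold cdm at h
    rwa [hCFdef] at h
  have hcardY := card_mul_card_eq_of_coe_sup_eq_mul CF Z hYset
  have hCFZ : CF ⊓ Z = N := by
    rw [hNdef]
    exact le_antisymm (fun x hx => ⟨hZF hx.2, hx.1⟩) (le_inf (hNdef ▸ hNCF) (hNdef ▸ hNZ))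
  rw [hCFZ, hYeq] at hcardY
  have hc : 0 < Nat.card CF := Nat.card_pos
  have hq : 0 < Nat.card Q := Nat.card_pos
  have hfn : Nat.card F * Nat.card N = Nat.card Z * Nat.card Z := by
    have e : Nat.card F * Nat.card N * (Nat.card CF * Nat.card Q) =
        Nat.card Z * Nat.card Z * (Nat.card CF * Nat.card Q) := by
      have e1 : Nat.card F * Nat.card N * (Nat.card CF * Nat.card Q) =
          (Nat.card F * Nat.card CF) * (Nat.card N * Nat.card Q) := by ring
      have e2 : Nat.card Z * Nat.card Z * (Nat.card CF * Nat.card Q) =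
          (Nat.card Z * Nat.card Q) * (Nat.card CF * Nat.card Z) := by ring
      rw [e1, e2, hMF, hM, hcardY]
    exact Nat.eq_of_mul_eq_mul_right (Nat.mul_pos hc hq) e
  -- the subgroup `V`
  have hVex : ∃ V : Subgroup G, V = ⁅Z, X⁆ ⊔ N := ⟨_, rfl⟩
  obtain ⟨V, hV⟩ := hVex
  have hC₀F : ⁅Z, X⁆ ≤ F := by
    rw [commutator_le]
    intro z hz x hx
    have e : ⁅z, x⁆ = z * (x * z⁻¹ * x⁻¹) := by simp only [commutatorElement_def]; group
    rw [e]
    exact mul_mem (hZF hz) (hconjF x hx _ (inv_mem hz))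
  have hVF : V ≤ F := by rw [hV]; exact sup_le hC₀F hNF
  have hNV : N ≤ V := by rw [hV]; exact le_sup_right
  have hFZV : F ≤ Z ⊔ V := by
    apply hFle
    intro x hx z hz
    have e : x * z * x⁻¹ = z * ⁅z⁻¹, x⁆ := by simp only [commutatorElement_def]; group
    rw [e, hV]
    exact mul_mem (mem_sup_left hz)
      (mem_sup_right (mem_sup_left (commutator_mem_commutator (inv_mem hz) hx)))
  have hVab : V ≤ centralizer (V : Set G) := by
    rw [hV, centralizer_sup_eq]
    have h2 : N ≤ centralizer ((⁅Z, X⁆ : Subgroup G) : Set G) := by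
      rw [← hCFdef] at hNCF
      exact hNCF.trans (centralizer_le (by exact_mod_cast hC₀F))
    exact sup_le (le_inf hcomm (hC₀F.trans hFCN)) (le_inf h2 (hNF.trans hFCN))
  have hZnormV : Z ≤ normalizer (V : Set G) := by
    apply le_normalizer_of_conj_mem
    intro g hg
    rw [hV]
    apply sup_conj_mem
    · intro a ha; exact conj_mem_commutator_left hg ha
    · intro b hb
      have hbZ := hNZ hb
      have h := mem_centralizer_iff.mp (hZab hg) b hbZ
      have e : g * b * g⁻¹ = b := by rw [← h]; group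
      rw [e]; exact hb
  have hZVset := coe_mul_of_left_le_normalizer_right Z V hZnormV
  have hcardZV := card_mul_card_eq_of_coe_sup_eq_mul Z V hZVset
  have hvz : Nat.card Z ≤ Nat.card V := by
    have h1 : Nat.card N ≤ Nat.card (Z ⊓ V : Subgroup G) := card_le_of_le (le_inf hNZ hNV)
    have h2 : Nat.card F ≤ Nat.card (Z ⊔ V : Subgroup G) := card_le_of_le hFZV
    have h3 : Nat.card Z * Nat.card Z ≤ Nat.card Z * Nat.card V := by
      rw [hcardZV, ← hfn]
      calc Nat.card F * Nat.card N = Nat.card N * Nat.card F := by ring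
        _ ≤ _ := Nat.mul_le_mul h1 h2
    exact Nat.le_of_mul_le_mul_left h3 Nat.card_pos
  have hCV : V ⊔ CF ≤ centralizer (V : Set G) := by
    refine sup_le hVab ?_
    rw [← hCFdef]
    exact centralizer_le (by exact_mod_cast hVF)
  have hVCF : V ⊓ CF ≤ N := by
    rw [hNdef]
    exact fun x hx => ⟨hVF hx.1, hx.2⟩
  have h1 := card_mul_card_le V CF
  have h2 : Nat.card (V ⊓ CF : Subgroup G) ≤ Nat.card N := card_le_of_le hVCF
  have h3 : Nat.card (V ⊔ CF : Subgroup G) ≤ Nat.card (centralizer (V : Set G)) :=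
    card_le_of_le hCV
  have h4 : Nat.card V * Nat.card CF ≤ Nat.card N * Nat.card (centralizer (V : Set G)) :=
    h1.trans (Nat.mul_le_mul h2 h3)
  have h5 := cdm_le_max V
  unfold cdm at h5
  obtain ⟨hVm, hVz⟩ := retract_arith hc Nat.card_pos h4 h5 hMF hfn hvz
  have hVcd : Cfsg.IsCentralizerLarge V := (isCentralizerLarge_iff V).mpr hVm
  obtain ⟨hQ'cd, hVV⟩ := cd_centralizer hVcd
  generalize hQ'def : centralizer (V : Set G) = Q' at *
  have hQ'cl : Cfsg.IsCentrallyLarge Q' := by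
    rw [isCentrallyLarge_iff]
    exact ⟨hQ'cd, by rw [← hVV]; exact hVab⟩
  have hzQ' : zOf Q' = V := by
    unfold zOf
    rw [← hVV]
    exact inf_eq_right.mpr hVab
  have hcardQ' : Nat.card Q' = Nat.card Q := by
    have h := hVm
    rw [hVz, ← hM] at h
    exact Nat.eq_of_mul_eq_mul_left Nat.card_pos h
  have hQ'mcl : Cfsg.IsMinimalCentrallyLarge Q' := by
    refine ⟨hQ'cl, ?_⟩
    intro R' hR' hR'cl
    obtain ⟨R₀, hR₀, hR₀le⟩ := exists_mcl_le hR'cl
    have h := (mcl_card_eq hR₀ hQ).1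
    have h' : R₀ = Q' := eq_of_le_of_card_ge (hR₀le.trans hR') (by rw [h, hcardQ'])
    exact le_antisymm hR' (h' ▸ hR₀le)
  refine ⟨Q', hQ'mcl, ?_, ?_⟩
  · rw [hzQ', hV]; exact le_sup_left
  · intro n hn; rw [hzQ']; exact hNV (hcore n hn)

end retract

end Cfsg.Agent.Lib.Helper50
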