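import Mathlib
import Cfsg.Prelude.Def_Solvable
import Cfsg.Prelude.Def_Local
import Cfsg.Prelude.Def_Transfer
import Cfsg.Prelude.Def_SubgroupEmbedding
import Cfsg.Agent.S3012
import Cfsg.Agent.Lib.Helper46.Subnormal

set_option autoImplicit false
set_option linter.style.haveILetI false

universe u

namespace Cfsg.Agent.Lib.Helper50

open Subgroup
open scoped commutatorElement

section elem

variable {G : Type*} [Group G]

theorem sidki_eq_one_of_sq {x : G} (hodd : Odd (orderOf x)) (h2 : x * x = 1) : x = 1 := by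
  have h2' : x ^ 2 = 1 := by rw [pow_two]; exact h2
  have hd : orderOf x ∣ 2 := orderOf_dvd_of_pow_eq_one h2'
  have : orderOf x = 1 := by
    rcases (Nat.dvd_prime Nat.prime_two).mp hd with h | h
    · exact h
    · rw [h] at hodd; exact absurd hodd (by decide)
  exact orderOf_eq_one_iff.mp this

theorem sidki_mem_of_sq_mem [Finite G] (D : Subgroup G) {x : G} (hodd : Odd (orderOf x))
    (h2 : x * x ∈ D) : x ∈ D := by
  obtain ⟨k, hk⟩ := hodd
  have h1 : x = (x * x) ^ (k + 1) := by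
    rw [← pow_two, ← pow_mul]
    have : 2 * (k + 1) = orderOf x + 1 := by omega
    rw [this, pow_succ, pow_orderOf_eq_one, one_mul]
  rw [h1]
  exact D.pow_mem h2 _

theorem sidki_odd_mul {h x : G} (hc : h * x = x * h) (hh : Odd (orderOf h)) (hx : Odd (orderOf x)) :
    Odd (orderOf (h * x)) := by
  have hcm : Commute h x := hc
  have h1 := hcm.orderOf_mul_dvd_lcm
  have h2 : (orderOf h).lcm (orderOf x) ∣ orderOf h * orderOf x := Nat.lcm_dvd_mul _ _
  exact Odd.of_dvd_nat (hh.mul hx) (h1.trans h2)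

theorem sidki_odd_inv {x : G} (hx : Odd (orderOf x)) : Odd (orderOf x⁻¹) := by
  rwa [orderOf_inv]

theorem sidki_odd_conj (g : G) {x : G} (hx : Odd (orderOf x)) : Odd (orderOf (g * x * g⁻¹)) := by
  have := orderOf_injective (MulAut.conj g).toMonoidHom (MulAut.conj g).injective x
  have h2 : orderOf (g * x * g⁻¹) = orderOf x := by simpa using this
  rwa [h2]

end elem

/-- The standing hypotheses of the minimal-counterexample analysis for Sidki pairs. -/
structure SidkiCtx (G : Type u) [Group G] [Finite G] (V : Subgroup G) : Prop where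
  comm : ∀ a ∈ V, ∀ b ∈ V, a * b = b * a
  sq : ∀ a ∈ V, a * a = 1
  ne : V ≠ ⊥
  sidki : Cfsg.IsSidkiPair V
  core : Cfsg.pCore 2 G = ⊥
  ih : ∀ (H : Type u) [Group H] [Finite H] (W : Subgroup H), Nat.card H < Nat.card G →
    Cfsg.IsElementaryAbelian 2 W → W ≠ ⊥ → Cfsg.IsSidkiPair W → W ⊓ Cfsg.pCore 2 H ≠ ⊥

variable {G : Type u} [Group G] [Finite G] {V : Subgroup G}

theorem sidki_pCore_normal (p : ℕ) (X : Type*) [Group X] : (Cfsg.pCore p X).Normal :=
  Subgroup.sSup_normal _ (fun _ h => h.1)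

theorem sidki_le_pCore {p : ℕ} {X : Type*} [Group X] {N : Subgroup X} (hN : N.Normal)
    (hp : IsPGroup p N) : N ≤ Cfsg.pCore p X :=
  le_sSup ⟨hN, hp⟩

theorem SidkiCtx.inv_eq (c : SidkiCtx G V) {a : G} (ha : a ∈ V) : a⁻¹ = a :=
  inv_eq_of_mul_eq_one_left (c.sq a ha)

theorem SidkiCtx.isPGroup (c : SidkiCtx G V) : IsPGroup 2 V := by
  intro ⟨a, ha⟩
  refine ⟨1, ?_⟩
  apply Subtype.ext
  simp only [pow_one, Subgroup.coe_pow, Subgroup.coe_one]
  rw [pow_two]
  exact c.sq a ha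

/-- a subnormal `2`-subgroup is trivial -/
theorem SidkiCtx.eq_bot_of_subnormal (c : SidkiCtx G V) {R : Subgroup G} (hR : R.IsSubnormal)
    (h2 : IsPGroup 2 R) : R = ⊥ := by
  haveI : Fact (Nat.Prime 2) := ⟨Nat.prime_two⟩
  have := Cfsg.Agent.Lib.Helper46.subnormal_pGroup_le_pCore R hR h2
  rw [c.core] at this
  exact le_bot_iff.mp this

/-- the inductive hypothesis applied to a proper subgroup -/
theorem SidkiCtx.ih_sub (c : SidkiCtx G V) (H W : Subgroup G) (hH : H ≠ ⊤) (hWH : W ≤ H)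
    (hWc : ∀ a ∈ W, ∀ b ∈ W, a * b = b * a) (hW2 : ∀ a ∈ W, a * a = 1) (hW1 : W ≠ ⊥)
    (hWS : ∀ h ∈ H, ∀ v ∈ W, Odd (orderOf h) → v * h * v⁻¹ = h⁻¹ →
      ∃ w ∈ W, w ≠ 1 ∧ w * h = h * w) :
    ∃ w ∈ W, w ≠ 1 ∧ ∃ R : Subgroup G, R ≤ H ∧ IsPGroup 2 R ∧
      (∀ g ∈ H, ∀ r ∈ R, g * r * g⁻¹ ∈ R) ∧ w ∈ R := by
  have hcard : Nat.card H < Nat.card G := by
    apply lt_of_le_of_ne (Subgroup.card_le_card_group H)
    intro h
    exact hH ((Subgroup.card_eq_iff_eq_top H).mp h)
  have hEA : Cfsg.IsElementaryAbelian 2 (W.subgroupOf H) := by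
    refine ⟨⟨⟨?_⟩⟩, ?_⟩
    · rintro ⟨⟨a, haH⟩, ha⟩ ⟨⟨b, hbH⟩, hb⟩
      apply Subtype.ext
      apply Subtype.ext
      exact hWc a ha b hb
    · rintro ⟨a, haH⟩ ha
      apply Subtype.ext
      simp only [Subgroup.coe_pow, Subgroup.coe_one]
      rw [pow_two]
      exact hW2 a ha
  have hne : W.subgroupOf H ≠ ⊥ := by
    intro h
    apply hW1
    rw [Subgroup.subgroupOf_eq_bot] at h
    rw [disjoint_iff, inf_eq_left.mpr hWH] at h
    exact h
  have hSid : Cfsg.IsSidkiPair (W.subgroupOf H) := by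
    rintro ⟨h, hhH⟩ ⟨v, hvH⟩ hv hodd hinv
    have hv' : v ∈ W := hv
    have hodd' : Odd (orderOf h) := by
      rw [← Subgroup.orderOf_coe] at hodd
      exact hodd
    have hinv' : v * h * v⁻¹ = h⁻¹ := by
      have := congrArg (Subtype.val) hinv
      simpa using this
    obtain ⟨w, hw, hw1, hwc⟩ := hWS h hhH v hv' hodd' hinv'
    refine ⟨⟨w, hWH hw⟩, hw, ?_, ?_⟩
    · intro h1
      apply hw1
      exact congrArg Subtype.val h1
    · apply Subtype.ext
      exact hwc
  have hres := c.ih ↥H (W.subgroupOf H) hcard hEA hne hSid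
  obtain ⟨⟨x, hx⟩, hx1⟩ := Subgroup.ne_bot_iff_exists_ne_one.mp hres
  obtain ⟨hxW, hxP⟩ := hx
  obtain ⟨x, hxH⟩ := x
  have hnP := sidki_pCore_normal 2 ↥H
  haveI : Fact (Nat.Prime 2) := ⟨Nat.prime_two⟩
  have hP2 : IsPGroup 2 (Cfsg.pCore 2 ↥H) :=
    Sylow.sSup_of_normal _ (fun _ h => h.2) (fun _ h => h.1)
  refine ⟨x, hxW, ?_, (Cfsg.pCore 2 ↥H).map H.subtype, ?_, ?_, ?_, ?_⟩
  · intro h1
    apply hx1
    apply Subtype.ext
    apply Subtype.ext
    exact h1
  · rintro _ ⟨y, -, rfl⟩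
    exact y.2
  · exact hP2.map _
  · rintro g hg _ ⟨r, hr, rfl⟩
    refine ⟨⟨g, hg⟩ * r * ⟨g, hg⟩⁻¹, hnP.conj_mem r hr ⟨g, hg⟩, ?_⟩
    simp
  · exact ⟨⟨x, hxH⟩, hxP, rfl⟩

/-- a normal `2`-subgroup `R` of `H` commutes elementwise with a normal subgroup `N ≤ H` of `G` -/
theorem SidkiCtx.commute_of_normal_two (c : SidkiCtx G V) {H R N : Subgroup G} (hN : N.Normal)
    (hNH : N ≤ H) (hRH : R ≤ H) (hR2 : IsPGroup 2 R) (hRn : ∀ g ∈ H, ∀ r ∈ R, g * r * g⁻¹ ∈ R)
    {r n : G} (hr : r ∈ R) (hn : n ∈ N) : r * n = n * r := by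
  have hQ : (R ⊓ N).IsSubnormal := by
    refine IsSubnormal.step (R ⊓ N) N inf_le_right hN.isSubnormal ⟨?_⟩
    rintro ⟨x, hxN⟩ hx ⟨g, hgN⟩
    have hx' : x ∈ R ⊓ N := hx
    exact ⟨hRn g (hNH hgN) x hx'.1, hN.conj_mem x hx'.2 g⟩
  have hbot := c.eq_bot_of_subnormal hQ (hR2.to_le inf_le_left)
  have hmem : r * n * r⁻¹ * n⁻¹ ∈ R ⊓ N := by
    constructor
    · have h1 : n * r⁻¹ * n⁻¹ ∈ R := hRn n (hNH hn) r⁻¹ (R.inv_mem hr)
      have h2 := R.mul_mem hr h1
      have h3 : r * n * r⁻¹ * n⁻¹ = r * (n * r⁻¹ * n⁻¹) := by group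
      rw [h3]; exact h2
    · have h1 : r * n * r⁻¹ ∈ N := hN.conj_mem n hn r
      exact N.mul_mem h1 (N.inv_mem hn)
  rw [hbot, Subgroup.mem_bot] at hmem
  calc r * n = (r * n * r⁻¹ * n⁻¹) * (n * r) := by group
    _ = n * r := by rw [hmem, one_mul]

/-- **Step A.** If `V N` is a proper subgroup for a normal subgroup `N`, some nontrivial element
of `V` centralizes `N`. -/
theorem SidkiCtx.exists_centralizing (c : SidkiCtx G V) {N : Subgroup G} (hN : N.Normal)
    (hVN : V ⊔ N ≠ ⊤) : ∃ w ∈ V, w ≠ 1 ∧ ∀ n ∈ N, w * n = n * w := by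
  obtain ⟨w, hw, hw1, R, hRH, hR2, hRn, hwR⟩ := c.ih_sub (V ⊔ N) V hVN le_sup_left c.comm c.sq c.ne
    (fun h _ v hv hodd hinv => c.sidki h v hv hodd hinv)
  exact ⟨w, hw, hw1, fun n hn => c.commute_of_normal_two hN le_sup_right hRH hR2 hRn hwR hn⟩

/-- a central involution of a normal subgroup is trivial -/
theorem SidkiCtx.eq_one_of_central_sq (c : SidkiCtx G V) {T : Subgroup G} (hT : T.Normal) {z : G}
    (hzT : z ∈ T) (hzC : z ∈ centralizer (T : Set G)) (hzz : z * z = 1) : z = 1 := by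
  haveI := hT
  have hCn : (centralizer (T : Set G)).Normal := inferInstance
  let Z₂ : Subgroup G :=
    { carrier := {x | x ∈ T ∧ x ∈ centralizer (T : Set G) ∧ x * x = 1}
      one_mem' := ⟨T.one_mem, Subgroup.one_mem _, by simp⟩
      mul_mem' := by
        rintro x y ⟨hxT, hxC, hx2⟩ ⟨hyT, hyC, hy2⟩
        refine ⟨T.mul_mem hxT hyT, Subgroup.mul_mem _ hxC hyC, ?_⟩
        have hxy : y * x = x * y := Subgroup.mem_centralizer_iff.mp hxC y hyT
        calc x * y * (x * y) = x * (y * x) * y := by group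
          _ = x * (x * y) * y := by rw [hxy]
          _ = (x * x) * (y * y) := by group
          _ = 1 := by rw [hx2, hy2, one_mul]
      inv_mem' := by
        rintro x ⟨hxT, hxC, hx2⟩
        refine ⟨T.inv_mem hxT, Subgroup.inv_mem _ hxC, ?_⟩
        calc x⁻¹ * x⁻¹ = (x * x)⁻¹ := by group
          _ = 1 := by rw [hx2, inv_one] }
  have hZn : Z₂.Normal := ⟨fun x hx g => ⟨hT.conj_mem x hx.1 g, hCn.conj_mem x hx.2.1 g, by
      calc g * x * g⁻¹ * (g * x * g⁻¹) = g * (x * x) * g⁻¹ := by group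
        _ = 1 := by rw [hx.2.2]; group⟩⟩
  have hZ2 : IsPGroup 2 Z₂ := by
    rintro ⟨x, hx⟩
    refine ⟨1, Subtype.ext ?_⟩
    simp only [pow_one, Subgroup.coe_pow, Subgroup.coe_one]
    rw [pow_two]; exact hx.2.2
  have hle := sidki_le_pCore hZn hZ2
  rw [c.core] at hle
  have hz : z ∈ Z₂ := ⟨hzT, hzC, hzz⟩
  exact Subgroup.mem_bot.mp (hle hz)

/-- **Step B.** If a nontrivial element of `V` centralizes the normal subgroup `K`,
then `K` is central. -/
theorem SidkiCtx.centralizer_eq_top (c : SidkiCtx G V) {K : Subgroup G} (hK : K.Normal)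
    {w₁ : G} (hw₁ : w₁ ∈ V) (hw₁1 : w₁ ≠ 1) (hw₁K : w₁ ∈ centralizer (K : Set G)) :
    centralizer (K : Set G) = ⊤ := by
  by_contra hT
  haveI := hK
  have hTn : (centralizer (K : Set G)).Normal := inferInstance
  have hU1 : V ⊓ centralizer (K : Set G) ≠ ⊥ := by
    intro h
    have : w₁ ∈ V ⊓ centralizer (K : Set G) := ⟨hw₁, hw₁K⟩
    rw [h, Subgroup.mem_bot] at this
    exact hw₁1 this
  -- Step 1: a witness that `(T, U)` is not a Sidki pair
  have hwit : ∃ h ∈ centralizer (K : Set G), ∃ u ∈ V ⊓ centralizer (K : Set G),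
      Odd (orderOf h) ∧ u * h * u⁻¹ = h⁻¹ ∧
      ∀ w ∈ V ⊓ centralizer (K : Set G), w ≠ 1 → w * h = h * w → False := by
    by_contra hcon
    have hSid : ∀ h ∈ centralizer (K : Set G), ∀ v ∈ V ⊓ centralizer (K : Set G),
        Odd (orderOf h) → v * h * v⁻¹ = h⁻¹ →
        ∃ w ∈ V ⊓ centralizer (K : Set G), w ≠ 1 ∧ w * h = h * w := by
      intro h hh v hv ho hi
      by_contra hno
      exact hcon ⟨h, hh, v, hv, ho, hi, fun w hw hw1 hwc => hno ⟨w, hw, hw1, hwc⟩⟩
    obtain ⟨w, hw, hw1, R, hRT, hR2, hRn, hwR⟩ := c.ih_sub (centralizer (K : Set G))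
      (V ⊓ centralizer (K : Set G)) hT inf_le_right
      (fun a ha b hb => c.comm a ha.1 b hb.1) (fun a ha => c.sq a ha.1) hU1 hSid
    have hRs : R.IsSubnormal := by
      refine IsSubnormal.step R (centralizer (K : Set G)) hRT hTn.isSubnormal ⟨?_⟩
      rintro ⟨x, hxT⟩ hx ⟨g, hgT⟩
      exact hRn g hgT x hx
    have hb := c.eq_bot_of_subnormal hRs hR2
    rw [hb, Subgroup.mem_bot] at hwR
    exact hw1 hwR
  obtain ⟨h, hhT, u, huU, hodd, hinv, hnoc⟩ := hwit
  have huV : u ∈ V := huU.1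
  have huT : u ∈ centralizer (K : Set G) := huU.2
  have hh1 : h ≠ 1 := by
    intro h1
    obtain ⟨⟨w, hw⟩, hw1⟩ := Subgroup.ne_bot_iff_exists_ne_one.mp hU1
    apply hnoc w hw (fun e => hw1 (Subtype.ext e))
    rw [h1, mul_one, one_mul]
  obtain ⟨w₀, hw₀V, hw₀1, hw₀c⟩ := c.sidki h u huV hodd hinv
  have hmemA : ∀ {a : G}, a ∈ V ⊓ centralizer ({h} : Set G) ↔ a ∈ V ∧ a * h = h * a := by
    intro a
    rw [Subgroup.mem_inf, Subgroup.mem_centralizer_iff]
    constructor
    · rintro ⟨h1, h2⟩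
      exact ⟨h1, (h2 h rfl).symm⟩
    · rintro ⟨h1, h2⟩
      refine ⟨h1, ?_⟩
      intro y hy
      rw [Set.mem_singleton_iff.mp hy]
      exact h2.symm
  have hA1 : V ⊓ centralizer ({h} : Set G) ≠ ⊥ := by
    intro hb
    have : w₀ ∈ V ⊓ centralizer ({h} : Set G) := hmemA.mpr ⟨hw₀V, hw₀c⟩
    rw [hb, Subgroup.mem_bot] at this
    exact hw₀1 this
  have hDn : (centralizer ((centralizer (K : Set G) : Subgroup G) : Set G)).Normal := inferInstance
  have hKD : K ≤ centralizer ((centralizer (K : Set G) : Subgroup G) : Set G) := by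
    intro k hk
    rw [Subgroup.mem_centralizer_iff]
    intro t ht
    exact (Subgroup.mem_centralizer_iff.mp ht k hk).symm
  have hsqD : ∀ g ∈ (V ⊓ centralizer ({h} : Set G)) ⊔
      centralizer ((centralizer (K : Set G) : Subgroup G) : Set G),
      g * g ∈ centralizer ((centralizer (K : Set G) : Subgroup G) : Set G) := by
    intro g hg
    obtain ⟨a, ha, d, hd, rfl⟩ := Subgroup.mem_sup_of_normal_right.mp hg
    have ha2 : a * a = 1 := c.sq a ha.1
    have h3 : a * d * (a * d) = (a * d * a⁻¹) * (a * a) * d := by group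
    rw [h3, ha2, mul_one]
    exact Subgroup.mul_mem _ (hDn.conj_mem d hd a) hd
  have hSidH : ∀ x ∈ (V ⊓ centralizer ({h} : Set G)) ⊔
      centralizer ((centralizer (K : Set G) : Subgroup G) : Set G),
      ∀ a ∈ V ⊓ centralizer ({h} : Set G), Odd (orderOf x) → a * x * a⁻¹ = x⁻¹ →
      ∃ w ∈ V ⊓ centralizer ({h} : Set G), w ≠ 1 ∧ w * x = x * w := by
    intro x hxH a haA hxodd hxinv
    have hxD : x ∈ centralizer ((centralizer (K : Set G) : Subgroup G) : Set G) :=
      sidki_mem_of_sq_mem _ hxodd (hsqD x hxH)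
    have haV : a ∈ V := haA.1
    have hah : a * h = h * a := (hmemA.mp haA).2
    have hux : u * x = x * u := Subgroup.mem_centralizer_iff.mp hxD u huT
    have hhx : h * x = x * h := Subgroup.mem_centralizer_iff.mp hxD h hhT
    have hvV : u * a ∈ V := V.mul_mem huV haV
    have hvinv_h : (u * a) * h * (u * a)⁻¹ = h⁻¹ := by
      have h1 : a * h * a⁻¹ = h := by rw [hah]; group
      calc (u * a) * h * (u * a)⁻¹ = u * (a * h * a⁻¹) * u⁻¹ := by group
        _ = h⁻¹ := by rw [h1, hinv]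
    have hvinv_x : (u * a) * x * (u * a)⁻¹ = x⁻¹ := by
      have h1 : u * x⁻¹ * u⁻¹ = x⁻¹ := by
        have h2 : u * x⁻¹ = x⁻¹ * u := by
          calc u * x⁻¹ = x⁻¹ * (x * u) * x⁻¹ := by group
            _ = x⁻¹ * (u * x) * x⁻¹ := by rw [hux]
            _ = x⁻¹ * u := by group
        rw [h2]; group
      calc (u * a) * x * (u * a)⁻¹ = u * (a * x * a⁻¹) * u⁻¹ := by group
        _ = u * x⁻¹ * u⁻¹ := by rw [hxinv]
        _ = x⁻¹ := h1
    have hy : (u * a) * (h * x) * (u * a)⁻¹ = (h * x)⁻¹ := by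
      calc (u * a) * (h * x) * (u * a)⁻¹
          = ((u * a) * h * (u * a)⁻¹) * ((u * a) * x * (u * a)⁻¹) := by group
        _ = h⁻¹ * x⁻¹ := by rw [hvinv_h, hvinv_x]
        _ = (x * h)⁻¹ := by group
        _ = (h * x)⁻¹ := by rw [hhx]
    have hyodd : Odd (orderOf (h * x)) := sidki_odd_mul hhx hodd hxodd
    obtain ⟨w, hwV, hw1, hwc⟩ := c.sidki (h * x) (u * a) hvV hyodd hy
    have hconj : (w * h * w⁻¹) * (w * x * w⁻¹) = h * x := by
      calc (w * h * w⁻¹) * (w * x * w⁻¹) = w * (h * x) * w⁻¹ := by group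
        _ = (h * x) * w * w⁻¹ := by rw [hwc]
        _ = h * x := by group
    have hzT : h⁻¹ * (w * h * w⁻¹) ∈ centralizer (K : Set G) :=
      Subgroup.mul_mem _ (Subgroup.inv_mem _ hhT) (hTn.conj_mem h hhT w)
    have hzD : h⁻¹ * (w * h * w⁻¹) ∈ centralizer ((centralizer (K : Set G) : Subgroup G) : Set G) := by
      have h1 : w * h * w⁻¹ = h * x * (w * x * w⁻¹)⁻¹ := by rw [← hconj]; group
      have h2 : h⁻¹ * (w * h * w⁻¹) = x * (w * x * w⁻¹)⁻¹ := by rw [h1]; group
      rw [h2]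
      exact Subgroup.mul_mem _ hxD (Subgroup.inv_mem _ (hDn.conj_mem x hxD w))
    have hz1 : h⁻¹ * (w * h * w⁻¹) = 1 := by
      apply c.eq_one_of_central_sq hTn hzT hzD
      set z := h⁻¹ * (w * h * w⁻¹) with hz
      have huz : u * z = z * u := Subgroup.mem_centralizer_iff.mp hzD u huT
      have hhz : h * z = z * h := Subgroup.mem_centralizer_iff.mp hzD h hhT
      have hwh : w * h * w⁻¹ = h * z := by rw [hz]; group
      have huw : u * w = w * u := c.comm u huV w hwV
      have h1 : u * (w * h * w⁻¹) * u⁻¹ = (w * h * w⁻¹)⁻¹ := by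
        have h2 : w⁻¹ * u⁻¹ = u⁻¹ * w⁻¹ := by rw [← mul_inv_rev, ← mul_inv_rev, huw]
        calc u * (w * h * w⁻¹) * u⁻¹ = (u * w) * h * (w⁻¹ * u⁻¹) := by group
          _ = (w * u) * h * (u⁻¹ * w⁻¹) := by rw [huw, h2]
          _ = w * (u * h * u⁻¹) * w⁻¹ := by group
          _ = w * h⁻¹ * w⁻¹ := by rw [hinv]
          _ = (w * h * w⁻¹)⁻¹ := by group
      have h2 : u * (h * z) * u⁻¹ = h⁻¹ * z := by
        have h3 : u * z * u⁻¹ = z := by rw [huz]; group
        calc u * (h * z) * u⁻¹ = (u * h * u⁻¹) * (u * z * u⁻¹) := by group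
          _ = h⁻¹ * z := by rw [hinv, h3]
      have h3 : h⁻¹ * z = (h * z)⁻¹ := by rw [← h2, ← hwh]; exact h1
      have h4 : z * h⁻¹ = h⁻¹ * z := by
        calc z * h⁻¹ = h⁻¹ * (h * z) * h⁻¹ := by group
          _ = h⁻¹ * (z * h) * h⁻¹ := by rw [hhz]
          _ = h⁻¹ * z := by group
      have h5 : z * h⁻¹ = z⁻¹ * h⁻¹ := by rw [h4, h3]; group
      have h6 : z = z⁻¹ := mul_right_cancel h5
      calc z * z = z * z⁻¹ := congrArg (fun t => z * t) h6
        _ = 1 := mul_inv_cancel z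
    have hwhc : w * h = h * w := by
      have h1 : w * h * w⁻¹ = h := by
        calc w * h * w⁻¹ = h * (h⁻¹ * (w * h * w⁻¹)) := by group
          _ = h := by rw [hz1, mul_one]
      calc w * h = (w * h * w⁻¹) * w := by group
        _ = h * w := by rw [h1]
    have hwx : w * x = x * w := by
      have h1 : w * (h * x) = h * (w * x) := by
        calc w * (h * x) = (w * h) * x := by group
          _ = (h * w) * x := by rw [hwhc]
          _ = h * (w * x) := by group
      have h2 : h * (w * x) = h * (x * w) := by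
        rw [← h1, hwc]; group
      exact mul_left_cancel h2
    exact ⟨w, hmemA.mpr ⟨hwV, hwhc⟩, hw1, hwx⟩
  have hHtop : (V ⊓ centralizer ({h} : Set G)) ⊔
      centralizer ((centralizer (K : Set G) : Subgroup G) : Set G) ≠ ⊤ := by
    intro htop
    have hhH : h ∈ (V ⊓ centralizer ({h} : Set G)) ⊔
        centralizer ((centralizer (K : Set G) : Subgroup G) : Set G) := by
      rw [htop]; exact Subgroup.mem_top h
    have hhD : h ∈ centralizer ((centralizer (K : Set G) : Subgroup G) : Set G) :=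
      sidki_mem_of_sq_mem _ hodd (hsqD h hhH)
    have huh : u * h = h * u := Subgroup.mem_centralizer_iff.mp hhD u huT
    have h1 : h = h⁻¹ := by
      rw [← hinv, huh]; group
    apply hh1
    apply sidki_eq_one_of_sq hodd
    calc h * h = h * h⁻¹ := congrArg (fun t => h * t) h1
      _ = 1 := mul_inv_cancel h
  obtain ⟨a₀, ha₀A, ha₀1, R, hRH, hR2, hRn, ha₀R⟩ := c.ih_sub _ (V ⊓ centralizer ({h} : Set G))
    hHtop le_sup_left
    (fun a ha b hb => c.comm a ha.1 b hb.1) (fun a ha => c.sq a ha.1) hA1 hSidH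
  have ha₀D : ∀ d ∈ centralizer ((centralizer (K : Set G) : Subgroup G) : Set G),
      a₀ * d = d * a₀ := fun d hd =>
    c.commute_of_normal_two hDn le_sup_right hRH hR2 hRn ha₀R hd
  have ha₀T : a₀ ∈ centralizer (K : Set G) := by
    rw [Subgroup.mem_centralizer_iff]
    intro k hk
    exact (ha₀D k (hKD hk)).symm
  exact hnoc a₀ ⟨ha₀A.1, ha₀T⟩ ha₀1 (hmemA.mp ha₀A).2

/-- **Step C.** A normal subgroup is central or supplements `V`. -/
theorem SidkiCtx.centralizer_eq_top_or_sup_eq_top (c : SidkiCtx G V) {N : Subgroup G}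
    (hN : N.Normal) : centralizer (N : Set G) = ⊤ ∨ V ⊔ N = ⊤ := by
  by_cases h : V ⊔ N = ⊤
  · exact Or.inr h
  · left
    obtain ⟨w, hw, hw1, hwc⟩ := c.exists_centralizing hN h
    apply c.centralizer_eq_top hN hw hw1
    rw [Subgroup.mem_centralizer_iff]
    intro n hn
    exact (hwc n hn).symm

theorem SidkiCtx.isElementaryAbelian (c : SidkiCtx G V) : Cfsg.IsElementaryAbelian 2 V :=
  ⟨⟨⟨fun a b => Subtype.ext (c.comm a a.2 b b.2)⟩⟩, fun a ha => by rw [pow_two]; exact c.sq a ha⟩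

/-- **Step D.** The centre is trivial. -/
theorem SidkiCtx.center_eq_bot (c : SidkiCtx G V) : center G = ⊥ := by
  by_contra hZ
  have hVZ : V ⊓ center G = ⊥ := by
    have hn : (V ⊓ center G).Normal := ⟨fun x hx g => by
      have h1 : g * x * g⁻¹ = x := by
        have h2 := Subgroup.mem_center_iff.mp hx.2 g
        rw [h2]; group
      rw [h1]; exact hx⟩
    have h2 : IsPGroup 2 (V ⊓ center G : Subgroup G) := c.isPGroup.to_le inf_le_left
    have h3 := sidki_le_pCore hn h2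
    rw [c.core] at h3
    exact le_bot_iff.mp h3
  have hSq := Cfsg.Agent.S3012.result V (center G) c.isElementaryAbelian c.ne c.sidki hVZ
  have hcard : Nat.card (G ⧸ center G) < Nat.card G := by
    have h1 := Subgroup.card_eq_card_quotient_mul_card_subgroup (center G)
    have h2 : 1 < Nat.card (center G) := (Subgroup.one_lt_card_iff_ne_bot _).mpr hZ
    have h3 : 0 < Nat.card (G ⧸ center G) := Nat.card_pos
    nlinarith
  have hEA' : Cfsg.IsElementaryAbelian 2 (V.map (QuotientGroup.mk' (center G))) := by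
    refine ⟨⟨⟨?_⟩⟩, ?_⟩
    · rintro ⟨_, a, ha, rfl⟩ ⟨_, b, hb, rfl⟩
      apply Subtype.ext
      show (QuotientGroup.mk' (center G)) a * (QuotientGroup.mk' (center G)) b =
        (QuotientGroup.mk' (center G)) b * (QuotientGroup.mk' (center G)) a
      rw [← map_mul, ← map_mul, c.comm a ha b hb]
    · rintro _ ⟨a, ha, rfl⟩
      rw [← map_pow, pow_two, c.sq a ha, map_one]
  have hne' : V.map (QuotientGroup.mk' (center G)) ≠ ⊥ := by
    intro h
    obtain ⟨⟨v, hv⟩, hv1⟩ := Subgroup.ne_bot_iff_exists_ne_one.mp c.ne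
    have h1 : (QuotientGroup.mk' (center G)) v ∈ V.map (QuotientGroup.mk' (center G)) :=
      ⟨v, hv, rfl⟩
    rw [h, Subgroup.mem_bot] at h1
    have hvZ : v ∈ center G := (QuotientGroup.eq_one_iff v).mp h1
    have h2 : v ∈ V ⊓ center G := ⟨hv, hvZ⟩
    rw [hVZ, Subgroup.mem_bot] at h2
    exact hv1 (Subtype.ext h2)
  have hres := c.ih (G ⧸ center G) (V.map (QuotientGroup.mk' (center G))) hcard hEA' hne' hSq
  obtain ⟨⟨y, hyV, hyP⟩, hy1⟩ := Subgroup.ne_bot_iff_exists_ne_one.mp hres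
  obtain ⟨v, hv, rfl⟩ := hyV
  have hPn := sidki_pCore_normal 2 (G ⧸ center G)
  have hT₁n : ((Cfsg.pCore 2 (G ⧸ center G)).comap (QuotientGroup.mk' (center G))).Normal :=
    hPn.comap _
  have hvT₁ : v ∈ (Cfsg.pCore 2 (G ⧸ center G)).comap (QuotientGroup.mk' (center G)) := hyP
  rcases c.centralizer_eq_top_or_sup_eq_top hT₁n with h | h
  · have hvZ : v ∈ center G := by
      rw [Subgroup.mem_center_iff]
      intro g
      have hg : g ∈ centralizer
          (((Cfsg.pCore 2 (G ⧸ center G)).comap (QuotientGroup.mk' (center G)) : Subgroup G) :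
            Set G) := by
        rw [h]; exact Subgroup.mem_top g
      exact (Subgroup.mem_centralizer_iff.mp hg v hvT₁).symm
    apply hy1
    apply Subtype.ext
    exact (QuotientGroup.eq_one_iff v).mpr hvZ
  · have hmap : (V.map (QuotientGroup.mk' (center G))) ⊔ Cfsg.pCore 2 (G ⧸ center G) = ⊤ := by
      have h1 := congrArg (Subgroup.map (QuotientGroup.mk' (center G))) h
      rw [Subgroup.map_sup,
        Subgroup.map_comap_eq_self_of_surjective (QuotientGroup.mk'_surjective _),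
        Subgroup.map_top_of_surjective _ (QuotientGroup.mk'_surjective _)] at h1
      exact h1
    haveI := hPn
    have h2V : IsPGroup 2 (V.map (QuotientGroup.mk' (center G))) := c.isPGroup.map _
    have h2P : IsPGroup 2 (Cfsg.pCore 2 (G ⧸ center G)) :=
      Sylow.sSup_of_normal _ (fun _ h => h.2) (fun _ h => h.1)
    have h2top : IsPGroup 2 ((V.map (QuotientGroup.mk' (center G))) ⊔
        Cfsg.pCore 2 (G ⧸ center G) : Subgroup (G ⧸ center G)) :=
      IsPGroup.to_sup_of_normal_right h2V h2P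
    rw [hmap] at h2top
    haveI : Fact (Nat.Prime 2) := ⟨Nat.prime_two⟩
    have h2Q : IsPGroup 2 (G ⧸ center G) := by
      intro x
      obtain ⟨k, hk⟩ := h2top ⟨x, Subgroup.mem_top x⟩
      exact ⟨k, by simpa using congrArg Subtype.val hk⟩
    obtain ⟨n, hn⟩ := IsPGroup.iff_card.mp h2Q
    have hidx : (center G).index = 2 ^ n := by rw [Subgroup.index_eq_card, hn]
    have hdvd := Subgroup.card_commutator_dvd_index_center_pow G
    rw [hidx, ← pow_mul] at hdvd
    have h2comm : IsPGroup 2 (_root_.commutator G) := by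
      obtain ⟨m, -, hm⟩ := (Nat.dvd_prime_pow Nat.prime_two).mp hdvd
      exact IsPGroup.of_card hm
    have hcn : (_root_.commutator G).Normal := inferInstance
    have hle := sidki_le_pCore hcn h2comm
    rw [c.core] at hle
    have hcb : _root_.commutator G = ⊥ := le_bot_iff.mp hle
    have hcomm : ∀ a b : G, a * b = b * a := by
      intro a b
      have h1 : ⁅a, b⁆ ∈ _root_.commutator G :=
        Subgroup.commutator_mem_commutator (Subgroup.mem_top a) (Subgroup.mem_top b)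
      rw [hcb, Subgroup.mem_bot, commutatorElement_def] at h1
      calc a * b = (a * b * a⁻¹ * b⁻¹) * (b * a) := by group
        _ = b * a := by rw [h1, one_mul]
    have hVn : V.Normal := ⟨fun x hx g => by
      have h1 : g * x * g⁻¹ = x := by rw [hcomm g x]; group
      rw [h1]; exact hx⟩
    have hle2 := sidki_le_pCore hVn c.isPGroup
    rw [c.core] at hle2
    exact c.ne (le_bot_iff.mp hle2)

/-- **Step E.** Every nontrivial normal subgroup supplements `V`. -/
theorem SidkiCtx.sup_eq_top (c : SidkiCtx G V) {N : Subgroup G} (hN : N.Normal) (hN1 : N ≠ ⊥) :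
    V ⊔ N = ⊤ := by
  rcases c.centralizer_eq_top_or_sup_eq_top hN with h | h
  · exfalso
    apply hN1
    rw [eq_bot_iff, ← c.center_eq_bot]
    intro n hn
    rw [Subgroup.mem_center_iff]
    intro g
    have hg : g ∈ centralizer (N : Set G) := by rw [h]; exact Subgroup.mem_top g
    exact (Subgroup.mem_centralizer_iff.mp hg n hn).symm
  · exact h

end Cfsg.Agent.Lib.Helper50
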