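import Cfsg.Agent.Lib.Helper50.Sidki
import Cfsg.Agent.Lib.Helper50.Basic

set_option autoImplicit false
set_option linter.style.haveILetI false

universe u

namespace Cfsg.Agent.Lib.Helper50

open Subgroup
open scoped commutatorElement

variable {G : Type u} [Group G] [Finite G] {V : Subgroup G}

theorem sidki_normal_of_sup {A B K : Subgroup G} (h : A ⊔ B = ⊤)
    (hA : ∀ a ∈ A, ∀ x ∈ K, a * x * a⁻¹ ∈ K) (hB : ∀ b ∈ B, ∀ x ∈ K, b * x * b⁻¹ ∈ K) :
    K.Normal := by
  have hle : A ⊔ B ≤ normalizer (K : Set G) :=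
    sup_le (fun a ha => mem_normalizer_of_conj_mem (hA a ha))
      (fun b hb => mem_normalizer_of_conj_mem (hB b hb))
  rw [h, top_le_iff] at hle
  exact Subgroup.normalizer_eq_top_iff.mp hle

omit [Finite G] in
theorem sidki_mem_centralizer_singleton {w x : G} :
    x ∈ centralizer ({w} : Set G) ↔ w * x = x * w := by
  rw [Subgroup.mem_centralizer_iff]
  constructor
  · intro h; exact h w rfl
  · intro h y hy; rw [Set.mem_singleton_iff.mp hy]; exact h

/-- generalization of `commute_of_normal_two` to a subnormal `N` normalized by `R` -/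
theorem SidkiCtx.commute_of_subnormal_two (c : SidkiCtx G V) {H R N : Subgroup G}
    (hNs : N.IsSubnormal) (hNH : N ≤ H) (hR2 : IsPGroup 2 R)
    (hRn : ∀ g ∈ H, ∀ r ∈ R, g * r * g⁻¹ ∈ R) (hRN : ∀ r ∈ R, ∀ n ∈ N, r * n * r⁻¹ ∈ N)
    {r n : G} (hr : r ∈ R) (hn : n ∈ N) : r * n = n * r := by
  have hQ : (R ⊓ N).IsSubnormal := by
    refine IsSubnormal.step (R ⊓ N) N inf_le_right hNs ⟨?_⟩
    rintro ⟨x, hxN⟩ hx ⟨g, hgN⟩
    have hx' : x ∈ R ⊓ N := hx
    exact ⟨hRn g (hNH hgN) x hx'.1, N.mul_mem (N.mul_mem hgN hx'.2) (N.inv_mem hgN)⟩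
  have hbot := c.eq_bot_of_subnormal hQ (hR2.to_le inf_le_left)
  have hmem : r * n * r⁻¹ * n⁻¹ ∈ R ⊓ N := by
    constructor
    · have h1 : n * r⁻¹ * n⁻¹ ∈ R := hRn n (hNH hn) r⁻¹ (R.inv_mem hr)
      have h2 := R.mul_mem hr h1
      have h3 : r * n * r⁻¹ * n⁻¹ = r * (n * r⁻¹ * n⁻¹) := by group
      rw [h3]; exact h2
    · exact N.mul_mem (hRN r hr n hn) (N.inv_mem hn)
  rw [hbot, Subgroup.mem_bot] at hmem
  calc r * n = (r * n * r⁻¹ * n⁻¹) * (n * r) := by group
    _ = n * r := by rw [hmem, one_mul]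

/-- **Step G.** A minimal normal subgroup has trivial centre. -/
theorem SidkiCtx.minNormal_inf_centralizer (c : SidkiCtx G V) {N : Subgroup G} (hN : N.Normal)
    (hN1 : N ≠ ⊥) (hmin : ∀ K : Subgroup G, K.Normal → K ≤ N → K = ⊥ ∨ K = N) :
    N ⊓ centralizer (N : Set G) = ⊥ := by
  haveI := hN
  have hZn : (N ⊓ centralizer (N : Set G)).Normal := inferInstance
  rcases hmin _ hZn inf_le_left with h | h
  · exact h
  exfalso
  have hab : ∀ a ∈ N, ∀ b ∈ N, a * b = b * a := by
    intro a ha b hb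
    have h1 : a ∈ centralizer (N : Set G) := by rw [← h] at ha; exact ha.2
    exact (Subgroup.mem_centralizer_iff.mp h1 b hb).symm
  have hVN := c.sup_eq_top hN hN1
  have hCV : ∀ w ∈ V, w ≠ 1 → (∀ n ∈ N, w * n = n * w) → False := by
    intro w hw hw1 hwc
    have hctop := c.centralizer_eq_top hN hw hw1 (by
      rw [Subgroup.mem_centralizer_iff]; intro n hn; exact (hwc n hn).symm)
    apply hN1
    rw [eq_bot_iff, ← c.center_eq_bot]
    intro n hn
    rw [Subgroup.mem_center_iff]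
    intro g
    have hg : g ∈ centralizer (N : Set G) := by rw [hctop]; exact Subgroup.mem_top g
    exact (Subgroup.mem_centralizer_iff.mp hg n hn).symm
  have hoddN : ∀ n ∈ N, Odd (orderOf n) := by
    intro n hn
    by_contra hne
    have heven : 2 ∣ orderOf n := by
      rcases Nat.even_or_odd (orderOf n) with h | h
      · exact even_iff_two_dvd.mp h
      · exact absurd h hne
    obtain ⟨k, hk⟩ := heven
    have hz2 : n ^ k * n ^ k = 1 := by
      rw [← pow_add, ← two_mul, ← hk, pow_orderOf_eq_one]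
    have hz1 : n ^ k ≠ 1 := by
      intro h1
      have h2 := orderOf_dvd_of_pow_eq_one h1
      have hpos := orderOf_pos n
      rw [hk] at h2
      have hk0 : k ≠ 0 := by
        intro hk0; rw [hk0] at hk; omega
      have h3 := Nat.le_of_dvd (Nat.pos_of_ne_zero hk0) h2
      omega
    apply hz1
    refine c.eq_one_of_central_sq hN (N.pow_mem hn k) ?_ hz2
    rw [Subgroup.mem_centralizer_iff]
    intro m hm
    exact hab m hm _ (N.pow_mem hn k)
  have hfpf : ∀ w ∈ V, w ≠ 1 → ∀ n ∈ N, w * n = n * w → n = 1 := by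
    intro w hw hw1 n hn hwn
    have hKn : (N ⊓ centralizer ({w} : Set G)).Normal := by
      apply sidki_normal_of_sup hVN
      · intro v hv x hx
        refine ⟨hN.conj_mem x hx.1 v, ?_⟩
        have hxw : w * x = x * w := sidki_mem_centralizer_singleton.mp hx.2
        have hvw : v * w = w * v := c.comm v hv w hw
        apply sidki_mem_centralizer_singleton.mpr
        have hvw' : w * v⁻¹ = v⁻¹ * w := by
          calc w * v⁻¹ = v⁻¹ * (v * w) * v⁻¹ := by group
            _ = v⁻¹ * (w * v) * v⁻¹ := by rw [hvw]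
            _ = v⁻¹ * w := by group
        calc w * (v * x * v⁻¹) = (w * v) * x * v⁻¹ := by group
          _ = (v * w) * x * v⁻¹ := by rw [hvw]
          _ = v * (w * x) * v⁻¹ := by group
          _ = v * (x * w) * v⁻¹ := by rw [hxw]
          _ = v * x * (w * v⁻¹) := by group
          _ = v * x * (v⁻¹ * w) := by rw [hvw']
          _ = v * x * v⁻¹ * w := by group
      · intro m hm x hx
        have h1 : m * x * m⁻¹ = x := by rw [hab m hm x hx.1]; group
        rw [h1]; exact hx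
    rcases hmin _ hKn inf_le_left with h0 | h0
    · have h1 : n ∈ N ⊓ centralizer ({w} : Set G) :=
        ⟨hn, sidki_mem_centralizer_singleton.mpr hwn⟩
      rw [h0, Subgroup.mem_bot] at h1
      exact h1
    · exfalso
      apply hCV w hw hw1
      intro m hm
      have h1 : m ∈ N ⊓ centralizer ({w} : Set G) := by rw [h0]; exact hm
      exact sidki_mem_centralizer_singleton.mp h1.2
  obtain ⟨⟨v, hv⟩, hv1⟩ := Subgroup.ne_bot_iff_exists_ne_one.mp c.ne
  have hv1' : v ≠ 1 := fun e => hv1 (Subtype.ext e)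
  obtain ⟨⟨n, hn⟩, hn1⟩ := Subgroup.ne_bot_iff_exists_ne_one.mp hN1
  have hn1' : n ≠ 1 := fun e => hn1 (Subtype.ext e)
  have hvn : v * n * v⁻¹ ∈ N := hN.conj_mem n hn v
  have hvv : v * v = 1 := c.sq v hv
  have hy : n * (v * n * v⁻¹) = 1 := by
    apply hfpf v hv hv1' _ (N.mul_mem hn hvn)
    have hcomm : n * (v * n * v⁻¹) = (v * n * v⁻¹) * n := hab n hn _ hvn
    have h1 : v * (n * (v * n * v⁻¹)) * v⁻¹ = (v * n * v⁻¹) * ((v * v) * n * (v * v)⁻¹) := by
      group
    rw [hvv, inv_one, one_mul, mul_one, ← hcomm] at h1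
    calc v * (n * (v * n * v⁻¹)) = (v * (n * (v * n * v⁻¹)) * v⁻¹) * v := by group
      _ = n * (v * n * v⁻¹) * v := by rw [h1]
  have hinv : v * n * v⁻¹ = n⁻¹ := eq_inv_of_mul_eq_one_right hy
  obtain ⟨w, hw, hw1, hwc⟩ := c.sidki n v hv (hoddN n hn) hinv
  exact hn1' (hfpf w hw hw1 n hn hwc)

/-- **Step H.** The centralizer of a minimal normal subgroup is trivial. -/
theorem SidkiCtx.minNormal_centralizer (c : SidkiCtx G V) {N : Subgroup G} (hN : N.Normal)
    (hN1 : N ≠ ⊥) (hmin : ∀ K : Subgroup G, K.Normal → K ≤ N → K = ⊥ ∨ K = N) :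
    centralizer (N : Set G) = ⊥ := by
  have hZ := c.minNormal_inf_centralizer hN hN1 hmin
  have hVN := c.sup_eq_top hN hN1
  haveI := hN
  have hCn : (centralizer (N : Set G)).Normal := inferInstance
  have h2 : IsPGroup 2 (centralizer (N : Set G)) := by
    rintro ⟨x, hx⟩
    refine ⟨1, Subtype.ext ?_⟩
    simp only [pow_one, Subgroup.coe_pow, Subgroup.coe_one]
    have hxtop : x ∈ V ⊔ N := by rw [hVN]; exact Subgroup.mem_top x
    obtain ⟨v, hv, n, hn, rfl⟩ := Subgroup.mem_sup_of_normal_right.mp hxtop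
    have hsqN : (v * n) * (v * n) ∈ N := by
      have h1 : v * n * (v * n) = (v * v) * (v⁻¹ * n * v⁻¹⁻¹) * n := by group
      rw [h1, c.sq v hv, one_mul]
      exact N.mul_mem (hN.conj_mem n hn v⁻¹) hn
    have hsqC : (v * n) * (v * n) ∈ centralizer (N : Set G) := Subgroup.mul_mem _ hx hx
    have h3 : (v * n) * (v * n) ∈ N ⊓ centralizer (N : Set G) := ⟨hsqN, hsqC⟩
    rw [hZ, Subgroup.mem_bot] at h3
    rw [pow_two]; exact h3
  have h3 := sidki_le_pCore hCn h2
  rw [c.core] at h3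
  exact le_bot_iff.mp h3

end Cfsg.Agent.Lib.Helper50
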