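import Cfsg.Agent.Lib.Helper50.Sidki2

set_option autoImplicit false
set_option linter.style.haveILetI false

universe u

namespace Cfsg.Agent.Lib.Helper50

open Subgroup
open scoped commutatorElement

variable {G : Type u} [Group G] [Finite G] {V : Subgroup G}

/-- Two distinct conjugates of a minimal normal subgroup `L` of the normal subgroup `N` meet
trivially and commute. -/
theorem sidki_conj_disjoint {N L : Subgroup G} (hN : N.Normal) (hLN : L ≤ N)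
    (hNL : ∀ n ∈ N, ∀ x ∈ L, n * x * n⁻¹ ∈ L)
    (hLmin : ∀ L' : Subgroup G, L' ≤ L → (∀ n ∈ N, ∀ x ∈ L', n * x * n⁻¹ ∈ L') →
      L' = ⊥ ∨ L' = L)
    {g : G} (hg : g ∉ normalizer (L : Set G)) :
    (∀ x ∈ L, g * x * g⁻¹ ∈ L → x = 1) ∧
      (∀ x ∈ L, ∀ y ∈ L, x * (g * y * g⁻¹) = (g * y * g⁻¹) * x) := by
  have hmemLg : ∀ y ∈ L, g * y * g⁻¹ ∈ L.map (MulAut.conj g).toMonoidHom := by
    intro y hy
    exact ⟨y, hy, by simp [MulAut.conj_apply]⟩
  have hNLg : ∀ n ∈ N, ∀ z ∈ L.map (MulAut.conj g).toMonoidHom,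
      n * z * n⁻¹ ∈ L.map (MulAut.conj g).toMonoidHom := by
    rintro n hn _ ⟨y, hy, rfl⟩
    have h1 : g⁻¹ * n * g ∈ N := by
      have := hN.conj_mem n hn g⁻¹
      simpa using this
    refine ⟨(g⁻¹ * n * g) * y * (g⁻¹ * n * g)⁻¹, hNL _ h1 y hy, ?_⟩
    simp only [MulEquiv.coe_toMonoidHom, MulAut.conj_apply]
    group
  have hinf : L ⊓ L.map (MulAut.conj g).toMonoidHom = ⊥ := by
    rcases hLmin (L ⊓ L.map (MulAut.conj g).toMonoidHom) inf_le_left
      (fun n hn x hx => ⟨hNL n hn x hx.1, hNLg n hn x hx.2⟩) with h | h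
    · exact h
    · exfalso
      have hle : L ≤ L.map (MulAut.conj g).toMonoidHom := inf_eq_left.mp h
      apply hg
      have h1 : g⁻¹ ∈ normalizer (L : Set G) := by
        apply mem_normalizer_of_conj_mem
        intro x hx
        have := mem_map_conj_iff.mp (hle hx)
        rw [inv_inv]
        exact this
      have h2 := Subgroup.inv_mem _ h1
      rwa [inv_inv] at h2
  constructor
  · intro x hx hgx
    have h1 : g * x * g⁻¹ ∈ L ⊓ L.map (MulAut.conj g).toMonoidHom := ⟨hgx, hmemLg x hx⟩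
    rw [hinf, Subgroup.mem_bot] at h1
    exact conj_eq_one_iff.mp h1
  · intro x hx y hy
    have hz := hmemLg y hy
    have hzN : g * y * g⁻¹ ∈ N := hN.conj_mem y (hLN hy) g
    have h1 : x * (g * y * g⁻¹) * x⁻¹ * (g * y * g⁻¹)⁻¹ ∈
        L ⊓ L.map (MulAut.conj g).toMonoidHom := by
      constructor
      · have h2 : (g * y * g⁻¹) * x⁻¹ * (g * y * g⁻¹)⁻¹ ∈ L := hNL _ hzN x⁻¹ (L.inv_mem hx)
        have h3 := L.mul_mem hx h2
        have h4 : x * (g * y * g⁻¹) * x⁻¹ * (g * y * g⁻¹)⁻¹ =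
            x * ((g * y * g⁻¹) * x⁻¹ * (g * y * g⁻¹)⁻¹) := by group
        rw [h4]; exact h3
      · have h2 := hNLg x (hLN hx) _ hz
        exact Subgroup.mul_mem _ h2 (Subgroup.inv_mem _ hz)
    rw [hinf, Subgroup.mem_bot] at h1
    calc x * (g * y * g⁻¹)
        = (x * (g * y * g⁻¹) * x⁻¹ * (g * y * g⁻¹)⁻¹) * ((g * y * g⁻¹) * x) := by group
      _ = (g * y * g⁻¹) * x := by rw [h1, one_mul]

/-- a subnormal subgroup which is not a `2`-group contains a nontrivial element of odd order -/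
theorem SidkiCtx.exists_odd_of_subnormal (c : SidkiCtx G V) {L : Subgroup G}
    (hLs : L.IsSubnormal) (hL1 : L ≠ ⊥) : ∃ l ∈ L, l ≠ 1 ∧ Odd (orderOf l) := by
  have hcard : Nat.card L ≠ 0 := Nat.card_pos.ne'
  obtain ⟨k, m, hm, hkm⟩ := Nat.exists_eq_two_pow_mul_odd hcard
  by_cases hm1 : m = 1
  · exfalso
    apply hL1
    apply c.eq_bot_of_subnormal hLs
    rw [hm1, mul_one] at hkm
    exact IsPGroup.of_card hkm
  · obtain ⟨q, hq, hqm⟩ := Nat.exists_prime_and_dvd hm1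
    haveI : Fact q.Prime := ⟨hq⟩
    have hqL : q ∣ Nat.card L := by rw [hkm]; exact Dvd.dvd.mul_left hqm _
    obtain ⟨x, hx⟩ := exists_prime_orderOf_dvd_card' q hqL
    have hq2 : q ≠ 2 := by
      intro h2
      rw [h2] at hqm
      rcases hm with ⟨t, ht⟩
      omega
    refine ⟨x.1, x.2, ?_, ?_⟩
    · intro h1
      have h2 : orderOf (x : G) = q := by rw [Subgroup.orderOf_coe]; exact hx
      rw [h1, orderOf_one] at h2
      exact hq.one_lt.ne h2
    · rw [Subgroup.orderOf_coe, hx]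
      exact hq.odd_of_ne_two hq2

/-- **Step I.** A minimal normal subgroup of a minimal normal subgroup `N` of `G` is `N` itself. -/
theorem SidkiCtx.minNormal_eq (c : SidkiCtx G V) {N : Subgroup G} (hN : N.Normal) (hN1 : N ≠ ⊥)
    (hmin : ∀ K : Subgroup G, K.Normal → K ≤ N → K = ⊥ ∨ K = N)
    {L : Subgroup G} (hLN : L ≤ N) (hL1 : L ≠ ⊥)
    (hNL : ∀ n ∈ N, ∀ x ∈ L, n * x * n⁻¹ ∈ L)
    (hLmin : ∀ L' : Subgroup G, L' ≤ L → (∀ n ∈ N, ∀ x ∈ L', n * x * n⁻¹ ∈ L') →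
      L' = ⊥ ∨ L' = L) : L = N := by
  have hVN := c.sup_eq_top hN hN1
  have hCN := c.minNormal_centralizer hN hN1 hmin
  by_cases hV : V ≤ normalizer (L : Set G)
  · have hLn : L.Normal := by
      apply sidki_normal_of_sup hVN
      · intro v hv x hx
        exact (Subgroup.mem_normalizer_iff.mp (hV hv) x).mp hx
      · exact hNL
    rcases hmin L hLn hLN with h | h
    · exact absurd h hL1
    · exact h
  exfalso
  obtain ⟨v₁, hv₁, hv₁n⟩ := SetLike.not_le_iff_exists.mp hV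
  have hLs : L.IsSubnormal := by
    refine IsSubnormal.step L N hLN hN.isSubnormal ⟨?_⟩
    rintro ⟨x, hxN⟩ hx ⟨g, hgN⟩
    exact hNL g hgN x hx
  have hM : normalClosure (L : Set G) = N := by
    haveI := hN
    rcases hmin _ normalClosure_normal (normalClosure_le_normal hLN) with h | h
    · exfalso
      apply hL1
      rw [eq_bot_iff, ← h]
      exact subset_normalClosure
    · exact h
  -- an element commuting with all `V`-conjugates of elements of `L` is trivial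
  have hcentN : ∀ a : G, (∀ v ∈ V, ∀ y ∈ L, a * (v * y * v⁻¹) = (v * y * v⁻¹) * a) → a = 1 := by
    intro a ha
    have hle : N ≤ centralizer ({a} : Set G) := by
      rw [← hM]
      show closure (Group.conjugatesOfSet (L : Set G)) ≤ centralizer ({a} : Set G)
      rw [Subgroup.closure_le]
      intro z hz
      obtain ⟨x, hx, hconj⟩ := Group.mem_conjugatesOfSet_iff.mp hz
      obtain ⟨g, rfl⟩ := isConj_iff.mp hconj
      have hgtop : g ∈ V ⊔ N := by rw [hVN]; exact Subgroup.mem_top g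
      haveI := hN
      obtain ⟨v, hv, n, hn, rfl⟩ := Subgroup.mem_sup_of_normal_right.mp hgtop
      have h1 : v * n * x * (v * n)⁻¹ = v * (n * x * n⁻¹) * v⁻¹ := by group
      rw [h1]
      exact sidki_mem_centralizer_singleton.mpr (ha v hv _ (hNL n hn x hx))
    have haC : a ∈ centralizer (N : Set G) := by
      rw [Subgroup.mem_centralizer_iff]
      intro n hn
      exact (sidki_mem_centralizer_singleton.mp (hle hn)).symm
    rw [hCN, Subgroup.mem_bot] at haC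
    exact haC
  -- `L` has trivial centre
  have hZL : ∀ l ∈ L, (∀ x ∈ L, l * x = x * l) → l = 1 := by
    have hnorm : ∀ n ∈ N, ∀ x ∈ L ⊓ centralizer (L : Set G),
        n * x * n⁻¹ ∈ L ⊓ centralizer (L : Set G) := by
      intro n hn x hx
      refine ⟨hNL n hn x hx.1, ?_⟩
      apply Subgroup.mem_centralizer_iff.mpr
      intro y hy
      have hy' : n⁻¹ * y * n⁻¹⁻¹ ∈ L := hNL n⁻¹ (N.inv_mem hn) y hy
      have hc := Subgroup.mem_centralizer_iff.mp hx.2 _ hy'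
      calc y * (n * x * n⁻¹) = n * ((n⁻¹ * y * n⁻¹⁻¹) * x) * n⁻¹ := by group
        _ = n * (x * (n⁻¹ * y * n⁻¹⁻¹)) * n⁻¹ := by rw [hc]
        _ = n * x * n⁻¹ * y := by group
    rcases hLmin _ inf_le_left hnorm with h | h
    · intro l hl hlc
      have h1 : l ∈ L ⊓ centralizer (L : Set G) := by
        refine ⟨hl, ?_⟩
        apply Subgroup.mem_centralizer_iff.mpr
        intro x hx
        exact (hlc x hx).symm
      rw [h, Subgroup.mem_bot] at h1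
      exact h1
    · exfalso
      have hab : ∀ x ∈ L, ∀ y ∈ L, x * y = y * x := by
        intro x hx y hy
        have h1 : x ∈ centralizer (L : Set G) := by rw [← h] at hx; exact hx.2
        exact (Subgroup.mem_centralizer_iff.mp h1 y hy).symm
      obtain ⟨⟨l, hl⟩, hl1⟩ := Subgroup.ne_bot_iff_exists_ne_one.mp hL1
      apply hl1
      apply Subtype.ext
      show l = 1
      apply hcentN
      intro v hv y hy
      by_cases hvn : v ∈ normalizer (L : Set G)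
      · have h1 : v * y * v⁻¹ ∈ L := (Subgroup.mem_normalizer_iff.mp hvn y).mp hy
        exact hab l hl _ h1
      · exact (sidki_conj_disjoint hN hLN hNL hLmin hvn).2 l hl y hy
  obtain ⟨l, hl, hl1, hlodd⟩ := c.exists_odd_of_subnormal hLs hL1
  -- `V₀ = N_V(L)` is nontrivial
  have hV₀ : V ⊓ normalizer (L : Set G) ≠ ⊥ := by
    have hdisj := sidki_conj_disjoint hN hLN hNL hLmin hv₁n
    have hcomm1 : l⁻¹ * (v₁ * l * v₁⁻¹) = (v₁ * l * v₁⁻¹) * l⁻¹ :=
      hdisj.2 l⁻¹ (L.inv_mem hl) l hl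
    have hyodd : Odd (orderOf (l⁻¹ * (v₁ * l * v₁⁻¹))) :=
      sidki_odd_mul hcomm1 (sidki_odd_inv hlodd) (sidki_odd_conj v₁ hlodd)
    have hvv := c.sq v₁ hv₁
    have hyinv : v₁ * (l⁻¹ * (v₁ * l * v₁⁻¹)) * v₁⁻¹ = (l⁻¹ * (v₁ * l * v₁⁻¹))⁻¹ := by
      have h1 : v₁ * (l⁻¹ * (v₁ * l * v₁⁻¹)) * v₁⁻¹ =
          (v₁ * l * v₁⁻¹)⁻¹ * ((v₁ * v₁) * l * (v₁ * v₁)⁻¹) := by group
      rw [h1, hvv]; group
    obtain ⟨w, hw, hw1, hwc⟩ := c.sidki _ v₁ hv₁ hyodd hyinv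
    by_cases hwn : w ∈ normalizer (L : Set G)
    · intro hb
      have h1 : w ∈ V ⊓ normalizer (L : Set G) := ⟨hw, hwn⟩
      rw [hb, Subgroup.mem_bot] at h1
      exact hw1 h1
    by_cases hwvn : w * v₁ ∈ normalizer (L : Set G)
    · intro hb
      have h1 : w * v₁ ∈ V ⊓ normalizer (L : Set G) := ⟨V.mul_mem hw hv₁, hwvn⟩
      rw [hb, Subgroup.mem_bot] at h1
      have hwv : w = v₁ := by
        rw [← c.inv_eq hv₁]; exact eq_inv_of_mul_eq_one_left h1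
      rw [hwv] at hwc
      have hy1 : l⁻¹ * (v₁ * l * v₁⁻¹) = 1 := by
        apply sidki_eq_one_of_sq hyodd
        have h2 : v₁ * (l⁻¹ * (v₁ * l * v₁⁻¹)) * v₁⁻¹ = l⁻¹ * (v₁ * l * v₁⁻¹) := by
          rw [hwc]; group
        rw [hyinv] at h2
        calc l⁻¹ * (v₁ * l * v₁⁻¹) * (l⁻¹ * (v₁ * l * v₁⁻¹))
            = (l⁻¹ * (v₁ * l * v₁⁻¹))⁻¹ * (l⁻¹ * (v₁ * l * v₁⁻¹)) := by rw [h2]
          _ = 1 := inv_mul_cancel _
      have h3 : l = v₁ * l * v₁⁻¹ := inv_mul_eq_one.mp hy1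
      exact hl1 (hdisj.1 l hl (by rw [← h3]; exact hl))
    · exfalso
      have hd_w := sidki_conj_disjoint hN hLN hNL hLmin hwn
      have hd_wv := sidki_conj_disjoint hN hLN hNL hLmin hwvn
      have hyw : l⁻¹ * (v₁ * l * v₁⁻¹) =
          (w * l⁻¹ * w⁻¹) * ((w * v₁) * l * (w * v₁)⁻¹) := by
        have h1 : w * (l⁻¹ * (v₁ * l * v₁⁻¹)) * w⁻¹ = l⁻¹ * (v₁ * l * v₁⁻¹) := by
          rw [hwc]; group
        calc l⁻¹ * (v₁ * l * v₁⁻¹) = w * (l⁻¹ * (v₁ * l * v₁⁻¹)) * w⁻¹ := h1.symm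
          _ = (w * l⁻¹ * w⁻¹) * ((w * v₁) * l * (w * v₁)⁻¹) := by group
      apply hl1
      have h5 : l⁻¹ = 1 := by
        apply hZL l⁻¹ (L.inv_mem hl)
        intro x hx
        have h1 : x * (w * l⁻¹ * w⁻¹) = (w * l⁻¹ * w⁻¹) * x :=
          hd_w.2 x hx l⁻¹ (L.inv_mem hl)
        have h2 : x * ((w * v₁) * l * (w * v₁)⁻¹) = ((w * v₁) * l * (w * v₁)⁻¹) * x :=
          hd_wv.2 x hx l hl
        have h3 : x * (v₁ * l * v₁⁻¹) = (v₁ * l * v₁⁻¹) * x := hdisj.2 x hx l hl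
        have h4 : x * (l⁻¹ * (v₁ * l * v₁⁻¹)) = (l⁻¹ * (v₁ * l * v₁⁻¹)) * x := by
          rw [hyw]
          calc x * ((w * l⁻¹ * w⁻¹) * ((w * v₁) * l * (w * v₁)⁻¹))
              = (x * (w * l⁻¹ * w⁻¹)) * ((w * v₁) * l * (w * v₁)⁻¹) := by group
            _ = ((w * l⁻¹ * w⁻¹) * x) * ((w * v₁) * l * (w * v₁)⁻¹) := by rw [h1]
            _ = (w * l⁻¹ * w⁻¹) * (x * ((w * v₁) * l * (w * v₁)⁻¹)) := by group
            _ = (w * l⁻¹ * w⁻¹) * (((w * v₁) * l * (w * v₁)⁻¹) * x) := by rw [h2]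
            _ = (w * l⁻¹ * w⁻¹) * ((w * v₁) * l * (w * v₁)⁻¹) * x := by group
        have h6 : x * l⁻¹ * (v₁ * l * v₁⁻¹) = l⁻¹ * x * (v₁ * l * v₁⁻¹) := by
          calc x * l⁻¹ * (v₁ * l * v₁⁻¹) = x * (l⁻¹ * (v₁ * l * v₁⁻¹)) := by group
            _ = (l⁻¹ * (v₁ * l * v₁⁻¹)) * x := h4
            _ = l⁻¹ * ((v₁ * l * v₁⁻¹) * x) := by group
            _ = l⁻¹ * (x * (v₁ * l * v₁⁻¹)) := by rw [h3]
            _ = l⁻¹ * x * (v₁ * l * v₁⁻¹) := by group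
        exact (mul_right_cancel h6).symm
      exact inv_eq_one.mp h5
  -- the pair `(V₀ L, V₀)` satisfies the Sidki condition
  have hV₀n : V ⊓ normalizer (L : Set G) ≤ normalizer (L : Set G) := inf_le_right
  have hHle : (V ⊓ normalizer (L : Set G)) ⊔ L ≤ normalizer (L : Set G) :=
    sup_le hV₀n Subgroup.le_normalizer
  have hsqL : ∀ g ∈ (V ⊓ normalizer (L : Set G)) ⊔ L, g * g ∈ L := by
    intro g hg
    have h1 : g ∈ (((V ⊓ normalizer (L : Set G)) ⊔ L : Subgroup G) : Set G) := hg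
    rw [Subgroup.coe_mul_of_left_le_normalizer_right _ _ hV₀n] at h1
    obtain ⟨a, ha, x, hx, rfl⟩ := h1
    have ha2 : a * a = 1 := c.sq a ha.1
    have h2 : a⁻¹ * x * a⁻¹⁻¹ ∈ L :=
      (Subgroup.mem_normalizer_iff.mp (Subgroup.inv_mem _ ha.2) x).mp hx
    have h3 : a * x * (a * x) = (a * a) * (a⁻¹ * x * a⁻¹⁻¹) * x := by group
    show a * x * (a * x) ∈ L
    rw [h3, ha2, one_mul]
    exact L.mul_mem h2 hx
  have hSidH : ∀ x ∈ (V ⊓ normalizer (L : Set G)) ⊔ L, ∀ a ∈ V ⊓ normalizer (L : Set G),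
      Odd (orderOf x) → a * x * a⁻¹ = x⁻¹ →
      ∃ w ∈ V ⊓ normalizer (L : Set G), w ≠ 1 ∧ w * x = x * w := by
    intro x hxH a ha hxodd hxinv
    have hxL : x ∈ L := sidki_mem_of_sq_mem L hxodd (hsqL x hxH)
    by_cases hx1 : x = 1
    · obtain ⟨⟨w, hw⟩, hw1⟩ := Subgroup.ne_bot_iff_exists_ne_one.mp hV₀
      exact ⟨w, hw, fun e => hw1 (Subtype.ext e), by rw [hx1, mul_one, one_mul]⟩
    · obtain ⟨w, hw, hw1, hwc⟩ := c.sidki x a ha.1 hxodd hxinv
      refine ⟨w, ⟨hw, ?_⟩, hw1, hwc⟩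
      by_contra hwn
      apply hx1
      apply (sidki_conj_disjoint hN hLN hNL hLmin hwn).1 x hxL
      have h1 : w * x * w⁻¹ = x := by rw [hwc]; group
      rw [h1]; exact hxL
  have hHtop : (V ⊓ normalizer (L : Set G)) ⊔ L ≠ ⊤ := by
    intro htop
    apply hv₁n
    apply hHle
    rw [htop]; exact Subgroup.mem_top v₁
  obtain ⟨a₀, ha₀, ha₀1, R, hRH, hR2, hRn, ha₀R⟩ := c.ih_sub _ (V ⊓ normalizer (L : Set G))
    hHtop le_sup_left (fun a ha b hb => c.comm a ha.1 b hb.1) (fun a ha => c.sq a ha.1) hV₀ hSidH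
  have ha₀L : ∀ y ∈ L, a₀ * y = y * a₀ := by
    intro y hy
    refine c.commute_of_subnormal_two hLs le_sup_right hR2 hRn ?_ ha₀R hy
    intro r hr n hn
    exact (Subgroup.mem_normalizer_iff.mp (hHle (hRH hr)) n).mp hn
  apply ha₀1
  apply hcentN
  intro v hv y hy
  have hav : a₀ * v = v * a₀ := c.comm a₀ ha₀.1 v hv
  have hav' : a₀ * v⁻¹ = v⁻¹ * a₀ := by
    calc a₀ * v⁻¹ = v⁻¹ * (v * a₀) * v⁻¹ := by group
      _ = v⁻¹ * (a₀ * v) * v⁻¹ := by rw [hav]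
      _ = v⁻¹ * a₀ := by group
  calc a₀ * (v * y * v⁻¹) = (a₀ * v) * y * v⁻¹ := by group
    _ = (v * a₀) * y * v⁻¹ := by rw [hav]
    _ = v * (a₀ * y) * v⁻¹ := by group
    _ = v * (y * a₀) * v⁻¹ := by rw [ha₀L y hy]
    _ = v * y * (a₀ * v⁻¹) := by group
    _ = v * y * (v⁻¹ * a₀) := by rw [hav']
    _ = v * y * v⁻¹ * a₀ := by group

end Cfsg.Agent.Lib.Helper50
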