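import Cfsg.Agent.Lib.Helper50.Sidki3
import Cfsg.Agent.Lib.Helper22.FStar

set_option autoImplicit false
set_option linter.style.haveILetI false

universe u

namespace Cfsg.Agent.Lib.Helper50

open Subgroup
open scoped commutatorElement

variable {G : Type u} [Group G] [Finite G] {V : Subgroup G}

theorem sidki_exists_minNormal (hG : (⊤ : Subgroup G) ≠ ⊥) :
    ∃ N : Subgroup G, N.Normal ∧ N ≠ ⊥ ∧
      ∀ K : Subgroup G, K.Normal → K ≤ N → K = ⊥ ∨ K = N := by
  classical
  let S : Set (Subgroup G) := {K | K.Normal ∧ K ≠ ⊥}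
  have hS : S.Finite := Set.toFinite S
  have hne : S.Nonempty := ⟨⊤, inferInstance, hG⟩
  obtain ⟨M, hM, hmin⟩ := Set.exists_min_image S (fun K : Subgroup G => Nat.card K) hS hne
  refine ⟨M, hM.1, hM.2, ?_⟩
  intro K hKn hKM
  by_cases hK : K = ⊥
  · exact Or.inl hK
  · right
    have h1 := hmin K ⟨hKn, hK⟩
    exact Subgroup.eq_of_le_of_card_ge hKM h1

/-- **Step I'.** A minimal normal subgroup is simple. -/
theorem SidkiCtx.minNormal_isSimpleGroup (c : SidkiCtx G V) {N : Subgroup G} (hN : N.Normal)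
    (hN1 : N ≠ ⊥) (hmin : ∀ K : Subgroup G, K.Normal → K ≤ N → K = ⊥ ∨ K = N) :
    IsSimpleGroup ↥N := by
  have hnt : Nontrivial ↥N := (Subgroup.nontrivial_iff_ne_bot N).mpr hN1
  refine { toNontrivial := hnt, eq_bot_or_eq_top_of_normal := ?_ }
  intro H hH
  by_cases hH1 : H = ⊥
  · exact Or.inl hH1
  right
  classical
  let S : Set (Subgroup G) :=
    {L₀ | L₀ ≤ H.map N.subtype ∧ L₀ ≠ ⊥ ∧ ∀ n ∈ N, ∀ x ∈ L₀, n * x * n⁻¹ ∈ L₀}
  have hS : S.Finite := Set.toFinite S
  have hL'S : H.map N.subtype ∈ S := by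
    refine ⟨le_rfl, ?_, ?_⟩
    · intro h
      apply hH1
      exact (Subgroup.map_eq_bot_iff_of_injective _ (Subgroup.subtype_injective N)).mp h
    · rintro n hn _ ⟨y, hy, rfl⟩
      exact ⟨⟨n, hn⟩ * y * ⟨n, hn⟩⁻¹, hH.conj_mem y hy ⟨n, hn⟩, by simp⟩
  obtain ⟨L, hLS, hLmin'⟩ :=
    Set.exists_min_image S (fun K : Subgroup G => Nat.card K) hS ⟨_, hL'S⟩
  obtain ⟨hLle, hL1, hNL⟩ := hLS
  have hLN : L ≤ N := hLle.trans (Subgroup.map_subtype_le H)
  have hLmin : ∀ L' : Subgroup G, L' ≤ L → (∀ n ∈ N, ∀ x ∈ L', n * x * n⁻¹ ∈ L') →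
      L' = ⊥ ∨ L' = L := by
    intro L' hL'L hL'n
    by_cases h0 : L' = ⊥
    · exact Or.inl h0
    · right
      have h1 := hLmin' L' ⟨hL'L.trans hLle, h0, hL'n⟩
      exact Subgroup.eq_of_le_of_card_ge hL'L h1
  have hLeq := c.minNormal_eq hN hN1 hmin hLN hL1 hNL hLmin
  rw [eq_top_iff]
  intro x _
  have hx : (x : G) ∈ H.map N.subtype := by
    apply hLle; rw [hLeq]; exact x.2
  obtain ⟨y, hy, hyx⟩ := hx
  have h2 : y = x := Subtype.ext hyx
  rw [← h2]; exact hy

theorem sidki_isQuasisimple_of_simple {X : Type*} [Group X] (hs : IsSimpleGroup X)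
    (hc : Subgroup.center X ≠ ⊤) : Cfsg.IsQuasisimple X := by
  have hc0 : Subgroup.center X = ⊥ :=
    (hs.eq_bot_or_eq_top_of_normal _ inferInstance).resolve_right hc
  have hd : commutator X ≠ ⊥ := fun h => hc ((commutator_eq_bot_iff_center_eq_top X).mp h)
  have hd1 : commutator X = ⊤ := (hs.eq_bot_or_eq_top_of_normal _ inferInstance).resolve_left hd
  refine ⟨⟨hd1⟩, ?_⟩
  have e : X ⧸ Subgroup.center X ≃* X :=
    (QuotientGroup.quotientMulEquivOfEq hc0).trans QuotientGroup.quotientBot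
  exact e.isSimpleGroup

/-- **Conclusion.** `F*(G)` is a nonabelian simple group and `G = V F*(G)`. -/
theorem SidkiCtx.conclusion (c : SidkiCtx G V) :
    IsSimpleGroup ↥(Cfsg.generalizedFittingSubgroup G) ∧
      ¬ IsMulCommutative ↥(Cfsg.generalizedFittingSubgroup G) ∧
      V ⊔ Cfsg.generalizedFittingSubgroup G = ⊤ := by
  have hG : (⊤ : Subgroup G) ≠ ⊥ := by
    intro h
    apply c.ne
    rw [eq_bot_iff, ← h]
    exact le_top
  obtain ⟨N, hN, hN1, hmin⟩ := sidki_exists_minNormal hG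
  have hsimple := c.minNormal_isSimpleGroup hN hN1 hmin
  have hCN := c.minNormal_centralizer hN hN1 hmin
  have hZN := c.minNormal_inf_centralizer hN hN1 hmin
  have hVN := c.sup_eq_top hN hN1
  have hnc : ¬ IsMulCommutative ↥N := by
    intro hcomm
    apply hN1
    rw [eq_bot_iff, ← hZN]
    intro n hn
    refine ⟨hn, ?_⟩
    apply Subgroup.mem_centralizer_iff.mpr
    intro m hm
    have := hcomm.is_comm.comm (⟨m, hm⟩ : ↥N) ⟨n, hn⟩
    exact congrArg Subtype.val this
  have hcenter : Subgroup.center ↥N ≠ ⊤ := by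
    intro h
    apply hnc
    refine ⟨⟨fun a b => ?_⟩⟩
    have ha : a ∈ Subgroup.center ↥N := by rw [h]; exact Subgroup.mem_top a
    exact (Subgroup.mem_center_iff.mp ha b).symm
  have hcomp : Cfsg.IsComponent N :=
    ⟨hN.isSubnormal, sidki_isQuasisimple_of_simple hsimple hcenter⟩
  have hNlayer : N ≤ Cfsg.layer G := Cfsg.Agent.Lib.Helper22.component_le_layer hcomp
  -- every nontrivial normal subgroup contains `N`
  have hcontains : ∀ M : Subgroup G, M.Normal → M ≠ ⊥ → N ≤ M := by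
    intro M hM hM1
    haveI := hN
    haveI := hM
    have hMN : (M ⊓ N).Normal := inferInstance
    rcases hmin _ hMN inf_le_right with h | h
    · exfalso
      apply hM1
      rw [eq_bot_iff, ← hCN]
      intro m hm
      apply Subgroup.mem_centralizer_iff.mpr
      intro n hn
      have h1 : m * n * m⁻¹ * n⁻¹ ∈ M ⊓ N := by
        constructor
        · have h2 : n * m⁻¹ * n⁻¹ ∈ M := hM.conj_mem m⁻¹ (M.inv_mem hm) n
          have h3 : m * n * m⁻¹ * n⁻¹ = m * (n * m⁻¹ * n⁻¹) := by group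
          rw [h3]; exact M.mul_mem hm h2
        · exact N.mul_mem (hN.conj_mem n hn m) (N.inv_mem hn)
      rw [h, Subgroup.mem_bot] at h1
      calc n * m = (m * n * m⁻¹ * n⁻¹)⁻¹ * (m * n) := by group
        _ = m * n := by rw [h1, inv_one, one_mul]
    · rw [← h]; exact inf_le_left
  have hfit : Cfsg.fittingSubgroup G = ⊥ := by
    by_contra hF
    have hNF := hcontains _ (Cfsg.Agent.Lib.Helper22.fittingSubgroup_normal G) hF
    have h1 : ⁅N, N⁆ ≤ ⁅Cfsg.layer G, Cfsg.fittingSubgroup G⁆ :=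
      Subgroup.commutator_mono hNlayer hNF
    rw [Cfsg.Agent.Lib.Helper22.commutator_layer_fitting] at h1
    apply hnc
    refine ⟨⟨fun a b => ?_⟩⟩
    have h2 : ⁅(a : G), (b : G)⁆ ∈ ⁅N, N⁆ := Subgroup.commutator_mem_commutator a.2 b.2
    have h3 := h1 h2
    rw [Subgroup.mem_bot, commutatorElement_def] at h3
    apply Subtype.ext
    show (a : G) * b = b * a
    calc (a : G) * b = ((a : G) * b * (a : G)⁻¹ * (b : G)⁻¹) * (b * a) := by group
      _ = b * a := by rw [h3, one_mul]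
  have hlayer : Cfsg.layer G ≤ N := by
    unfold Cfsg.layer
    apply sSup_le
    intro K hK
    rcases Cfsg.Agent.Lib.Helper21.component_le_or_commutes_normal hK hN with h | h
    · exact h
    · exfalso
      apply Cfsg.Agent.Lib.Helper22.component_ne_bot hK
      rw [eq_bot_iff, ← hCN]
      intro k hk
      apply Subgroup.mem_centralizer_iff.mpr
      intro n hn
      have h2 : ⁅n, k⁆ ∈ ⁅N, K⁆ := Subgroup.commutator_mem_commutator hn hk
      rw [h, Subgroup.mem_bot, commutatorElement_def] at h2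
      calc n * k = (n * k * n⁻¹ * k⁻¹) * (k * n) := by group
        _ = k * n := by rw [h2, one_mul]
  have hFN : Cfsg.generalizedFittingSubgroup G = N := by
    unfold Cfsg.generalizedFittingSubgroup
    rw [hfit, sup_bot_eq]
    exact le_antisymm hlayer hNlayer
  rw [hFN]
  exact ⟨hsimple, hnc, hVN⟩

end Cfsg.Agent.Lib.Helper50
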